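import Cfsg.Agent.T44.Cl.Small2

/-!
# S3544, classical groups: dimension at most eight, the contradiction (helper34)
-/

set_option autoImplicit false

namespace Cfsg.Agent.T44.Cl

open Cfsg Cfsg.Agent.T44 Cfsg.Agent.DS Cfsg.Agent.DS.Cl Subgroup
open scoped commutatorElement

variable {A : Type} [Ring A] [StarRing A] {F : FR A}

local notation "κ" => DS.Cl.cj

theorem index_permOn {G X : Type} [Group G] [MulAction G X] (P : Subgroup G) (D : Finset X)
    (h : P ≤ setStab G (D : Set X)) {n : ℕ} (hn : D.card ≤ n) : (permOn P (D : Set X) h).ker.index ∣ n.factorial := by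
  classical
  rw [index_ker]
  refine (card_subgroup_dvd_card _).trans ?_
  rw [Nat.card_perm, Nat.card_coe_set_eq, Set.ncard_coe_finset]
  exact Nat.factorial_dvd_factorial hn

theorem sgn_add {M : Type} [Group M] [DecidableEq M] {m z w : M} (hm : m * m = 1) (hz : z = 1 ∨ z = m)
    (hw : w = 1 ∨ w = m) :
    (if z * w = 1 then (0 : ZMod 2) else 1) = (if z = 1 then 0 else 1) + if w = 1 then 0 else 1 := by
  by_cases h : m = 1
  · subst h
    simp [or_self_iff.1 hz, or_self_iff.1 hw]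
  rcases hz with rfl | rfl <;> rcases hw with rfl | rfl <;> simp [h, hm]
  rfl

namespace SC

variable [Finite A] {r l : ℕ} {N Q E : Subgroup (RingAut A)} (h : SC F r l N Q E) {D : Finset A} (a : Ato N E D)
include h a

theorem fin (K : Subgroup N) {i j : ℕ} (hi : K.index ∣ 2 ^ i * 3 ^ j * 5 * 7)
    (hc : ∀ γ ∈ K, ∀ k : ℕ, γ.1 ^ l ^ k = 1 → γ.1 ∈ centralizer (E : Set (RingAut A))) : False := by
  have := finite_ringAut (A := A)
  refine not_sq_dvd h.prime h.five i j hi ?_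
  have h1 := dvd_relIndex_of_ell h.prime (K := K.map N.subtype) (map_subtype_le K) (by
    rintro _ ⟨γ, hγ, rfl⟩ k hk
    exact h.ell_cent a γ.2 (hc γ hγ k hk) hk) h.dvd
  rwa [relIndex, subgroupOf, comap_map_eq_self_of_injective N.subtype_injective] at h1

omit [Finite A] h in
theorem mem_ker {γ : N} (hγ : γ ∈ (permOn N (D : Set A) a.stab).ker) : γ.1 ∈ N ⊓ ptStab (RingAut A) (D : Set A) :=
  ⟨γ.2, fun x hx => by
    have h1 := permOn_apply N D a.stab γ ⟨x, hx⟩
    rw [MonoidHom.mem_ker.1 hγ] at h1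
    exact h1.symm⟩

theorem false_of_fix (hf : ∀ u ∈ F.Iso, κ A u ∈ E → (u : A) ∈ fixR E) : False := by
  refine h.fin a (permOn N (D : Set A) a.stab).ker (i := 7) (j := 2)
    (index_permOn N D a.stab (h.tiny.fr D a.idem a.orth a.ne)) fun γ hγ k hk => mem_centralizer_iff.2 fun x hx => ?_
  obtain ⟨u, hu, rfl⟩ := h.E_PI hx
  exact (cent_of_fix (h.ell_fix a (mem_ker a hγ) hk hu hx (hf u hu hx))).symm

omit a [Finite A] in
theorem ev_sgn {δ : RingAut A} (hδ : δ ∈ E) {u : Aˣ} (hu : u ∈ F.Iso) (h1 : κ A u ∈ E) : ev δ u = 1 ∨ ev δ u = -1 := by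
  refine or_iff_not_imp_left.2 fun hne => Units.ext ?_
  have h2 := ev_cen (h.comm δ hδ _ h1)
  have h3 := ev_mem (h.E_Aut hδ) hu
  have h4 := Ext.isUnit_sub_one h.ss h2 h3.1 fun e => hne (Units.ext e)
  have h5 : ((ev δ u : A) - 1) * (ev δ u + 1) = 0 := by
    rw [sub_mul, mul_add, ← Units.val_mul, ← pow_two, h.tiny.sq h3 h2, Units.val_one, mul_one, one_mul,
      add_comm, sub_self]
  exact eq_neg_of_add_eq_zero_left (h4.mul_right_eq_zero.1 h5)

omit [Finite A] in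
theorem card_le_four {u v : Aˣ} (hv : v ∈ F.Iso) (h1 : κ A u ∈ E) (h2 : κ A v ∈ E)
    (hne : ev (κ A u) v ≠ 1) : D.card ≤ 4 := by
  refine h.tiny.fr2 D a.idem a.orth fun e he => ⟨u, v, comm_of_fixR h1 (a.mem e he).1,
    comm_of_fixR h2 (a.mem e he).1, fun e1 => a.ne e he ?_⟩
  have h3 := Ext.isUnit_sub_one h.ss (ev_cen (h.comm _ h1 _ h2)) (ev_mem (h.E_Aut h1) hv).1
    fun e => hne (Units.ext e)
  have h4 : (ev (κ A u) v : A) * (v * u) = u * v := by rw [← mul_assoc, ev_mul_self, cj_mul_eq]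
  have h5 : ((ev (κ A u) v : A) - 1) * (((v * u : Aˣ) : A) * e) = 0 := by
    rw [sub_mul, one_mul, Units.val_mul, ← mul_assoc, h4, e1, sub_self]
  exact (Units.isUnit _).mul_right_eq_zero.1 (h3.mul_right_eq_zero.1 h5)

omit a [Finite A] in
theorem ell_ne {δ : RingAut A} (hδ : δ ∈ E) {u : Aˣ} (hu : u ∈ F.Iso) (h1 : κ A u ∈ E) (hne : ev δ u ≠ 1) : l ≠ r := by
  rintro rfl
  have h2 := ev_cen (h.comm δ hδ _ h1)
  have h3 : ∀ n : ℕ, ev (δ ^ n) u = ev δ u ^ n := fun n => by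
    induction n with
    | zero => rw [pow_zero, pow_zero, ev_eq_one]; rfl
    | succ n ih => rw [pow_succ, ev_mul_left (F.PI_le_Lin (h.E_PI (pow_mem hδ n))) h2, ih, pow_succ]
  obtain ⟨m, hm⟩ := h.prime.odd_of_ne_two (by have := h.five; omega)
  have h4 := h3 l
  rw [h.exp δ hδ, ev_eq_one.2 rfl, hm, pow_succ, pow_mul, h.tiny.sq (ev_mem (h.E_Aut hδ) hu) h2, one_pow,
    one_mul] at h4
  exact hne h4.symm

open Classical in
/-- the commutator form -/
noncomputable def bt (t : E → Aˣ) (x z : E) : ZMod 2 := if ev z.1 (t x) = 1 then 0 else 1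

omit a h [StarRing A] [Finite A] in
theorem bt_eq_zero {t : E → Aˣ} {x z : E} : bt t x z = 0 ↔ ev z.1 (t x) = 1 := by
  unfold bt
  split_ifs with h <;> simp [h]

variable {t : E → Aˣ} (ht : ∀ x, t x ∈ F.Iso) (ht' : ∀ x, κ A (t x) = x)
include ht ht'

omit a [Finite A] in
theorem bt_left (x y z : E) : bt t (x * y) z = bt t x z + bt t y z := by
  classical
  have hm : ∀ x, κ A (t x) ∈ E := fun x => ht' x ▸ x.2
  unfold bt
  rw [ev_congr (F.PI_le_Lin (h.E_PI z.2)) (v := t x * t y) (by rw [map_mul, ht', ht', ht', coe_mul]),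
    ev_mul_right _ _ (ev_cen (h.comm _ z.2 _ (hm y)))]
  convert sgn_add (m := -1) (by simp) (h.ev_sgn z.2 (ht x) (hm x)) (h.ev_sgn z.2 (ht y) (hm y))

omit a [Finite A] in
theorem bt_right (x y z : E) : bt t x (y * z) = bt t x y + bt t x z := by
  classical
  have hm : ∀ x, κ A (t x) ∈ E := fun x => ht' x ▸ x.2
  unfold bt
  rw [coe_mul, ev_mul_left (F.PI_le_Lin (h.E_PI y.2)) (ev_cen (h.comm _ z.2 _ (hm x)))]
  convert sgn_add (m := -1) (by simp) (h.ev_sgn y.2 (ht x) (hm x)) (h.ev_sgn z.2 (ht x) (hm x))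

omit a in
theorem bt_card : Nat.card (Set.range (bt t)) ≤ 64 := by
  have := finite_ringAut (A := A)
  have : Fintype E := Fintype.ofFinite E
  have : Fintype (Set.range (bt t)) := Fintype.ofFinite _
  have hm : ∀ x, κ A (t x) ∈ E := fun x => ht' x ▸ x.2
  obtain ⟨π, m, hπ⟩ := exists_avgE E h.card_unit
  choose s hs using fun i : Set.range (bt t) => i.2
  rw [Nat.card_eq_fintype_card]
  refine h.tiny.ind _ (fun i => t (s i)) fun c hc h0 j => ?_
  have hc' : ∀ i, c i ∈ fixR E := fun i δ hδ => F.PI_le_Lin (h.E_PI hδ) _ (hc i)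
  have h1 := congrArg (fun y => π (y * ((t (s j))⁻¹ : Aˣ))) h0
  simp only [Finset.sum_mul, map_sum, zero_mul, map_zero, mul_assoc, hπ.mul_left (hc' _)] at h1
  rw [Finset.sum_eq_single j (fun i _ hij => ?_) (fun h => absurd (Finset.mem_univ _) h), Units.mul_inv,
    hπ.of_mem (one_mem _), mul_one] at h1
  · exact h1
  rw [← Units.val_mul, hπ.eigen h.ss h.E_PI (mul_mem (ht _) (inv_mem (ht _)))
    (by rw [map_mul, map_inv]; exact cm_iff.1 h.comm (mul_mem (hm _) (inv_mem (hm _)))) fun hf => hij ?_, mul_zero]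
  refine Subtype.ext (by
    rw [← hs i, ← hs j]
    funext z
    have h2 := ev_mul_right z.1 (t (s i) * (t (s j))⁻¹) (ev_cen (h.comm _ z.2 _ (hm (s j))))
    rw [inv_mul_cancel_right, ev_eq_one.2 (hf _ z.2), one_mul] at h2
    unfold bt
    rw [h2])

omit a [Finite A] ht in
theorem bt_conj (γ : N) (x y : E) :
    bt t (E.normalizerMonoidHom.comp (inclusion h.norm) γ x) (E.normalizerMonoidHom.comp (inclusion h.norm) γ y) =
      bt t x y := by
  have e1 : ∀ x : E, (E.normalizerMonoidHom.comp (inclusion h.norm) γ x).1 = γ.1 * x * γ.1⁻¹ := fun x => rfl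
  have h1 : ev (E.normalizerMonoidHom.comp (inclusion h.norm) γ y).1
      (t (E.normalizerMonoidHom.comp (inclusion h.norm) γ x)) = um γ.1 (ev y.1 (t x)) := by
    rw [ev_congr (F.PI_le_Lin (h.E_PI (Subtype.prop _))) (v := um γ.1 (t x)) (by rw [ht', e1, ← conj_cj, ht']), e1,
      ev_conj]
  have h2 : um γ.1 (ev y.1 (t x)) = 1 ↔ ev y.1 (t x) = 1 := map_eq_one_iff _ (Units.map_injective γ.1.injective)
  unfold bt
  rw [h1]
  by_cases h3 : ev y.1 (t x) = 1
  · rw [if_pos h3, if_pos (h2.2 h3)]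
  · rw [if_neg h3, if_neg (mt h2.1 h3)]

omit ht ht' a in
theorem false : False := by
  have := finite_ringAut (A := A)
  obtain ⟨D, a⟩ := h.exists_ato
  refine h.false_of_fix a fun v hv h1 δ hδ => ?_
  by_contra hne
  rw [← ev_eq_one] at hne
  have hlr := h.ell_ne hδ hv h1 hne
  choose t ht ht' using fun x : E => h.E_PI x.2
  have h4 := h.card_le_four a (u := t ⟨δ, hδ⟩) hv (by rw [ht']; exact hδ) h1 (by rwa [ht'])
  obtain ⟨K, hK, hK'⟩ := exists_sp_ker (bt t) (h.bt_left ht ht') (h.bt_right ht ht')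
    (fun x => bt_eq_zero.2 (by rw [← ht' x, ev_cj, commutatorElement_self])) (h.bt_card ht ht')
    (E.normalizerMonoidHom.comp (inclusion h.norm)) (h.bt_conj ht')
  refine h.fin a ((permOn N (D : Set A) a.stab).ker ⊓ K) (i := 12) (j := 5) ?_ fun γ hγ k hk =>
    mem_centralizer_iff.2 fun x hx => ?_
  · rw [← relIndex_mul_index (inf_le_right : _ ⊓ K ≤ K), inf_relIndex_right]
    exact (mul_dvd_mul ((relIndex_dvd_index_of_normal _ _).trans (index_permOn N D a.stab h4)) hK).trans (by decide)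
  let c : E := E.normalizerMonoidHom.comp (inclusion h.norm) γ ⟨x, hx⟩ * ⟨x, hx⟩⁻¹
  have hc : c.1 = ⁅γ.1, x⁆ := rfl
  have h5 : (t c : A) ∈ fixR E := fun z hz => ev_eq_one.1 (bt_eq_zero (z := ⟨z, hz⟩).1 (by
    have h6 := h.bt_left ht ht' c ⟨x, hx⟩ ⟨z, hz⟩
    rw [inv_mul_cancel_right, hK' γ hγ.2] at h6
    exact right_eq_add.1 h6))
  have h6 := cent_of_fix (h.ell_fix a (mem_ker a hγ.1) hk (ht c) (by rw [ht']; exact c.2) h5)
  rw [ht', hc] at h6
  have h7 := pow_mul_of_comm h6 (l ^ k)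
  rw [hk, one_mul, mul_one, right_eq_mul] at h7
  have h8 : ⁅γ.1, x⁆ = 1 := orderOf_eq_one_iff.1 (Nat.eq_one_of_dvd_coprimes
    (((Nat.coprime_primes h.prime h.ch.prime).2 hlr).pow_left k) (orderOf_dvd_of_pow_eq_one h7)
    (orderOf_dvd_of_pow_eq_one (h.exp _ c.2)))
  exact (commutatorElement_eq_one_iff_mul_comm.1 h8).symm

end SC

end Cfsg.Agent.T44.Cl
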