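import Cfsg.Agent.T44.Cl.Rows
import Cfsg.Agent.T44.Cl.Small3

/-!
# S3544, classical groups: the symplectic and the plus type orthogonal rows (helper34)
-/

set_option autoImplicit false

namespace Cfsg.Agent.T44.Cl

open Cfsg Cfsg.Agent.T44 Cfsg.Agent.DS Cfsg.Agent.DS.Cl Cfsg.Agent.DS.Cl.Fwd Subgroup

section tr

variable {G Γ : Type*} [Group G] [Group Γ] {T : Subgroup G} {S : Subgroup Γ}

theorem tr_norm (e : S ≃* T) {X Y : Subgroup G} (hX : X ≤ T) (hY : Y ≤ T) (h : X ≤ normalizer (Y : Set G)) :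
    tr e X ≤ normalizer (tr e Y : Set Γ) := by
  refine (norm_map_iff S.subtype_injective).2 ((norm_map_iff (psi_inj e)).1 ?_)
  rwa [map_comap_psi e hX, map_comap_psi e hY]

theorem tr_relIndex (e : S ≃* T) {X Y : Subgroup G} (hY : Y ≤ T) : (tr e X).relIndex (tr e Y) = X.relIndex Y := by
  rw [tr, tr, relIndex_map_map_of_injective _ _ S.subtype_injective, relIndex_comap, map_comap_psi e hY]

theorem exists_psi (e : S ≃* T) {x : G} (hx : x ∈ T) : ∃ s, psi e s = x := by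
  obtain ⟨s, hs⟩ := e.surjective ⟨x, hx⟩
  exact ⟨s, congrArg Subtype.val hs⟩

end tr

variable {G : Type} [Group G] [Finite G] {T H Q : Subgroup G} {r : ℕ} {Ya Yb : Set G} {da db : ℕ}

theorem row_tiny {A : Type} [Ring A] [StarRing A] [Finite A] (h : AS T H Q r Ya Yb da db) (hu : IsUnit (r : A))
    (ht : Tiny A) {X : Type} [Group X] (e : T ≃* X) {Γ : Set (MulAut X)} (hm : ModelOn A X Γ) : False := by
  obtain ⟨F, f, hss, -, -⟩ := hm
  obtain ⟨l, l1, l2, l3, l4⟩ := exists_ell h.toCfg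
  let e' : F.S ≃* T := f.trans e.symm
  have hs := sit_of_cfg h.toCfg
  have hE : OZ r Q ≤ Q := fun x hx => hx.1.1
  have hn := OZ_norm (r := r) h.H_norm_Q
  refine SC.false (F := F) (l := l) (E := tr e' (OZ r Q)) ⟨ht, hss, (hs.tr e' inf_le_left).toCh, tr_le _ _, hu,
    tr_mono _ (hE.trans h.Q_le_M), ?_, ?_, tr_norm e' inf_le_left (hE.trans h.Q_le_T) (inf_le_right.trans hn), ?_,
    l1, l2, l3, by rwa [tr_relIndex e' inf_le_left]⟩
  · rintro _ ⟨s, hs, rfl⟩ _ ⟨t, ht, rfl⟩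
    refine congrArg Subtype.val (psi_inj e' (a₁ := s * t) (a₂ := t * s) ?_)
    rw [map_mul, map_mul]
    exact mem_centralizer_iff.1 ht.1.2 _ hs.1.1
  · rintro _ ⟨s, hs, rfl⟩
    refine congrArg Subtype.val (psi_inj e' (a₁ := s ^ r) (a₂ := 1) ?_)
    rw [map_pow, map_one]
    exact hs.2
  · rintro s ⟨s1, s2⟩
    refine (mem_tr (s := ⟨s, s1⟩)).2 ⟨(e' ⟨s, s1⟩).2, h.cent_le (hE.trans h.Q_le_H)
      (OZ_ne h.prime hs.isO.pg hs.Q_ne) hn (mem_centralizer_iff.2 fun x hx => ?_)⟩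
    obtain ⟨t, rfl⟩ := exists_psi e' (h.Q_le_T (hE hx))
    rw [← map_mul, ← map_mul, show t * ⟨s, s1⟩ = ⟨s, s1⟩ * t from
      Subtype.ext (mem_centralizer_iff.1 s2 _ (mem_tr.2 hx))]

theorem boxB2 : BoxB2 := by
  rintro G _ _ T H Q r Ya Yb da db h ⟨F, _, _, h3, hr, ⟨e⟩⟩
  exact row_tiny h (isUnit_EB _ hr) (tiny_EB (spH 2 F) (fun _ => rfl) (by simp)) e (modSp F 2 le_rfl fun _ => h3)

open Cfsg.Agent.LieClassical.OrthForms Cfsg.Agent.ClassicalGeometry.OrthSemiForms in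
theorem boxD4 : BoxD4 := by
  rintro G _ _ T H Q r Ya Yb da db h ⟨F, _, _, hr, ⟨e⟩⟩
  have hG := good_plus (F := F) (m := 4) (by omega)
  have key : ∀ f, ⇑(plusForm 4 F) = f → T ≃* POmega F f → False := by
    rintro _ rfl e
    exact row_tiny h (isUnit_EB _ hr) (tiny_EB (orH _ hG.nondeg) (fun _ => rfl) (by simp)) (e.trans (pomegaEquiv hG))
      (modO F _ _ hG)
  exact key _ (coe_plusForm _ _) e

theorem boxPSp : BoxPSp := boxPSp_of boxB2

theorem boxOPlus : BoxOPlus := boxOPlus_of boxD4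

end Cfsg.Agent.T44.Cl
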