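import Cfsg.Agent.T44.Spor.Chk
import Cfsg.Agent.CpAutTits.Row

/-!
# S3544, the Tits group (helper34, with the test of helper35)
-/

set_option autoImplicit false

namespace Cfsg.Agent.T44.Cl

open Cfsg Cfsg.Agent.T44 Cfsg.Agent.T44.Spor

theorem boxTits : BoxTits := by
  rintro - G _ _ T H Q r Ya Yb da db h hT
  have d : Dat T 17971200 [(5, 2, 1)] [] := dat_of (MulEquiv.refl T) (CpAutTits.Row.out hT).card (by decide +kernel)
    (by
      intro c hc y hy
      rw [List.mem_singleton.1 hc] at hy ⊢
      rw [(CpAutTits.Row.out hT).cent y hy]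
      decide) (by simp)
  exact d.false_of h.toCfg (by decide +kernel)

end Cfsg.Agent.T44.Cl
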