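import Cfsg.Agent.T44.Basic
import Cfsg.Agent.R2.T3544.OffA

/-!
# S3544, local case: `Q` is not an elementary abelian minimal normal subgroup of `H` (helper34)
-/

set_option autoImplicit false

namespace Cfsg.Agent.T44

open Subgroup Cfsg Cfsg.Agent.R2.T3544

section off

variable {G : Type*} [Group G]

theorem not_le_cent_symm {A D : Subgroup G} (h : ¬ A ≤ centralizer (D : Set G)) : ¬ D ≤ centralizer (A : Set G) :=
  fun h1 => h (le_centralizer_iff.1 h1)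

variable [Finite G]

/-- a best offender of maximal measure in `A` -/
theorem exists_bestOff_max (A V : Subgroup G) : ∃ B ≤ A, (∀ C ≤ A,
    Nat.card C * Nat.card (V ⊓ centralizer (C : Set G) : Subgroup G) ≤
      Nat.card B * Nat.card (V ⊓ centralizer (B : Set G) : Subgroup G)) ∧ BestOff B V := by
  classical
  obtain ⟨B, hB, hmax⟩ := Set.exists_max_image {B : Subgroup G | B ≤ A}
    (fun C : Subgroup G => Nat.card C * Nat.card (V ⊓ centralizer (C : Set G) : Subgroup G)) (Set.toFinite _)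
    ⟨A, (le_rfl : A ≤ A)⟩
  exact ⟨B, hB, fun C hC => hmax C hC, fun C hC => hmax C (hC.trans hB)⟩

/-- if `A` contains no nontrivial best offender on `V` and does not centralise `V`, then
`|A| |C_V(A)| < |C_A(V)| |V|` -/
theorem card_lt_of_no_off {A V : Subgroup G} (h : ∀ B ≤ A, BestOff B V → B ≤ centralizer (V : Set G))
    (hA : ¬ A ≤ centralizer (V : Set G)) :
    Nat.card A * Nat.card (V ⊓ centralizer (A : Set G) : Subgroup G) <
      Nat.card (A ⊓ centralizer (V : Set G) : Subgroup G) * Nat.card V := by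
  obtain ⟨B, hBA, hmax, hbo⟩ := exists_bestOff_max A V
  have hBV := h B hBA hbo
  have hVB : V ⊓ centralizer (B : Set G) = V := inf_eq_left.2 (le_centralizer_iff.1 hBV)
  rw [hVB] at hmax
  refine lt_of_lt_of_le (lt_of_le_of_ne (hmax A le_rfl) ?_)
    (Nat.mul_le_mul_right _ (card_le_of_le (le_inf hBA hBV)))
  intro heq
  apply hA
  apply h A le_rfl
  intro C hC
  rw [heq]
  exact hmax C hC

/-- **the size lemma** in the form used here -/
theorem size_lemma' {r : ℕ} [Fact r.Prime] {S V X₁ X₂ A B D N₁ N₂ : Subgroup G}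
    (hV : MinInv S V) (hEA : IsEA r V) (hS1 : S ≤ normalizer (X₁ : Set G)) (hS2 : S ≤ normalizer (X₂ : Set G))
    (hX1 : X₁ ≤ S) (hX2 : X₂ ≤ S) (hcomm : ⁅X₁, X₂⁆ ≤ centralizer (V : Set G)) (hAB : A ≤ B) (hBX : B ≤ X₁)
    (hA : IsPGroup r A) (hD : D = V ∨ D = ⁅V, B⁆) (hbest : BestOff A D) (hnc : ¬ D ≤ centralizer (A : Set G))
    (hN1 : MinInv X₁ N₁) (hN1V : N₁ ≤ V) (hN2 : MinInv X₂ N₂) (hN2V : N₂ ≤ V) : Nat.card N₂ < Nat.card N₁ :=
  size_lemma hV hEA hS1 hS2 hX1 hX2 hcomm hAB hBX hA hD hbest hnc hN1 hN1V hN2 hN2V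

end off

end Cfsg.Agent.T44

namespace Cfsg.Agent.T44.Cl

open Subgroup Cfsg Cfsg.Agent.T44 Cfsg.Agent.R2.T3544

variable {G : Type*} [Group G] [Finite G] {T H Q : Subgroup G} {r : ℕ} {Ya Yb : Set G} {da db : ℕ}

theorem ab_aux (h : Cfg T H Q r Ya Yb da db) (hE : IsEA r Q) (hV : MinInv H Q) {N₁ N₂ : Subgroup G}
    (hN1 : MinInv (Lg Q Ya) N₁) (hN1V : N₁ ≤ Q) (hN2 : MinInv (Lg Q Yb) N₂) (hN2V : N₂ ≤ Q) :
    Nat.card N₂ < Nat.card N₁ := by
  have : Fact r.Prime := ⟨h.prime⟩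
  obtain ⟨y, hy⟩ := h.A.ne
  have hQc : Q ≤ centralizer (Q : Set G) := fun a ha => mem_centralizer_iff.2 fun b hb => hE.1 b hb a ha
  have hAc : cj y Q ≤ centralizer (cj y Q : Set G) := by
    rw [← cj_centralizer]; exact cj_mono y hQc
  have hna : ¬ cj y Q ≤ centralizer (Q : Set G) := fun e =>
    h.not_cj_Q_le (h.A.notMem y hy) ((le_inf (h.cj_Q_le_T y) e).trans h.cent_Q)
  have hex : ∃ B ≤ cj y Q, BestOff B Q ∧ ¬ B ≤ centralizer (Q : Set G) := by
    by_contra hc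
    push Not at hc
    have h1 := card_lt_of_no_off hc hna
    rw [card_cj, mul_comm] at h1
    have h2 : cj y Q ⊓ centralizer (Q : Set G) ≤ Q ⊓ centralizer (cj y Q : Set G) :=
      le_inf ((inf_le_inf_right _ (h.cj_Q_le_T y)).trans h.cent_Q) (inf_le_left.trans hAc)
    exact absurd h1 (not_lt.2 (Nat.mul_le_mul_right _ (card_le_of_le h2)))
  obtain ⟨B, hB, hbo, hnc⟩ := hex
  exact size_lemma' (r := r) (A := B) (B := B) (D := Q) hV hE h.H_norm_La h.H_norm_Lb (h.La_le_M.trans inf_le_right)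
    (h.Lb_le_M.trans inf_le_right) (h.comm_le.trans hQc) le_rfl
    (hB.trans (cj_le_Lg hy)) ((isPGroup_cj y h.isO.pg).to_le hB) (Or.inl rfl) hbo (not_le_cent_symm hnc)
    hN1 hN1V hN2 hN2V

theorem exists_minInv_le {X V : Subgroup G} (hV : V ≠ ⊥) (hX : X ≤ normalizer (V : Set G)) :
    ∃ N, MinInv X N ∧ N ≤ V := by
  obtain ⟨N, hNV, hN⟩ := Finite.exists_le_minimal (p := fun N : Subgroup G => N ≠ ⊥ ∧ X ≤ normalizer (N : Set G))
    (a := V) ⟨hV, hX⟩
  refine ⟨N, ⟨hN.prop.1, hN.prop.2, fun K hK hXK => ?_⟩, hNV⟩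
  by_cases e : K = ⊥
  · exact Or.inl e
  · exact Or.inr (le_antisymm hK (hN.le_of_le ⟨e, hXK⟩ hK))

/-- **AB**: `Q` is not elementary abelian and minimal `H`-invariant -/
theorem ab (h : Cfg T H Q r Ya Yb da db) (hc : ∀ a ∈ Q, ∀ b ∈ Q, a * b = b * a) (hr : ∀ a ∈ Q, a ^ r = 1)
    (hmin : ∀ K ≤ Q, H ≤ normalizer (K : Set G) → K = ⊥ ∨ K = Q) : False := by
  have hV : MinInv H Q := ⟨h.Q_ne, h.H_norm_Q, hmin⟩
  obtain ⟨N₁, h1, h1'⟩ := exists_minInv_le h.Q_ne ((h.La_le_M.trans inf_le_right).trans h.H_norm_Q)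
  obtain ⟨N₂, h2, h2'⟩ := exists_minInv_le h.Q_ne ((h.Lb_le_M.trans inf_le_right).trans h.H_norm_Q)
  exact lt_asymm (ab_aux h ⟨hc, hr⟩ hV h1 h1' h2 h2') (ab_aux h.symm ⟨hc, hr⟩ hV h2 h2' h1 h1')

end Cfsg.Agent.T44.Cl
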