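import Cfsg.Agent.T44.Cl.Wr
import Mathlib.GroupTheory.SpecificGroups.Alternating.Simple

/-!
# S3544, alternating groups: partitions (helper34)
-/

set_option autoImplicit false

namespace Cfsg.Agent.T44.Cl

open Cfsg Cfsg.Agent.T44 Cfsg.Agent.DS.Cl Subgroup Equiv
open scoped commutatorElement Pointwise

variable {Ω : Type}

/-- a partition -/
structure Pt (D : Set (Set Ω)) : Prop where
  ne : ∀ e ∈ D, e.Nonempty
  cov : ∀ x, ∃ e ∈ D, x ∈ e
  eq : ∀ e ∈ D, ∀ f ∈ D, ∀ x ∈ e, x ∈ f → e = f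

/-- the permutations supported on `e` -/
abbrev Sy (e : Set Ω) : Subgroup (Perm Ω) := ptStab (Perm Ω) eᶜ

theorem Sy.mem_iff {e : Set Ω} {σ : Perm Ω} (h : σ ∈ Sy e) (x : Ω) : σ x ∈ e ↔ x ∈ e := by
  refine ⟨fun h1 => by_contra fun h2 => h2 ?_, fun h1 => by_contra fun h2 => h2 ?_⟩
  · rwa [show σ x = x from h x h2] at h1
  · rwa [σ.injective (show σ (σ x) = σ x from h _ h2)]

theorem smul_eq_of_iff {e : Set Ω} {σ : Perm Ω} (h : ∀ x, σ x ∈ e ↔ x ∈ e) : σ • e = e := by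
  ext x
  rw [Set.mem_smul_set_iff_inv_smul_mem, ← h, Perm.smul_def, Perm.coe_inv, apply_symm_apply]

theorem iff_of_smul_eq {e : Set Ω} {σ : Perm Ω} (h : σ • e = e) (x : Ω) : σ x ∈ e ↔ x ∈ e := by
  conv_lhs => rw [← h]
  exact Set.smul_mem_smul_set_iff

theorem range_ofSubtype (e : Set Ω) [DecidablePred (· ∈ e)] : (Perm.ofSubtype : Perm e →* Perm Ω).range = Sy e := by
  apply le_antisymm
  · rintro _ ⟨σ, rfl⟩ x hx
    exact Perm.ofSubtype_apply_of_not_mem σ hx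
  · exact fun σ h => ⟨σ.subtypePerm (Sy.mem_iff h), Perm.ofSubtype_subtypePerm _ fun x hx => by_contra fun e => hx (h x e)⟩

theorem norm_Sy (e : Set Ω) : setStab (Perm Ω) e ≤ normalizer (Sy e : Set (Perm Ω)) :=
  norm_of_conj fun _ ha _ hx => conj_mem_ptStab (fun x => not_congr (ha x)) hx

namespace Pt

variable {D : Set (Set Ω)} (p : Pt D)
include p

theorem Sy_le {e : Set Ω} (he : e ∈ D) : Sy e ≤ ptStab (Perm Ω) D := fun σ hσ f hf => by
  refine smul_eq_of_iff fun x => ?_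
  by_cases hx : x ∈ e
  · have h1 := (Sy.mem_iff hσ x).2 hx
    exact ⟨fun h => p.eq e he f hf _ h1 h ▸ hx, fun h => p.eq e he f hf _ hx h ▸ h1⟩
  · rw [show σ x = x from hσ x hx]

theorem base [Finite Ω] : ptStab (Perm Ω) D ≤ ⨆ e ∈ D, Sy e := by
  classical
  have := Fintype.ofFinite Ω
  suffices ∀ n, ∀ σ ∈ ptStab (Perm Ω) D, σ.support.card = n → σ ∈ ⨆ e ∈ D, Sy e from fun σ h => this _ σ h rfl
  intro n
  induction n using Nat.strong_induction_on with
  | _ n ih =>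
    intro σ hσ hn
    by_cases h0 : σ = 1
    · rw [h0]; exact one_mem _
    obtain ⟨x, hx⟩ : ∃ x, σ x ≠ x := by
      by_contra hcon
      push Not at hcon
      exact h0 (Equiv.ext hcon)
    obtain ⟨e, he, hxe⟩ := p.cov x
    have h1 := iff_of_smul_eq (hσ e he)
    let δ := Perm.ofSubtype (σ.subtypePerm h1)
    have h2 : δ ∈ Sy e := range_ofSubtype e ▸ ⟨_, rfl⟩
    have h3 : ∀ y ∈ e, (δ⁻¹ * σ) y = y := fun y hy => by
      rw [Perm.mul_apply, Perm.inv_eq_iff_eq, Perm.ofSubtype_subtypePerm_of_mem h1 hy]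
    have h4 : (δ⁻¹ * σ).support ⊂ σ.support := by
      refine Finset.ssubset_iff_subset_ne.2 ⟨fun y hy => Perm.mem_support.2 fun e1 => Perm.mem_support.1 hy ?_, fun e1 => ?_⟩
      · by_cases hy' : y ∈ e
        · exact h3 y hy'
        · rw [Perm.mul_apply, e1]
          exact inv_mem h2 y hy'
      · exact Perm.mem_support.1 (e1 ▸ Perm.mem_support.2 hx) (h3 x hxe)
    have h5 := ih _ (hn ▸ Finset.card_lt_card h4) _ (mul_mem (inv_mem (p.Sy_le he h2)) hσ) rfl
    have h6 := mul_mem (mem_iSup_of_mem e (mem_iSup_of_mem he h2)) h5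
    rwa [mul_inv_cancel_left] at h6

theorem disj {e f : Set Ω} (he : e ∈ D) (hf : f ∈ D) (hef : e ≠ f) {σ τ : Perm Ω} (hσ : σ ∈ Sy e) (hτ : τ ∈ Sy f) :
    σ.Disjoint τ := fun x => by
  by_cases hx : x ∈ e
  · exact Or.inr (hτ x fun h => hef (p.eq e he f hf x hx h))
  · exact Or.inl (hσ x hx)

variable [Fintype Ω] [DecidableEq Ω]

theorem wr : Wr (alternatingGroup Ω ⊓ setStab (Perm Ω) D) D Sy := by
  refine ⟨Set.toFinite _, inf_le_right, fun e he => le_inf ?_ ?_, ?_, ?_, fun e he => p.Sy_le he,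
    inf_le_right.trans p.base⟩
  · exact (commutator_mono le_top le_top).trans alternatingGroup.commutator_perm_le
  · exact (commutator_le_left_of_norm le_normalizer).trans ((p.Sy_le he).trans
      (le_setStab fun g hg x hx => by rwa [hg x hx]))
  · rintro γ - e - _ ⟨σ, hσ, rfl⟩ x hx
    have h1 : σ (γ⁻¹ x) = γ⁻¹ x := hσ _ fun h => hx (Set.mem_smul_set_iff_inv_smul_mem.2 h)
    change γ (σ (γ⁻¹ x)) = x
    rw [h1, Perm.coe_inv, apply_symm_apply]
  · exact fun e he f hf hef σ hσ => mem_centralizer_iff.2 fun τ hτ => (p.disj he hf hef hσ hτ).commute.eq.symm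

/-- the alternating group is primitive -/
theorem triv (h4 : 4 ≤ Fintype.card Ω) (h : alternatingGroup Ω ≤ setStab (Perm Ω) D) {e : Set Ω} (he : e ∈ D) :
    e.Subsingleton ∨ e = Set.univ := by
  by_contra hc
  rw [not_or, Set.not_subsingleton_iff, ← ne_eq, Set.ne_univ_iff_exists_notMem] at hc
  obtain ⟨⟨x, hx, y, hy, hxy⟩, z, hz⟩ := hc
  obtain ⟨w, -, hw⟩ : ∃ w ∈ Finset.univ, w ∉ ({x, y, z} : Finset Ω) :=
    Finset.exists_mem_notMem_of_card_lt_card (lt_of_le_of_lt Finset.card_le_three h4)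
  simp only [Finset.mem_insert, Finset.mem_singleton, not_or] at hw
  have hyz : y ≠ z := fun h => hz (h ▸ hy)
  have hxz : x ≠ z := fun h => hz (h ▸ hx)
  have h1 : swap y z * swap z w ∈ alternatingGroup Ω := by
    rw [Perm.mem_alternatingGroup, map_mul, Perm.sign_swap hyz, Perm.sign_swap (Ne.symm hw.2.2)]; rfl
  have h2 := p.eq _ ((h h1 e).1 he) e he x ⟨x, hx, by
    change swap y z (swap z w x) = x
    rw [swap_apply_of_ne_of_ne hxz (Ne.symm hw.1), swap_apply_of_ne_of_ne hxy hxz]⟩ hx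
  have h3 := (iff_of_smul_eq h2 y).2 hy
  rw [Perm.mul_apply, swap_apply_of_ne_of_ne hyz (Ne.symm hw.2.1), swap_apply_left] at h3
  exact hz h3

end Pt

end Cfsg.Agent.T44.Cl
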