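import Cfsg.Agent.T44.Cl.Alt1

/-!
# S3544, alternating groups: no invariant partition (helper34)
-/

set_option autoImplicit false

namespace Cfsg.Agent.T44.Cl

open Cfsg Cfsg.Agent.T44 Cfsg.Agent.DS.Cl Subgroup Equiv
open scoped commutatorElement Pointwise

variable {Ω : Type}

theorem sol_perm {α : Type} [Finite α] (h : Nat.card α ≤ 4) : Sm (Perm α) := by
  refine Sm.of_23 3 1 ?_
  rw [Nat.card_perm]
  exact Nat.factorial_dvd_factorial (n := 4) h

theorem Pt.exists_swap {D : Set (Set Ω)} (p : Pt D) {e f : Set Ω} (he : e ∈ D) (hf : f ∈ D) (hef : e ≠ f) {g : Perm Ω}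
    (hg : g • e = f) : ∃ d : Perm Ω, d • e = f ∧ d • f = e ∧ ∀ k ∈ D, k ≠ e → k ≠ f → d • k = k := by
  classical
  have h1 : ∀ x, x ∈ e → x ∉ f := fun x hx h => hef (p.eq e he f hf x hx h)
  have h2 : ∀ x, g x ∈ f ↔ x ∈ e := fun x => by rw [← hg]; exact Set.smul_mem_smul_set_iff
  have h3 : ∀ x, g.symm x ∈ e ↔ x ∈ f := fun x => by rw [← h2, apply_symm_apply]
  let s : Ω → Ω := fun x => if x ∈ e then g x else if x ∈ f then g.symm x else x
  have s1 : ∀ x ∈ e, s x = g x := fun x hx => if_pos hx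
  have s2 : ∀ x ∈ f, s x = g.symm x := fun x hx => by simp only [s, if_neg fun h => h1 x h hx, if_pos hx]
  have s3 : ∀ x, x ∉ e → x ∉ f → s x = x := fun x hx hx' => by simp only [s, if_neg hx, if_neg hx']
  have hs : Function.Involutive s := fun x => by
    by_cases hx : x ∈ e
    · rw [s1 x hx, s2 _ ((h2 x).2 hx), symm_apply_apply]
    by_cases hx' : x ∈ f
    · rw [s2 x hx', s1 _ ((h3 x).2 hx'), apply_symm_apply]
    rw [s3 x hx hx', s3 x hx hx']
  have h4 : hs.toPerm s • e = f := hg ▸ Set.image_congr s1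
  refine ⟨hs.toPerm s, h4, ?_, fun k hk n1 n2 => ?_⟩
  · rw [← h4, smul_smul, show hs.toPerm s * hs.toPerm s = 1 from Equiv.ext hs, one_smul]
  · exact (Set.image_congr fun x hx => s3 x (fun h => n1 (p.eq k hk e he x hx h))
      fun h => n2 (p.eq k hk f hf x hx h)).trans (Set.image_id k)

variable [Fintype Ω] [DecidableEq Ω]

theorem sm_Sy {r : ℕ} {K Q : Subgroup (Perm Ω)} (h : Ch r K Q) {e : Set Ω} (hK : ⁅Sy e, Sy e⁆ ≤ K)
    (hQ : Q ≤ setStab (Perm Ω) e) : Sm (Sy e) := by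
  classical
  let φ : Perm e ≃* Sy e :=
    (MonoidHom.ofInjective Perm.ofSubtype_injective).trans (MulEquiv.subgroupCongr (range_ofSubtype e))
  by_cases h5 : Nat.card e ≤ 4
  · exact (sol_perm h5).congr φ
  have h6 : Bg (commutator (Perm e)) := by
    rw [alternatingGroup.commutator_perm_eq (by omega)]
    have := alternatingGroup.isSimpleGroup (α := e) (by omega)
    exact Bg.of_nsol' (NSol.of_simple fun hc => by
      have h7 := alternatingGroup.isMulCommutative_iff_card_le_three.1 hc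
      omega)
  let f : commutator (Sy e) →* Perm Ω := (Sy e).subtype.comp (commutator (Sy e)).subtype
  have hr : f.range = ⁅Sy e, Sy e⁆ := by rw [MonoidHom.range_comp, range_subtype, map_subtype_commutator]
  refine absurd (h6.comm_congr φ) (h.crit f ?_ (hr ▸ hK) ?_)
  · rw [(MonoidHom.ker_eq_bot_iff f).2 ((Sy e).subtype_injective.comp (commutator (Sy e)).subtype_injective)]
    exact bot_le
  · rw [hr]
    exact norm_commutator (hQ.trans (norm_Sy e)) (hQ.trans (norm_Sy e))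

theorem Pt.alt_le {D : Set (Set Ω)} (p : Pt D) [Fintype D] [DecidableEq D] (h5 : 5 ≤ Fintype.card D)
    (htr : ∀ e ∈ D, ∀ f ∈ D, ∃ g : Perm Ω, g • e = f) :
    alternatingGroup D ≤ p.wr.top (alternatingGroup Ω ⊓ setStab (Perm Ω) D) := by
  have hP : (permOn (setStab (Perm Ω) D) D le_rfl).range = ⊤ := by
    rw [eq_top_iff, ← Perm.closure_isSwap, closure_le]
    rintro _ ⟨e, f, hef, rfl⟩
    have hef' : e.1 ≠ f.1 := fun h => hef (Subtype.ext h)
    obtain ⟨g, hg⟩ := htr e e.2 f f.2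
    obtain ⟨w, w1, w2, w3⟩ := p.exists_swap e.2 f.2 hef' hg
    refine swap_mem_range le_rfl (d := w) (fun g => ?_) w1 w2 w3
    by_cases n1 : g = e
    · rw [n1, w1]; exact iff_of_true e.2 f.2
    by_cases n2 : g = f
    · rw [n2, w2]; exact iff_of_true f.2 e.2
    refine ⟨fun h1 => by rwa [w3 _ h1 n1 n2], fun h1 => ?_⟩
    have n3 : w • g ≠ e := fun e' => n2 (smul_left_cancel w (e'.trans w2.symm))
    have n4 : w • g ≠ f := fun e' => n1 (smul_left_cancel w (e'.trans w1.symm))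
    exact smul_left_cancel w (w3 _ h1 n3 n4) ▸ h1
  rw [← alternatingGroup.commutator_perm_eq (α := D) (by rwa [Nat.card_eq_fintype_card]), commutator_def, ← hP,
    MonoidHom.range_eq_map, ← map_commutator]
  rintro _ ⟨g, hg, rfl⟩
  have h1 : g.1 ∈ ⁅setStab (Perm Ω) D, setStab (Perm Ω) D⁆ := by rw [← map_subtype_commutator]; exact ⟨g, hg, rfl⟩
  have h2 : g.1 ∈ alternatingGroup Ω ⊓ setStab (Perm Ω) D :=
    ⟨alternatingGroup.commutator_perm_le (commutator_mono le_top le_top h1), g.2⟩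
  exact ⟨⟨g.1, h2⟩, h2, rfl⟩

/-- `H` is maximal with respect to the alternating group -/
def Ax (H : Subgroup (Perm Ω)) : Prop :=
  ∀ X : Subgroup (Perm Ω), H ≤ X → ¬ alternatingGroup Ω ≤ X → alternatingGroup Ω ⊓ X ≤ H

namespace Ax

variable {H : Subgroup (Perm Ω)} (h : Ax H) {r : ℕ} {Q La Lb : Subgroup (Perm Ω)}
  (s : Sit r (alternatingGroup Ω ⊓ H) Q La Lb)
include h s

theorem not_inv {D : Set (Set Ω)} (p : Pt D) (hinv : H ≤ setStab (Perm Ω) D)
    (hn : ¬ alternatingGroup Ω ≤ setStab (Perm Ω) D)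
    (htr : Nat.card D ≤ 4 ∨ ∀ e ∈ D, ∀ f ∈ D, ∃ g : Perm Ω, g • e = f) : False := by
  classical
  have := Fintype.ofFinite D
  rw [le_antisymm (inf_le_inf_left _ hinv) (le_inf inf_le_left (h _ hinv hn))] at s
  have w := p.wr
  have hs : ∀ e ∈ D, Sm (Sy e) := fun e he => sm_Sy (s.toCh.sub inf_le_left w.norm_base) (w.comm_le_base he)
    fun σ hσ x => (iff_of_smul_eq (hσ.1.2 e he) x).symm
  by_cases h5 : Nat.card D ≤ 4
  · refine s.nsol (w.sol_of_top (w.sol_base fun e he => (hs e he).sol) ?_)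
    have := (sol_perm h5).sol
    infer_instance
  refine w.false s (fun _ e he f hf hef => eq_bot_iff.2 fun σ hσ => ?_) (fun e he => (hs e he).sol)
    (fun e he => (hs e he).alt.imp (fun h1 => ?_) id)
    (p.alt_le (by rw [← Nat.card_eq_fintype_card]; omega) (htr.resolve_left h5))
  · exact Perm.disjoint_refl_iff.1 (p.disj he hf hef hσ.1 hσ.2)
  · rw [← map_subtype_commutator]
    rintro _ ⟨a, ha, rfl⟩ _ ⟨b, hb, rfl⟩
    rw [← map_mul, ← map_mul, h1 a ha b hb]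

theorem trans (h4 : 4 ≤ Fintype.card Ω) (x y : Ω) : ∃ g ∈ H, g x = y := by
  by_contra hc
  let Δ : Set Ω := {z | ∃ g ∈ H, g x = z}
  have hx : x ∈ Δ := ⟨1, one_mem _, rfl⟩
  have p : Pt {Δ, Δᶜ} := by
    refine ⟨?_, fun z => ?_, ?_⟩
    · rintro _ (rfl | rfl)
      · exact ⟨x, hx⟩
      · exact ⟨y, hc⟩
    · by_cases hz : z ∈ Δ
      · exact ⟨_, Or.inl rfl, hz⟩
      · exact ⟨_, Or.inr rfl, hz⟩
    · rintro _ (rfl | rfl) _ (rfl | rfl) z h1 h2
      exacts [rfl, absurd h1 h2, absurd h2 h1, rfl]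
  have h1 : ∀ g ∈ H, g • Δ = Δ := fun g hg => smul_eq_of_iff fun z =>
    ⟨fun ⟨k, hk, e⟩ => ⟨g⁻¹ * k, mul_mem (inv_mem hg) hk, by rw [Perm.mul_apply, e, Perm.coe_inv, symm_apply_apply]⟩,
      fun ⟨k, hk, e⟩ => ⟨g * k, mul_mem hg hk, by rw [Perm.mul_apply, e]⟩⟩
  refine h.not_inv s p (le_setStab ?_) (fun hle => ?_) (Or.inl ?_)
  · rintro g hg _ (rfl | rfl)
    · exact Or.inl (h1 g hg)
    · exact Or.inr (by rw [Set.smul_set_compl, h1 g hg]; rfl)
  · have h2 := (p.triv h4 hle (Or.inl rfl)).resolve_right fun e => hc (show y ∈ Δ from e ▸ trivial)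
    have h3 := (p.triv h4 hle (Or.inr rfl)).resolve_right fun e => (show x ∈ Δᶜ from e ▸ trivial) hx
    have h5 := Set.ncard_add_ncard_compl Δ
    have h6 := (Set.ncard_le_one_iff_subsingleton).2 h2
    have h7 := (Set.ncard_le_one_iff_subsingleton).2 h3
    rw [Nat.card_eq_fintype_card] at h5
    omega
  · exact (Set.ncard_insert_le _ _).trans (by rw [Set.ncard_singleton]; omega)

/-- a normal abelian subgroup is regular -/
theorem cent_le (h4 : 4 ≤ Fintype.card Ω) {E : Subgroup (Perm Ω)} (hE : E ≠ ⊥) (hc : Cm E)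
    (hn : H ≤ normalizer (E : Set (Perm Ω))) : centralizer (E : Set (Perm Ω)) ≤ E := by
  let o : Ω → Set Ω := fun x => {z | ∃ g ∈ E, g x = z}
  have ho : ∀ x, x ∈ o x := fun x => ⟨1, one_mem _, rfl⟩
  have ho' : ∀ x z, z ∈ o x → o x = o z := by
    rintro x _ ⟨g, hg, rfl⟩
    ext y
    exact ⟨fun ⟨k, hk, e⟩ => ⟨k * g⁻¹, mul_mem hk (inv_mem hg), by rw [Perm.mul_apply, Perm.coe_inv, symm_apply_apply, e]⟩,
      fun ⟨k, hk, e⟩ => ⟨k * g, mul_mem hk hg, e⟩⟩
  have p : Pt (Set.range o) := by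
    refine ⟨?_, fun z => ⟨_, ⟨z, rfl⟩, ho z⟩, ?_⟩
    · rintro _ ⟨x, rfl⟩
      exact ⟨x, ho x⟩
    · rintro _ ⟨x, rfl⟩ _ ⟨y, rfl⟩ z h1 h2
      rw [ho' x z h1, ho' y z h2]
  have h1 : ∀ g ∈ H, ∀ x, g • o x = o (g x) := fun g hg x => by
    ext y
    constructor
    · rintro ⟨_, ⟨k, hk, rfl⟩, rfl⟩
      exact ⟨_, conj_mem_of_norm hn hg hk, by simp⟩
    · rintro ⟨k, hk, rfl⟩
      exact ⟨_, ⟨_, conj_mem_of_norm hn (inv_mem hg) hk, rfl⟩, by simp⟩
  have h2 : alternatingGroup Ω ≤ setStab (Perm Ω) (Set.range o) := by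
    by_contra hle
    refine h.not_inv s p (le_setStab ?_) hle (Or.inr ?_)
    · rintro g hg _ ⟨x, rfl⟩
      exact ⟨_, (h1 g hg x).symm⟩
    · rintro _ ⟨x, rfl⟩ _ ⟨y, rfl⟩
      obtain ⟨g, hg, rfl⟩ := h.trans s h4 x y
      exact ⟨g, h1 g hg x⟩
  obtain ⟨x, hx⟩ : ∃ x, o x = Set.univ := by
    by_contra hcon
    refine hE (eq_bot_iff.2 fun g hg => Equiv.ext fun x => ?_)
    exact ((p.triv h4 h2 ⟨x, rfl⟩).resolve_right fun e => hcon ⟨x, e⟩) ⟨g, hg, rfl⟩ (ho x)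
  intro a ha
  obtain ⟨g, hg, e⟩ : a x ∈ o x := hx ▸ trivial
  rwa [show a = g from Equiv.ext fun z => ?_]
  obtain ⟨k, hk, rfl⟩ : z ∈ o x := hx ▸ trivial
  rw [← Perm.mul_apply, ← mem_centralizer_iff.1 ha k hk, Perm.mul_apply, ← e, ← Perm.mul_apply, hc k hk g hg,
    Perm.mul_apply]

end Ax

end Cfsg.Agent.T44.Cl
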