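import Cfsg.Agent.T44.Cl.Grp

/-!
# S3544, classical groups: groups of characteristic `r` (helper34)
-/

set_option autoImplicit false

namespace Cfsg.Agent.T44.Cl

open Subgroup Cfsg Cfsg.Agent.T44
open scoped commutatorElement

variable {G : Type*} [Group G]

/-- `N` has characteristic `r` and `Q = O_r(N)` -/
structure Ch (r : ℕ) (N Q : Subgroup G) : Prop where
  prime : r.Prime
  isO : IsO r Q N
  cent : N ⊓ centralizer (Q : Set G) ≤ Q

theorem pow_mul_of_comm {x q : G} (h : x * ⁅x, q⁆ = ⁅x, q⁆ * x) (n : ℕ) : x ^ n * q = ⁅x, q⁆ ^ n * q * x ^ n := by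
  induction n with
  | zero => simp
  | succ n ih =>
    have e : x * q = ⁅x, q⁆ * q * x := by rw [commutatorElement_def]; group
    have hc : x ^ n * ⁅x, q⁆ = ⁅x, q⁆ * x ^ n := (Commute.pow_left h n).eq
    calc x ^ (n + 1) * q = x ^ n * (x * q) := by rw [pow_succ, mul_assoc]
      _ = x ^ n * ⁅x, q⁆ * q * x := by rw [e]; simp only [mul_assoc]
      _ = ⁅x, q⁆ * (x ^ n * q) * x := by rw [hc]; simp only [mul_assoc]
      _ = ⁅x, q⁆ ^ (n + 1) * q * x ^ (n + 1) := by rw [ih, pow_succ', pow_succ]; simp only [mul_assoc]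

theorem pg_of_nil {M : Type*} [Group M] [Finite M] {p : ℕ} (hp : p.Prime) {L : Subgroup M} (hL : Group.IsNilpotent L)
    (hg : L ≤ Gen p L) : IsPGroup p L := by
  have : Fact p.Prime := ⟨hp⟩
  obtain ⟨P⟩ : Nonempty (Sylow p L) := inferInstance
  have hn : (P : Subgroup L).Normal := inferInstance
  have := Sylow.unique_of_normal P hn
  have h1 : Gen p L ≤ (P : Subgroup L).map L.subtype := by
    refine (closure_le _).2 ?_
    rintro x ⟨hx, k, hk⟩
    have h2 : IsPGroup p (zpowers (⟨x, hx⟩ : L)) := by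
      rintro ⟨_, n, rfl⟩
      refine ⟨k, Subtype.ext (Subtype.ext ?_)⟩
      change (x ^ n) ^ p ^ k = 1
      rw [← zpow_natCast, ← zpow_mul, mul_comm, zpow_mul, zpow_natCast, hk, one_zpow]
    obtain ⟨P', hP'⟩ := h2.exists_le_sylow
    rw [Subsingleton.elim P' P] at hP'
    exact ⟨_, hP' (mem_zpowers _), rfl⟩
  exact (P.isPGroup'.map L.subtype).to_le (hg.trans h1)

namespace Ch

variable {r : ℕ} {N Q : Subgroup G} (h : Ch r N Q)
include h

theorem comm_mem {x q : G} (hx : x ∈ N) (hq : q ∈ Q) : ⁅x, q⁆ ∈ Q := by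
  rw [commutatorElement_def]
  exact mul_mem (conj_mem_of_norm h.isO.norm hx hq) (inv_mem hq)

variable [Finite G]

theorem le_of_cent {C : Subgroup G} (hC : C ≤ N) (hn : N ≤ normalizer (C : Set G))
    (hc : ∀ x ∈ C, ∀ q ∈ Q, x * ⁅x, q⁆ = ⁅x, q⁆ * x) : C ≤ Q := by
  have : Fact r.Prime := ⟨h.prime⟩
  obtain ⟨k, hk⟩ := IsPGroup.iff_card.1 h.isO.pg
  have h1 : ∀ y ∈ Q, y ^ r ^ k = 1 := fun y hy => by
    have h2 : (⟨y, hy⟩ : Q) ^ Nat.card Q = 1 := pow_card_eq_one'
    rw [hk] at h2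
    exact congrArg Subtype.val h2
  refine h.isO.max C hC (fun x => ⟨k + k, Subtype.ext ?_⟩) hn
  change (x : G) ^ r ^ (k + k) = 1
  rw [pow_add, pow_mul]
  refine h1 _ (h.cent ⟨pow_mem (hC x.2) _, mem_centralizer_iff.2 fun q hq => ?_⟩)
  rw [pow_mul_of_comm (hc x x.2 q hq), h1 _ (h.comm_mem (hC x.2) hq), one_mul]

/-- abelian normal subgroups -/
theorem le_of_comm {B : Subgroup G} (hB : B ≤ N) (hn : N ≤ normalizer (B : Set G))
    (hc : ∀ a ∈ B, ∀ b ∈ B, a * b = b * a) : B ≤ Q := by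
  refine h.le_of_cent hB hn fun x hx q hq => hc x hx _ ?_
  rw [commutatorElement_def, mul_assoc, mul_assoc, ← mul_assoc q]
  exact mul_mem hx (conj_mem_of_norm hn (h.isO.le hq) (inv_mem hx))

/-- normal subgroups -/
theorem sub {K : Subgroup G} (hK : K ≤ N) (hn : N ≤ normalizer (K : Set G)) : Ch r K (K ⊓ Q) := by
  refine ⟨h.prime, h.isO.inf hK hn, le_inf inf_le_left ?_⟩
  refine h.le_of_cent (inf_le_left.trans hK) (norm_inf hn (norm_centralizer (norm_inf hn h.isO.norm))) ?_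
  intro x hx q hq
  refine (mem_centralizer_iff.1 hx.2 _ ⟨?_, h.comm_mem (hK hx.1) hq⟩).symm
  rw [commutatorElement_def, mul_assoc, mul_assoc, ← mul_assoc q]
  exact mul_mem hx.1 (conj_mem_of_norm hn (h.isO.le hq) (inv_mem hx.1))

theorem sol_Q : Group.IsSolvable Q := by
  have : Fact r.Prime := ⟨h.prime⟩
  have := h.isO.pg.isNilpotent
  infer_instance

/-- **no component-like subgroups** -/
theorem crit {X : Type*} [Group X] (f : X →* G) (hf : f.ker ≤ center X) (hr : f.range ≤ N)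
    (hn : Q ≤ normalizer (f.range : Set G)) : ¬ Bg X := by
  intro hX
  have hK : (Q.comap f).Normal := ⟨fun x hx g => by
    rw [mem_comap, map_mul, map_mul, map_inv]
    exact conj_mem_of_norm h.isO.norm (hr ⟨g, rfl⟩) hx⟩
  have hz : Q.comap f ≤ center X := hX.cen _ hK (sol_of_map f
    (sol_of_comm fun a ha b _ => (mem_center_iff.1 (hf ha.2) b).symm) (sol_of_le (map_comap_le _ _) h.sol_Q))
  have h1 : ⁅⁅f.range, Q⁆, f.range⁆ = ⊥ := by
    rw [commutator_eq_bot_iff_le_centralizer]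
    intro y hy
    obtain ⟨x, rfl⟩ := commutator_le_left_of_norm hn hy
    have h2 : f x ∈ Q := commutator_le_right_of_norm (hr.trans h.isO.norm) hy
    rw [mem_centralizer_iff]
    rintro _ ⟨g, rfl⟩
    rw [← map_mul, ← map_mul, mem_center_iff.1 (hz h2) g]
  have h2 : ⁅⁅f.range, f.range⁆, Q⁆ = ⊥ :=
    commutator_commutator_eq_bot_of_rotate h1 (by rw [Subgroup.commutator_comm Q]; exact h1)
  rw [commutator_eq_bot_iff_le_centralizer] at h2
  have h3 : ⁅(⊤ : Subgroup X), ⊤⁆ ≤ center X := by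
    refine le_trans ?_ hz
    rw [← map_le_iff_le_comap, map_commutator, ← MonoidHom.range_eq_map]
    exact (le_inf ((commutator_le_left_of_norm le_normalizer).trans hr) h2).trans h.cent
  have h4 := sol_of_commutator h3 (sol_of_comm fun a ha b _ => (mem_center_iff.1 ha b).symm)
  exact hX.nsol (Group.isSolvable_of_surjective (f := (⊤ : Subgroup X).subtype) fun x => ⟨⟨x, trivial⟩, rfl⟩)

/-- normal subgroups generated by `r`-elements and nilpotent of class two modulo `Q` -/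
theorem le_of_nil {L : Subgroup G} (hL : L ≤ N) (hn : N ≤ normalizer (L : Set G)) (hg : L ≤ Gen r L)
    (hc : ⁅⁅L, L⁆, L⁆ ≤ Q) : L ≤ Q := by
  have hN : (Q.subgroupOf N).Normal := (normal_subgroupOf_iff_le_normalizer h.isO.le).2 h.isO.norm
  let π : N →* N ⧸ Q.subgroupOf N := QuotientGroup.mk' _
  have e1 : (L.subgroupOf N).map N.subtype = L := map_subgroupOf_eq_of_le hL
  have h1 : Group.IsNilpotent ((L.subgroupOf N).map π) := by
    refine (isNilpotent_iff_lowerCentralSeries _).2 ⟨2, ?_⟩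
    change ⁅⁅(L.subgroupOf N).map π, (L.subgroupOf N).map π⁆, (L.subgroupOf N).map π⁆ = ⊥
    rw [← map_commutator, ← map_commutator, Subgroup.map_eq_bot_iff, QuotientGroup.ker_mk']
    refine map_le_iff_le_comap.1 ?_
    rw [map_commutator, map_commutator, e1]
    exact hc
  have h2 : IsPGroup r ((L.subgroupOf N).map π) := by
    refine pg_of_nil h.prime h1 ?_
    have h3 : Gen r L ≤ ((Gen r ((L.subgroupOf N).map π)).comap π).map N.subtype := by
      refine (closure_le _).2 ?_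
      rintro x ⟨hx, k, hk⟩
      refine ⟨⟨x, hL hx⟩, subset_closure ⟨⟨⟨x, hL hx⟩, hx, rfl⟩, k, ?_⟩, rfl⟩
      rw [← map_pow, show (⟨x, hL hx⟩ : N) ^ r ^ k = 1 from Subtype.ext hk, map_one]
    rintro _ ⟨x, hx, rfl⟩
    obtain ⟨y, hy, e⟩ := h3 (hg hx)
    rwa [show y = x from Subtype.ext e] at hy
  refine h.isO.max L hL (fun x => ?_) hn
  obtain ⟨k, hk⟩ := h2 ⟨π ⟨x, hL x.2⟩, _, x.2, rfl⟩
  have h3 : π (⟨x, hL x.2⟩ ^ r ^ k) = 1 := by rw [map_pow]; exact congrArg Subtype.val hk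
  have h4 : (⟨x, hL x.2⟩ : N) ^ r ^ k ∈ Q.subgroupOf N := (QuotientGroup.eq_one_iff _).1 h3
  obtain ⟨j, hj⟩ := h.isO.pg ⟨(x : G) ^ r ^ k, h4⟩
  refine ⟨k + j, Subtype.ext ?_⟩
  change (x : G) ^ r ^ (k + j) = 1
  rw [pow_add, pow_mul]
  exact congrArg Subtype.val hj

end Ch

end Cfsg.Agent.T44.Cl
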