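import Cfsg.Agent.T44.Cl.Up
import Cfsg.Agent.DS.Cl.Inv
import Cfsg.Agent.DS.Cl.ExtC

/-!
# S3544, classical groups: fixed rings of groups of order prime to the characteristic (helper34)
-/

set_option autoImplicit false

namespace Cfsg.Agent.T44.Cl

open Cfsg Cfsg.Agent.T44 Cfsg.Agent.DS Cfsg.Agent.DS.Cl Subgroup
open scoped commutatorElement

variable {A : Type} [Ring A] [StarRing A] {F : FR A}

local notation "κ" => DS.Cl.cj

theorem semisimple_of_regular {R : Type} [Ring R] [Finite R] (h : ∀ x : R, ∃ y, x * y * x = x) :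
    IsSemisimpleRing R := by
  rw [IsArtinianRing.isSemisimpleRing_iff_jacobson, eq_bot_iff]
  intro x hx
  obtain ⟨y, hy⟩ := h x
  obtain ⟨n, hn⟩ := IsArtinianRing.isNilpotent_jacobson_bot (R := R)
  rw [Ideal.jacobson_bot] at hn
  have h1 : (y * x) ^ n ∈ Ring.jacobson R ^ n := Ideal.pow_mem_pow (Ideal.mul_mem_left _ y hx) n
  rw [hn] at h1
  have h2 : ∀ k, x * (y * x) ^ k = x := fun k => by
    induction k with
    | zero => rw [pow_zero, mul_one]
    | succ k ih => rw [pow_succ', ← mul_assoc, ← mul_assoc, hy, ih]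
  rw [Ideal.mem_bot, ← h2 n, (Ideal.mem_bot).1 h1, mul_zero]

omit [StarRing A] in
/-- the fixed ring -/
def fixR (E : Subgroup (RingAut A)) : Subring A where
  carrier := {a | ∀ γ ∈ E, γ a = a}
  mul_mem' := fun ha hb γ hγ => by rw [map_mul, ha γ hγ, hb γ hγ]
  one_mem' := fun γ _ => map_one γ
  add_mem' := fun ha hb γ hγ => by rw [map_add, ha γ hγ, hb γ hγ]
  zero_mem' := fun γ _ => map_zero γ
  neg_mem' := fun ha γ hγ => by rw [map_neg, ha γ hγ]

theorem star_fixR {E : Subgroup (RingAut A)} (hE : E ≤ SAut A) : ∀ x ∈ fixR E, star x ∈ fixR E :=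
  fun x hx γ hγ => by rw [hE hγ, hx γ hγ]

omit [StarRing A] in
theorem inv_fixR {H E : Subgroup (RingAut A)} (h : H ≤ normalizer (E : Set (RingAut A))) : Inv H (fixR E) :=
  fun γ hγ a ha δ hδ => by
    have h1 := ha _ (conj_mem_of_norm' h hγ hδ)
    rw [ra_mul, ra_mul] at h1
    rw [← ra_apply_inv γ (δ (γ a)), h1]

omit [StarRing A] in
theorem comm_of_fixR {E : Subgroup (RingAut A)} {u : Aˣ} (hu : κ A u ∈ E) {a : A} (ha : a ∈ fixR E) :
    (u : A) * a = a * u := by rw [← cj_mul_eq, ha _ hu]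

omit [StarRing A] in
theorem cj_cent {E : Subgroup (RingAut A)} {u : Aˣ} (hu : (u : A) ∈ fixR E) :
    κ A u ∈ centralizer (E : Set (RingAut A)) := mem_centralizer_iff.2 fun δ hδ => by
  rw [← mul_inv_eq_iff_eq_mul, conj_cj]
  exact congrArg _ (Units.ext (hu δ hδ))

/-- averaging -/
structure Avg (E : Subgroup (RingAut A)) [Fintype E] (π : A →+ A) (m : ℕ) : Prop where
  eq : ∀ a, π a = m • ∑ γ : E, γ.1 a
  card : ∀ a : A, m • Fintype.card E • a = a

omit [StarRing A] in
theorem exists_avgE [Finite A] (E : Subgroup (RingAut A)) [Fintype E] (h : IsUnit (Fintype.card E : A)) :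
    ∃ π m, Avg E π m := by
  obtain ⟨u, hu⟩ := h
  obtain ⟨n, hn, h1⟩ := (isOfFinOrder_of_finite u).exists_pow_eq_one
  obtain ⟨k, rfl⟩ := Nat.exists_eq_add_one_of_ne_zero hn.ne'
  refine ⟨{ toFun := fun a => Fintype.card E ^ k • ∑ γ : E, γ.1 a
            map_zero' := by simp
            map_add' := fun a b => by simp only [map_add, Finset.sum_add_distrib, smul_add] }, _, fun _ => rfl,
    fun a => ?_⟩
  rw [smul_smul, ← pow_succ, nsmul_eq_mul, Nat.cast_pow, ← hu, ← Units.val_pow_eq_pow_val, h1, Units.val_one, one_mul]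

namespace Avg

variable {E : Subgroup (RingAut A)} [Fintype E] {π : A →+ A} {m : ℕ} (h : Avg E π m)
include h

omit [StarRing A] in
theorem mem (a : A) : π a ∈ fixR E := fun δ hδ => by
  rw [h.eq, map_nsmul, map_sum]
  congr 1
  exact Fintype.sum_equiv (Equiv.mulLeft ⟨δ, hδ⟩) _ _ fun _ => rfl

omit [StarRing A] in
theorem mul_left {x : A} (hx : x ∈ fixR E) (a : A) : π (x * a) = x * π a := by
  rw [h.eq, h.eq, mul_smul_comm, Finset.mul_sum]
  exact congrArg _ (Finset.sum_congr rfl fun γ _ => by rw [map_mul, hx γ γ.2])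

omit [StarRing A] in
theorem mul_right {x : A} (hx : x ∈ fixR E) (a : A) : π (a * x) = π a * x := by
  rw [h.eq, h.eq, smul_mul_assoc, Finset.sum_mul]
  exact congrArg _ (Finset.sum_congr rfl fun γ _ => by rw [map_mul, hx γ γ.2])

omit [StarRing A] in
theorem of_mem {x : A} (hx : x ∈ fixR E) : π x = x := by
  rw [h.eq, Finset.sum_congr rfl fun (γ : E) _ => hx γ γ.2, Finset.sum_const, Finset.card_univ, h.card]

theorem star_eq (hE : E ≤ SAut A) (a : A) : π (star a) = star (π a) := by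
  rw [h.eq, h.eq, star_nsmul, star_sum]
  exact congrArg _ (Finset.sum_congr rfl fun γ _ => hE γ.2 a)

theorem l_sub (hE : E ≤ F.Aut) : F.l - π F.l ∈ F.L := by
  have h1 : m • ∑ γ : E, (γ.1 F.l - F.l) ∈ F.L := nsmul_mem (sum_mem fun γ _ => (hE γ.2).2) _
  rw [Finset.sum_sub_distrib, smul_sub, ← h.eq, Finset.sum_const, Finset.card_univ, h.card] at h1
  simpa using neg_mem h1

omit [StarRing A] in
theorem mem_of {I : AddSubgroup A} {a : A} (ha : ∀ γ ∈ E, γ a ∈ I) : π a ∈ I := by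
  rw [h.eq]
  exact nsmul_mem (sum_mem fun (γ : E) _ => ha γ γ.2) _

end Avg

/-- a corner of the fixed ring -/
def fixBlk (E : Subgroup (RingAut A)) (hE : E ≤ SAut A) (e : A) (he : e ∈ fixR E) (hi : e * e = e) (hs : star e = e) :
    Blk A where
  car := (fixR E).toNonUnitalSubring ⊓ (Blk.corner e hi hs).car
  e := e
  e_mem := ⟨he, hi, hi⟩
  e_mul _ hx := hx.2.1
  mul_e _ hx := hx.2.2
  star_mem x hx := ⟨star_fixR hE x hx.1, (Blk.corner e hi hs).star_mem x hx.2⟩

theorem mem_fixBlk {E : Subgroup (RingAut A)} {hE : E ≤ SAut A} {e : A} {he : e ∈ fixR E} {hi : e * e = e}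
    {hs : star e = e} {x : A} : x ∈ (fixBlk E hE e he hi hs).car ↔ x ∈ fixR E ∧ e * x = x ∧ x * e = x := Iff.rfl

/-- the corners of the fixed ring carry a form -/
theorem exists_fixBD [Finite A] (hA : SS A) {E : Subgroup (RingAut A)} [Fintype E] (hE : E ≤ F.Aut)
    (hu : IsUnit (Fintype.card E : A)) {e : A} (he : e ∈ fixR E) (hi : e * e = e) (hs : star e = e) (h0 : e ≠ 0)
    (hat : ∀ f ∈ fixR E, e * f = f → f * e = f → (∀ y ∈ fixR E, e * y = y → y * e = y → y * f = f * y) → star f = f →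
      f * f = f → f = 0 ∨ f = e) :
    ∃ B : BD F, B.toBlk = fixBlk E (hE.trans F.Aut_le_SAut) e he hi hs ∧ B.e * F.l * B.e - B.l ∈ F.L := by
  obtain ⟨π, m, h⟩ := exists_avgE E hu
  have hE' := hE.trans F.Aut_le_SAut
  have hm : ∀ a, e * π a * e ∈ (fixBlk E hE' e he hi hs).car := fun a =>
    ⟨mul_mem (mul_mem he (h.mem a)) he, Blk.corner_mem hi hs _⟩
  refine ⟨⟨fixBlk E hE' e he hi hs, e * π F.l * e, hm _, ?_, Or.inr fun a ha => ⟨_, hm a, ?_⟩, Or.inr ?_⟩, rfl, ?_⟩
  · change _ = e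
    rw [star_mul, star_mul, hs, ← mul_assoc, ← add_mul, ← mul_add, ← h.star_eq hE', ← map_add, F.l_add,
      h.of_mem (one_mem _), mul_one, hi]
  · rw [star_mul, star_mul, hs, ← mul_assoc, ← sub_mul, ← mul_sub, ← h.star_eq hE', ← map_sub, h.of_mem ha.1, ha.2.1,
      ha.2.2]
  · set B := fixBlk E hE' e he hi hs
    have : IsSemisimpleRing B.T := semisimple_of_regular fun x => by
      obtain ⟨y, hy⟩ := hA.regular (B.val x)
      obtain ⟨h1, h2, h3⟩ := B.val_mem x
      refine ⟨B.mk' _ (hm y), B.val_inj ?_⟩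
      change B.val x * (e * π y * e) * B.val x = B.val x
      rw [← mul_assoc, ← mul_assoc, h3, mul_assoc _ e, h2, ← h.mul_left h1, ← h.mul_right h1, hy, h.of_mem h1]
    have : Nontrivial B.T := ⟨1, 0, fun e' => h0 (congrArg B.val e')⟩
    refine ss_of_idem fun f hf hf1 hf2 => ?_
    obtain ⟨h1, h2, h3⟩ := B.val_mem f
    exact (hat _ h1 h2 h3 (fun y y1 y2 y3 => B.mem_center_iff.1 hf y ⟨y1, y2, y3⟩) (congrArg B.val hf1)
      (congrArg B.val hf2)).imp (fun e' => B.val_inj e') fun e' => B.val_inj e'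
  · change e * F.l * e - e * π F.l * e ∈ _
    have h1 := F.conj_mem (h.l_sub hE) e
    rwa [hs, mul_sub, sub_mul] at h1

/-- invariant blocks -/
theorem norm_WB {N : Subgroup (RingAut A)} (hN : N ≤ F.Aut) {B : Blk A} (hB : Inv N B.car) :
    N ≤ normalizer ((WB F B).map (κ A) : Set (RingAut A)) := by
  refine norm_of_conj ?_
  rintro γ hγ _ ⟨u, hu, rfl⟩
  refine ⟨um γ u, ⟨FR.um_mem_Iso (hN hγ) hu.1, ?_⟩, (conj_cj γ u).symm⟩
  have h1 := hB γ hγ _ hu.2
  rwa [map_sub, map_sub, map_one, Blk.stab_e (Blk.mem_stab hB hγ)] at h1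

/-- a group acting on a small block -/
theorem sol_of_block [Finite A] {N C : Subgroup (RingAut A)} (hN : N ≤ F.Aut) (B : BD F) (h0 : B.e ≠ 0)
    (hB : B.e * F.l * B.e - B.l ∈ F.L) (hinv : Inv N B.car) (hs : Group.IsSolvable (WB F B.toBlk))
    (hC : Group.IsSolvable C) (hker : ∀ γ ∈ N, (∀ x ∈ B.car, γ x = x) → γ ∈ C) : Group.IsSolvable N := by
  obtain ⟨φ⟩ := exists_WB_equiv B hB
  have h1 : Group.IsSolvable B.fr.Iso := Group.isSolvable_of_isSolvable_injective (f := φ.toMonoidHom) φ.injective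
  have h2 : Group.IsSolvable B.fr.Aut :=
    sol_of_commutator le_rfl (sol_of_commutator (FR.dS_two_le (B.ss.resolve_left h0)) (sol_map _ h1))
  have hst := Blk.mem_stab hinv
  let ρ : N →* RingAut B.toBlk.T := B.toBlk.res.comp (inclusion hst)
  have h3 : Group.IsSolvable (⊤ : Subgroup N) := by
    refine sol_of_map ρ (sol_of_map_inj N.subtype_injective (sol_of_le ?_ hC)) (sol_of_le ?_ h2)
    · rintro _ ⟨γ, hγ, rfl⟩
      refine hker _ γ.2 fun x hx => ?_
      have h4 := B.toBlk.val_res (inclusion hst γ) (B.toBlk.mk' x hx)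
      rw [show B.toBlk.res (inclusion hst γ) = 1 from hγ.2] at h4
      exact h4.symm
    · rintro _ ⟨γ, -, rfl⟩
      refine B.res_mem (hN γ.2).1 ?_
      have h4 := F.conj_mem (hN γ.2).2 B.e
      have h5 := F.map_mem (hN γ.2).1 hB
      rw [map_sub, map_mul, map_mul, Blk.stab_e (hst γ.2)] at h5
      rw [B.star_e, mul_sub, sub_mul] at h4
      convert F.L.add_mem (F.L.sub_mem h4 h5) hB using 1
      change γ.1 B.l - B.l = _
      abel
  exact Group.isSolvable_of_surjective (f := (⊤ : Subgroup N).subtype) fun x => ⟨⟨x, trivial⟩, rfl⟩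

end Cfsg.Agent.T44.Cl
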