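import Cfsg.Agent.T44.Cl.Fix

/-!
# S3544, classical groups: eigenvectors of an abelian group of inner automorphisms (helper34)
-/

set_option autoImplicit false

namespace Cfsg.Agent.T44.Cl

open Cfsg Cfsg.Agent.T44 Cfsg.Agent.DS Cfsg.Agent.DS.Cl Subgroup
open scoped commutatorElement

variable {A : Type} [Ring A] [StarRing A] {F : FR A}

local notation "κ" => DS.Cl.cj

theorem sum_char (hA : SS A) {G : Type*} [Group G] [Fintype G] {φ : G → A} (hm : ∀ g k, φ (g * k) = φ g * φ k)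
    {g : G} (hc : φ g ∈ Subring.center A) (hs : φ g * star (φ g) = 1) (hne : φ g ≠ 1) : ∑ k, φ k = 0 := by
  have h1 : φ g * ∑ k, φ k = ∑ k, φ k := by
    rw [Finset.mul_sum]
    exact Fintype.sum_equiv (Equiv.mulLeft g) _ _ fun k => (hm g k).symm
  refine (Ext.isUnit_sub_one hA hc hs hne).mul_right_eq_zero.1 ?_
  rw [sub_mul, h1, one_mul, sub_self]

omit [StarRing A] in
/-- the eigenvalue -/
def ev (δ : RingAut A) (u : Aˣ) : Aˣ := um δ u * u⁻¹

omit [StarRing A] in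
theorem ev_mul_self (δ : RingAut A) (u : Aˣ) : (ev δ u : A) * u = δ u := by
  rw [ev, Units.val_mul, Units.inv_mul_cancel_right, um_val]

omit [StarRing A] in
theorem ev_eq_one {δ : RingAut A} {u : Aˣ} : ev δ u = 1 ↔ δ u = u := by
  rw [ev, mul_inv_eq_one, Units.ext_iff, um_val]

omit [StarRing A] in
theorem ev_cen {δ : RingAut A} {u : Aˣ} (h : δ * κ A u = κ A u * δ) : (ev δ u : A) ∈ Subring.center A := by
  rw [← cj_eq_one_iff, ev, map_mul, map_inv, ← conj_cj, h, mul_inv_cancel_right, mul_inv_cancel]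

theorem ev_mem {δ : RingAut A} (hδ : δ ∈ F.Aut) {u : Aˣ} (hu : u ∈ F.Iso) : ev δ u ∈ F.Iso :=
  mul_mem (FR.um_mem_Iso hδ hu) (inv_mem hu)

omit [StarRing A] in
theorem ev_mul_left {γ δ : RingAut A} (hγ : γ ∈ Lin A) {u : Aˣ} (h : (ev δ u : A) ∈ Subring.center A) :
    ev (γ * δ) u = ev γ u * ev δ u := by
  apply Units.ext
  rw [← Units.mul_left_inj u, ev_mul_self, ra_mul, ← ev_mul_self δ, map_mul, hγ _ h, ← ev_mul_self γ, Units.val_mul,
    ← mul_assoc, cen_comm h]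

omit [StarRing A] in
theorem ev_mul_right (δ : RingAut A) (u : Aˣ) {v : Aˣ} (h : (ev δ v : A) ∈ Subring.center A) :
    ev δ (u * v) = ev δ u * ev δ v := by
  have h1 : um δ v = ev δ v * v := by rw [ev, inv_mul_cancel_right]
  rw [ev, map_mul, h1, mul_inv_rev, mul_assoc, mul_assoc, mul_inv_cancel_left, ← units_comm h, ← mul_assoc]
  rfl

omit [StarRing A] in
theorem ev_cj (w u : Aˣ) : ev (κ A w) u = ⁅w, u⁆ := Units.ext rfl

omit [StarRing A] in
theorem ev_congr {δ : RingAut A} (hδ : δ ∈ Lin A) {u v : Aˣ} (h : κ A u = κ A v) : ev δ u = ev δ v := by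
  obtain ⟨z, hz, rfl⟩ := DS.Cl.cj_eq_iff.1 h
  have h1 : ev δ z = 1 := ev_eq_one.2 (hδ _ hz)
  rw [ev_mul_right δ v (by rw [h1]; exact one_mem _), h1, mul_one]

namespace Avg

variable {E : Subgroup (RingAut A)} [Fintype E] {π : A →+ A} {m : ℕ} (h : Avg E π m) (hA : SS A) (hE : E ≤ F.PI)
include h hA hE

theorem eigen {u : Aˣ} (hu : u ∈ F.Iso) (hc : κ A u ∈ centralizer (E : Set (RingAut A))) (hn : (u : A) ∉ fixR E) :
    π u = 0 := by
  obtain ⟨δ, hδ, hne⟩ : ∃ δ ∈ E, δ (u : A) ≠ u := by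
    by_contra hh
    push Not at hh
    exact hn hh
  have h1 : ∀ γ : E, (ev γ.1 u : A) ∈ Subring.center A := fun γ => ev_cen (mem_centralizer_iff.1 hc γ γ.2)
  have h2 : ∑ γ : E, (ev γ.1 u : A) = 0 :=
    sum_char hA (φ := fun γ : E => (ev γ.1 u : A)) (g := ⟨δ, hδ⟩)
      (fun γ γ' => congrArg Units.val (ev_mul_left (F.PI_le_Lin (hE γ.2)) (h1 γ'))) (h1 _)
      (ev_mem (F.PI_le_Aut (hE hδ)) hu).1 fun e => hne (ev_eq_one.1 (Units.ext e))
  rw [h.eq, Finset.sum_congr rfl fun (γ : E) _ => (ev_mul_self γ.1 u).symm, ← Finset.sum_mul, h2, zero_mul, smul_zero]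

/-- Fourier expansion -/
theorem fourier (hc : Cm E) {s : E → Aˣ} (hs : ∀ x, s x ∈ F.Iso) (hs' : ∀ x, κ A (s x) = x)
    (hnd : ∀ δ ∈ E, (∀ x, δ (s x : A) = s x) → δ = 1) (a : A) : ∑ x, π (a * s x) * ((s x)⁻¹ : Aˣ) = a := by
  have h1 : ∀ δ x : E, (ev δ.1 (s x) : A) ∈ Subring.center A := fun δ x =>
    ev_cen (by rw [hs']; exact hc _ δ.2 _ x.2)
  have h2 : ∀ δ : E, δ ≠ 1 → ∑ x, (ev δ.1 (s x) : A) = 0 := fun δ hδ => by
    obtain ⟨x, hx⟩ : ∃ x, δ.1 (s x : A) ≠ s x := by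
      by_contra hh
      push Not at hh
      exact hδ (Subtype.ext (hnd δ δ.2 hh))
    refine sum_char hA (φ := fun x : E => (ev δ.1 (s x) : A)) (g := x) (fun x y => ?_) (h1 δ x)
      (ev_mem (F.PI_le_Aut (hE δ.2)) (hs x)).1 fun e => hx (ev_eq_one.1 (Units.ext e))
    rw [← Units.val_mul, ← ev_mul_right _ _ (h1 δ y),
      ev_congr (F.PI_le_Lin (hE δ.2)) (v := s x * s y) (by rw [map_mul, hs', hs', hs']; rfl)]
  have h3 : ∀ x, π (a * s x) * ((s x)⁻¹ : Aˣ) = m • ∑ δ : E, δ.1 a * ev δ.1 (s x) := fun x => by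
    rw [h.eq, smul_mul_assoc, Finset.sum_mul]
    exact congrArg _ (Finset.sum_congr rfl fun δ _ => by rw [map_mul, mul_assoc]; rfl)
  rw [Finset.sum_congr rfl fun x _ => h3 x, ← Finset.smul_sum, Finset.sum_comm, Finset.sum_eq_single 1]
  · rw [← h.card a]
    congr 1
    rw [Finset.sum_congr rfl fun x _ => (show (1 : E).1 (m • Fintype.card E • a) * (ev (1 : E).1 (s x) : A) = a by
      rw [h.card, ev_eq_one.2 rfl, Units.val_one, mul_one]; rfl), Finset.sum_const, Finset.card_univ]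
  · intro δ _ hδ
    rw [← Finset.mul_sum, h2 δ hδ, mul_zero]
  · exact fun hh => absurd (Finset.mem_univ _) hh

theorem exists_ne (hc : Cm E) {s : E → Aˣ} (hs : ∀ x, s x ∈ F.Iso) (hs' : ∀ x, κ A (s x) = x)
    (hnd : ∀ δ ∈ E, (∀ x, δ (s x : A) = s x) → δ = 1) {a : A} (ha : a ≠ 0) : ∃ x, π (a * s x) ≠ 0 := by
  by_contra hh
  push Not at hh
  refine ha ?_
  rw [← h.fourier hA hE hc hs hs' hnd a]
  exact Finset.sum_eq_zero fun x _ => by rw [hh, zero_mul]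

end Avg

theorem exists_half (hA : SS A) {z : A} (hc : z ∈ Subring.center A) (hs : z * star z = 1) (hne : z ≠ 1) :
    ∃ c ∈ Subring.center A, c + star c = 1 := by
  obtain ⟨w, hw⟩ := Ext.isUnit_sub_one hA hc hs hne
  have hw' : (w : A) ∈ Subring.center A := hw ▸ Subring.sub_mem _ hc (Subring.one_mem _)
  have h1 : (z - 1) * ((w⁻¹ : Aˣ) : A) = 1 := by rw [← hw, Units.mul_inv]
  have h2 : star ((w⁻¹ : Aˣ) : A) * (star z - 1) = 1 := by
    have := congrArg star h1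
    rwa [star_mul, star_sub, star_one] at this
  have h3 : (star z - 1) * (-(z * ((w⁻¹ : Aˣ) : A))) = 1 := by
    calc (star z - 1) * (-(z * ((w⁻¹ : Aˣ) : A))) = (z - star z * z) * ((w⁻¹ : Aˣ) : A) := by noncomm_ring
      _ = 1 := by rw [cen_comm hc, hs, h1]
  have h4 : star ((w⁻¹ : Aˣ) : A) = -(z * ((w⁻¹ : Aˣ) : A)) := by
    rw [← mul_one (star _), ← h3, ← mul_assoc, h2, one_mul]
  refine ⟨-((w⁻¹ : Aˣ) : A), Subring.neg_mem _ (inv_cen hw'), ?_⟩
  rw [star_neg, h4, ← h1]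
  noncomm_ring

/-- the isometries centralising `E` modulo the centre -/
theorem comm_cent_le (E : Subgroup (RingAut A)) {γ : RingAut A}
    (hγ : γ ∈ ⁅F.PI ⊓ centralizer (E : Set (RingAut A)), F.PI ⊓ centralizer (E : Set (RingAut A))⁆) :
    ∃ u ∈ F.Iso, (u : A) ∈ fixR E ∧ κ A u = γ := by
  let W : Subgroup Aˣ := F.Iso ⊓ (centralizer (E : Set (RingAut A))).comap (κ A)
  have h1 : F.PI ⊓ centralizer (E : Set (RingAut A)) ≤ W.map (κ A) := by
    rintro _ ⟨⟨u, hu, rfl⟩, h⟩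
    exact ⟨u, ⟨hu, h⟩, rfl⟩
  have h2 := commutator_mono h1 h1 hγ
  rw [← map_commutator] at h2
  obtain ⟨w, hw, rfl⟩ := h2
  exact ⟨w, FR.comm_le_Iso (commutator_mono inf_le_left inf_le_left hw),
    fun γ hγ => fix_commutator (W := W) (fun v hv => mem_centralizer_iff.1 hv.2 γ hγ) w hw, rfl⟩

end Cfsg.Agent.T44.Cl
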