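import Cfsg.Agent.T44.Basic
import Cfsg.Agent.S0144

/-!
# S3544, classical groups: pure group theory (helper34)

`Bg X` : not soluble, and every soluble normal subgroup is central.  `Sm Y` : the small isometry groups.
`Ch r N Q` : `N` has characteristic `r` and `Q = O_r(N)`.
-/

set_option autoImplicit false

namespace Cfsg.Agent.T44.Cl

open Subgroup Cfsg Cfsg.Agent.T44
open scoped commutatorElement

/-- not soluble, and every soluble normal subgroup is central -/
structure Bg (X : Type*) [Group X] : Prop where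
  nsol : ¬ Group.IsSolvable X
  cen : ∀ K : Subgroup X, K.Normal → Group.IsSolvable K → K ≤ center X

/-- non-trivial, without non-trivial soluble normal subgroup -/
structure NSol (P : Type*) [Group P] : Prop where
  nt : Nontrivial P
  bot : ∀ K : Subgroup P, K.Normal → Group.IsSolvable K → K = ⊥

/-- small groups -/
structure Sm (Y : Type*) [Group Y] : Prop where
  sol : Group.IsSolvable Y
  alt : (∀ a ∈ commutator Y, ∀ b ∈ commutator Y, a * b = b * a) ∨ ∀ s : ℕ, s.Prime → s ∣ Nat.card Y → s = 2 ∨ s = 3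
  ell : ∀ l : ℕ, l.Prime → 5 ≤ l → ∀ (a b : Y) (k : ℕ), a ^ l ^ k = 1 → b ^ l ^ k = 1 → a * b = b * a

section basic

variable {X Y P : Type*} [Group X] [Group Y] [Group P]

theorem sol_map {K : Subgroup X} (f : X →* Y) (h : Group.IsSolvable K) : Group.IsSolvable (K.map f) :=
  Group.isSolvable_of_surjective (f.subgroupMap_surjective K)

theorem sol_of_le {K L : Subgroup X} (hKL : K ≤ L) (h : Group.IsSolvable L) : Group.IsSolvable K :=
  Group.isSolvable_of_isSolvable_injective (inclusion_injective hKL)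

theorem sol_of_comm {K : Subgroup X} (h : ∀ a ∈ K, ∀ b ∈ K, a * b = b * a) : Group.IsSolvable K :=
  Group.isSolvable_of_comm fun a b => Subtype.ext (h a a.2 b b.2)

theorem sol_of_map_inj {K : Subgroup X} {f : X →* Y} (hf : Function.Injective f) (h : Group.IsSolvable (K.map f)) :
    Group.IsSolvable K :=
  Group.isSolvable_of_isSolvable_injective (f := f.subgroupMap K)
    fun _ _ e => Subtype.ext (hf (congrArg Subtype.val e))

/-- extensions -/
theorem sol_of_map {K : Subgroup X} (f : X →* Y) (h1 : Group.IsSolvable (K ⊓ f.ker : Subgroup X))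
    (h2 : Group.IsSolvable (K.map f)) : Group.IsSolvable K := by
  refine Group.isSolvable_of_ker_le_range (inclusion (inf_le_left : K ⊓ f.ker ≤ K)) (f.subgroupMap K) ?_
  intro x hx
  exact ⟨⟨x, x.2, congrArg Subtype.val hx⟩, rfl⟩

theorem sol_of_commutator {K L : Subgroup X} (h1 : ⁅K, K⁆ ≤ L) (h2 : Group.IsSolvable L) : Group.IsSolvable K := by
  have h3 : Group.IsSolvable (commutator K) := by
    have h4 := sol_of_le h1 h2
    rw [← map_subtype_commutator] at h4
    exact Group.isSolvable_of_isSolvable_injective (f := K.subtype.subgroupMap (commutator K))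
      fun a b e => Subtype.ext (Subtype.ext (congrArg (fun t => (t.1 : X)) e))
  exact Group.isSolvable_of_ker_le_range (commutator K).subtype (Abelianization.of (G := K))
    (by rw [Abelianization.ker_of, range_subtype])

theorem Bg.congr (h : Bg X) (e : X ≃* Y) : Bg Y := by
  refine ⟨fun hs => h.nsol (Group.isSolvable_of_isSolvable_injective (f := e.toMonoidHom) e.injective), ?_⟩
  intro K hK hs y hy
  have h1 := h.cen (K.map e.symm.toMonoidHom) (hK.map _ e.symm.surjective) (sol_map _ hs) ⟨y, hy, rfl⟩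
  rw [mem_center_iff] at h1 ⊢
  intro g
  apply e.symm.injective
  rw [map_mul, map_mul]
  exact h1 _

theorem NSol.congr (h : NSol X) (e : X ≃* Y) : NSol Y := by
  have := h.nt
  refine ⟨e.symm.toEquiv.nontrivial, fun K hK hs => ?_⟩
  have h1 := h.bot (K.map e.symm.toMonoidHom) (hK.map _ e.symm.surjective) (sol_map _ hs)
  exact (map_eq_bot_iff_of_injective _ e.symm.injective).1 h1

theorem NSol.of_simple [IsSimpleGroup P] (h : ¬ IsMulCommutative P) : NSol P := by
  refine ⟨inferInstance, fun K hK hs => (hK.eq_bot_or_eq_top).resolve_right fun e => h ?_⟩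
  subst e
  have : Group.IsSolvable P := Group.isSolvable_of_surjective (f := (⊤ : Subgroup P).subtype) fun x => ⟨⟨x, trivial⟩, rfl⟩
  exact ⟨⟨IsSimpleGroup.comm_iff_isSolvable.2 this⟩⟩

theorem NSol.prod (h : NSol X) (h' : NSol Y) : NSol (X × Y) := by
  have := h.nt
  refine ⟨inferInstance, fun K hK hs => ?_⟩
  have h1 := h.bot (K.map (MonoidHom.fst X Y)) (hK.map _ Prod.fst_surjective) (sol_map _ hs)
  have h2 := h'.bot (K.map (MonoidHom.snd X Y)) (hK.map _ Prod.snd_surjective) (sol_map _ hs)
  rw [eq_bot_iff] at h1 h2 ⊢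
  intro x hx
  exact Prod.ext (h1 ⟨x, hx, rfl⟩) (h2 ⟨x, hx, rfl⟩)

theorem Bg.of_nsol (h : NSol (X ⧸ center X)) : Bg X := by
  have key : ∀ K : Subgroup X, K.Normal → Group.IsSolvable K → K ≤ center X := fun K hK hs => by
    have h1 := h.bot (K.map (QuotientGroup.mk' _)) (hK.map _ (QuotientGroup.mk'_surjective _)) (sol_map _ hs)
    rwa [Subgroup.map_eq_bot_iff, QuotientGroup.ker_mk'] at h1
  refine ⟨fun hs => ?_, key⟩
  have h1 := key ⊤ inferInstance inferInstance
  have := h.nt
  obtain ⟨x, hx⟩ := exists_ne (1 : X ⧸ center X)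
  obtain ⟨x, rfl⟩ := QuotientGroup.mk'_surjective _ x
  exact hx ((QuotientGroup.eq_one_iff _).2 (h1 trivial))

theorem Bg.of_nsol' (h : NSol X) : Bg X := by
  refine ⟨fun hs => ?_, fun K hK hs => (h.bot K hK hs).le.trans bot_le⟩
  have := h.nt
  exact top_ne_bot (h.bot ⊤ inferInstance inferInstance)

/-- a perfect group with simple central quotient -/
theorem Bg.of_perfect (hp : commutator X = ⊤) (hs : IsSimpleGroup (X ⧸ center X)) : Bg X := by
  refine Bg.of_nsol (NSol.of_simple fun hc => ?_)
  have h1 : commutator X ≤ center X := by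
    rw [commutator_def, commutator_le]
    intro a _ b _
    rw [← QuotientGroup.eq_one_iff, ← QuotientGroup.mk'_apply, map_commutatorElement,
      commutatorElement_eq_one_iff_mul_comm]
    exact hc.1.1 _ _
  obtain ⟨x, hx⟩ := exists_ne (1 : X ⧸ center X)
  obtain ⟨x, rfl⟩ := QuotientGroup.mk'_surjective _ x
  exact hx ((QuotientGroup.eq_one_iff _).2 (h1 (hp ▸ trivial)))

theorem Bg.comm_congr (h : Bg (commutator X)) (e : X ≃* Y) : Bg (commutator Y) := by
  refine h.congr ((e.subgroupMap _).trans (MulEquiv.subgroupCongr ?_))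
  rw [commutator_def, map_commutator, map_top_of_surjective _ e.surjective, commutator_def]

theorem Bg.of_hom (h : Bg X) (g : X →* Y) (hg : Function.Injective g) (hr : g.range = commutator Y) :
    Bg (commutator Y) := h.congr ((MonoidHom.ofInjective hg).trans (MulEquiv.subgroupCongr hr))

theorem Sm.congr (h : Sm X) (e : X ≃* Y) : Sm Y := by
  have := h.sol
  refine ⟨Group.isSolvable_of_surjective (f := e.toMonoidHom) e.surjective, ?_, ?_⟩
  · rcases h.alt with h1 | h1
    · left
      have e1 : commutator Y = (commutator X).map e.toMonoidHom := by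
        rw [commutator_def, commutator_def, map_commutator, map_top_of_surjective _ e.surjective]
      rw [e1]
      rintro _ ⟨a, ha, rfl⟩ _ ⟨b, hb, rfl⟩
      rw [← map_mul, ← map_mul, h1 a ha b hb]
    · right
      rwa [← Nat.card_congr e.toEquiv]
  · intro l hl h5 a b k ha hb
    apply e.symm.injective
    rw [map_mul, map_mul]
    exact h.ell l hl h5 _ _ k (by rw [← map_pow, ha, map_one]) (by rw [← map_pow, hb, map_one])

theorem Sm.of_comm (h : ∀ a b : X, a * b = b * a) : Sm X :=
  ⟨Group.isSolvable_of_comm h, Or.inl fun a _ b _ => h a b, fun _ _ _ a b _ _ _ => h a b⟩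

theorem Sm.of_index (B : Subgroup X) (hB : ∀ a ∈ B, ∀ b ∈ B, a * b = b * a) (hi : B.index = 2) : Sm X := by
  have hn : B.Normal := normal_of_index_eq_two hi
  have hc : commutator X ≤ B := by
    rw [commutator_def, commutator_le]
    intro a _ b _
    rw [commutatorElement_def, mul_mem_iff_of_index_two hi, mul_mem_iff_of_index_two hi, mul_mem_iff_of_index_two hi,
      inv_mem_iff, inv_mem_iff]
    tauto
  refine ⟨?_, Or.inl fun a ha b hb => hB a (hc ha) b (hc hb), fun l hl h5 a b k ha hb => ?_⟩
  · have h1 : Group.IsSolvable (⊤ : Subgroup X) := sol_of_commutator (L := B) hc (sol_of_comm hB)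
    exact Group.isSolvable_of_surjective (f := (⊤ : Subgroup X).subtype) fun x => ⟨⟨x, trivial⟩, rfl⟩
  · have key : ∀ a : X, a ^ l ^ k = 1 → a ∈ B := fun a ha => by
      obtain ⟨m, hm⟩ : Odd (l ^ k) := (hl.odd_of_ne_two (by omega)).pow
      rw [hm, pow_succ, pow_mul] at ha
      rw [eq_inv_of_mul_eq_one_right ha]
      exact inv_mem (pow_mem (sq_mem_of_index_two hi a) _)
    exact hB a (key a ha) b (key b hb)

theorem Sm.of_23 [Finite X] (a b : ℕ) (h : Nat.card X ∣ 2 ^ a * 3 ^ b) : Sm X := by
  have key : ∀ s : ℕ, s.Prime → s ∣ Nat.card X → s = 2 ∨ s = 3 := fun s hs hd => by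
    rcases (hs.dvd_mul).1 (hd.trans h) with h1 | h1
    · exact Or.inl ((Nat.prime_dvd_prime_iff_eq hs Nat.prime_two).1 (hs.dvd_of_dvd_pow h1))
    · exact Or.inr ((Nat.prime_dvd_prime_iff_eq hs Nat.prime_three).1 (hs.dvd_of_dvd_pow h1))
  refine ⟨?_, Or.inr key, fun l hl h5 x y k hx _ => ?_⟩
  · obtain ⟨u, v, hu, hv, huv⟩ := exists_dvd_and_dvd_of_dvd_mul h
    obtain ⟨i, -, rfl⟩ := (Nat.dvd_prime_pow Nat.prime_two).1 hu
    obtain ⟨j, -, rfl⟩ := (Nat.dvd_prime_pow Nat.prime_three).1 hv
    exact Cfsg.Agent.S0144.result 2 3 i j Nat.prime_two Nat.prime_three huv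
  · have h1 : x = 1 := by
      by_contra hne
      obtain ⟨i, -, hi⟩ := (Nat.dvd_prime_pow hl).1 (orderOf_dvd_of_pow_eq_one hx)
      have h2 : i ≠ 0 := fun e => hne (orderOf_eq_one_iff.1 (by rw [hi, e, pow_zero]))
      have h3 := key l hl ((dvd_pow_self l h2).trans (hi ▸ orderOf_dvd_natCard x))
      omega
    rw [h1, one_mul, mul_one]

end basic

end Cfsg.Agent.T44.Cl
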