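import Cfsg.Agent.T44.Cl.Up
import Cfsg.Agent.DS.Cl.NC

/-!
# S3544, classical groups: stabilizers of orthogonal decompositions (helper34)
-/

set_option autoImplicit false

namespace Cfsg.Agent.T44.Cl

open Cfsg Cfsg.Agent.T44 Cfsg.Agent.DS Cfsg.Agent.DS.Cl Subgroup
open scoped commutatorElement

variable {A : Type} [Ring A] [StarRing A] {F : FR A}

local notation "κ" => DS.Cl.cj

/-- the isometries which are trivial outside `e` -/
def We (F : FR A) (e : A) : Subgroup Aˣ where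
  carrier := {u | u ∈ F.Iso ∧ (u : A) * (1 - e) = 1 - e ∧ (1 - e) * u = 1 - e}
  one_mem' := ⟨one_mem _, by simp, by simp⟩
  mul_mem' := by
    rintro u v ⟨hu, h1, h2⟩ ⟨hv, h3, h4⟩
    exact ⟨mul_mem hu hv, by rw [Units.val_mul, mul_assoc, h3, h1], by rw [Units.val_mul, ← mul_assoc, h2, h4]⟩
  inv_mem' := by
    rintro u ⟨hu, h1, h2⟩
    refine ⟨inv_mem hu, ?_, ?_⟩
    · nth_rewrite 1 [← h1]
      rw [Units.inv_mul_cancel_left]
    · nth_rewrite 1 [← h2]
      rw [Units.mul_inv_cancel_right]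

theorem We_eq {e : A} (he : e * e = e) (hs : star e = e) : We F e = WB F (Blk.corner e he hs) := by
  ext u
  refine and_congr_right fun _ => ?_
  change _ ↔ e * (u - (1 - e)) = u - (1 - e) ∧ (u - (1 - e)) * e = u - (1 - e)
  rw [mul_sub e, mul_sub e, mul_one, he, sub_self, sub_zero, sub_mul _ _ e, sub_mul _ _ e, one_mul, he, sub_self,
    sub_zero, mul_sub, sub_mul, mul_one, one_mul, and_comm]
  exact and_congr ⟨fun h => by rw [← h]; abel, fun h => by rw [h]; abel⟩
    ⟨fun h => by rw [← h]; abel, fun h => by rw [h]; abel⟩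

theorem dich_We [Finite A] (hA : SS A) {e : A} (he : e * e = e) (hs : star e = e) (h0 : e ≠ 0) : Dich (We F e) := by
  rw [We_eq he hs]
  exact dich_WB (BD.corner hA F e he hs) (by change e * F.l * e - e * F.l * e ∈ _; rw [sub_self]; exact zero_mem _) h0

theorem We.comm {e : A} {u : Aˣ} (hu : u ∈ We F e) : (u : A) * e = e * u := by
  have h := hu.2.1.trans hu.2.2.symm
  rwa [mul_sub, sub_mul, mul_one, one_mul, sub_right_inj] at h

theorem We.mul_orth {e f : A} {u : Aˣ} (hu : u ∈ We F e) (h : e * f = 0) : (u : A) * f = f := by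
  have h1 : (1 - e) * f = f := by rw [sub_mul, one_mul, h, sub_zero]
  rw [← h1, ← mul_assoc, hu.2.1]

theorem We.orth_mul {e f : A} {u : Aˣ} (hu : u ∈ We F e) (h : f * e = 0) : f * (u : A) = f := by
  have h1 : f * (1 - e) = f := by rw [mul_sub, mul_one, h, sub_zero]
  rw [← h1, mul_assoc, hu.2.2]

theorem We.mul_comm {e f : A} {u v : Aˣ} (hu : u ∈ We F e) (hv : v ∈ We F f) (h1 : e * f = 0) (h2 : f * e = 0) :
    u * v = v * u := by
  apply Units.ext
  have e1 : (v : A) = f * v + (1 - f) := by rw [← hv.2.2, ← add_mul, add_sub_cancel, one_mul]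
  have e2 : (v : A) = v * f + (1 - f) := by rw [← hv.2.1, ← mul_add, add_sub_cancel, mul_one]
  rw [Units.val_mul, Units.val_mul]
  calc (u : A) * v = u * (f * v + (1 - f)) := by rw [← e1]
    _ = f * v + (u - f) := by rw [mul_add, ← mul_assoc, mul_sub, mul_one, We.mul_orth hu h1]
    _ = (v * f + (1 - f)) * u := by rw [add_mul, mul_assoc, sub_mul, one_mul, We.orth_mul hu h2, We.comm hv]
    _ = v * u := by rw [← e2]

theorem We.um_mem {e : A} {u : Aˣ} (hu : u ∈ We F e) {γ : RingAut A} (hγ : γ ∈ F.Aut) : um γ u ∈ We F (γ e) := by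
  refine ⟨FR.um_mem_Iso hγ hu.1, ?_, ?_⟩
  · rw [um_val, ← map_one γ, ← map_sub, ← map_mul, hu.2.1]
  · rw [um_val, ← map_one γ, ← map_sub, ← map_mul, hu.2.2]

/-- the component of an isometry commuting with `e` -/
theorem We.exists_comp [Finite A] (hA : SS A) {e : A} (he : e * e = e) (hs : star e = e) {u : Aˣ} (hu : u ∈ F.Iso)
    (hc : (u : A) * e = e * u) : ∃ v ∈ We F e, (v : A) = u * e + (1 - e) := by
  have h1 : (u : A) * e ∈ (BD.corner hA F e he hs).car :=
    ⟨by rw [← mul_assoc, ← hc, mul_assoc, he], by rw [mul_assoc, he]⟩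
  have h2 : (u : A) * e * star ((u : A) * e) = e := by
    rw [star_mul, hs, mul_assoc, ← mul_assoc e, he, ← mul_assoc, hc, mul_assoc, hu.1, mul_one]
  have h3 := up_mem' (BD.corner hA F e he hs)
    (by change e * F.l * e - e * F.l * e ∈ _; rw [sub_self]; exact zero_mem _) h1 h2 (by
      change (u : A) * e * (e * F.l * e) * star ((u : A) * e) - e * F.l * e ∈ _
      convert F.conj_mem hu.2 e using 1
      rw [mul_sub, sub_mul, hs, ← mul_assoc, ← mul_assoc, mul_assoc _ e e, he, star_mul, hs, ← mul_assoc,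
        mul_assoc _ e e, he, ← mul_assoc, ← mul_assoc, ← hc, mul_assoc _ (star (u : A)) e, mul_assoc _ e, ← hs,
        ← star_mul, ← star_mul, hs, hc])
  rw [We_eq he hs]
  exact ⟨_, ⟨h3, by
    change (u : A) * e + (1 - e) - (1 - e) ∈ _
    rw [add_sub_cancel_right]
    exact h1⟩, rfl⟩

theorem exists_prod [Finite A] (hA : SS A) {D : Finset A} (hD : Fr D) {u : Aˣ} (hu : u ∈ F.Iso)
    (hc : ∀ e ∈ D, (u : A) * e = e * u) : u ∈ ⨆ e ∈ (D : Set A), We F e := by
  classical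
  have key : ∀ s : Finset A, s ⊆ D → ∃ v ∈ ⨆ e ∈ (D : Set A), We F e, (v : A) = u * ∑ e ∈ s, e + (1 - ∑ e ∈ s, e) := by
    intro s
    induction s using Finset.induction_on with
    | empty => exact fun _ => ⟨1, one_mem _, by simp⟩
    | insert f s hf ih =>
      intro hs
      obtain ⟨v, hv, e1⟩ := ih ((Finset.subset_insert _ _).trans hs)
      have hfD : f ∈ D := hs (Finset.mem_insert_self _ _)
      obtain ⟨w, hw, e2⟩ := We.exists_comp hA (hD.idem f hfD) (hD.symm f hfD) hu (hc f hfD)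
      have h0 : f * ∑ e ∈ s, e = 0 := by
        rw [Finset.mul_sum]
        exact Finset.sum_eq_zero fun e he => hD.orth f hfD e (hs (Finset.mem_insert_of_mem he)) fun h => hf (h ▸ he)
      refine ⟨w * v, mul_mem (mem_iSup_of_mem f (mem_iSup_of_mem hfD hw)) hv, ?_⟩
      have h1 : f * (u * ∑ e ∈ s, e) = 0 := by rw [← mul_assoc, ← hc f hfD, mul_assoc, h0, mul_zero]
      rw [Units.val_mul, e1, e2, Finset.sum_insert hf, add_mul, mul_add, mul_add, mul_assoc, h1, mul_assoc, mul_sub f,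
        h0, sub_mul, sub_mul, h1, mul_sub f, h0]
      noncomm_ring
  obtain ⟨v, hv, e⟩ := key D subset_rfl
  rw [hD.sum, mul_one, sub_self, add_zero] at e
  rwa [← Units.ext e]

theorem wr_of_frame [Finite A] (hA : SS A) {D : Finset A} (hD : Fr D) :
    Wr (F.S ⊓ setStab (RingAut A) (D : Set A)) (D : Set A) fun e => (We F e).map (κ A) := by
  have hfix : ∀ e ∈ (D : Set A), (We F e).map (κ A) ≤ ptStab (RingAut A) (D : Set A) := by
    rintro e he _ ⟨u, hu, rfl⟩ f hf
    refine cj_eq_of_mul ?_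
    by_cases hef : e = f
    · exact hef ▸ We.comm hu
    · rw [We.mul_orth hu (hD.orth e he f hf hef), We.orth_mul hu (hD.orth f hf e he (Ne.symm hef))]
  refine ⟨D.finite_toSet, inf_le_right, fun e he => le_inf ?_ ?_, ?_, ?_, hfix, ?_⟩
  · rw [FR.S_eq]
    exact commutator_mono (map_mono fun _ h => h.1) (map_mono fun _ h => h.1)
  · exact (commutator_le_left_of_norm le_normalizer).trans ((hfix e he).trans
      (le_setStab fun g hg x hx => by rwa [hg x hx]))
  · rintro γ hγ e - _ ⟨_, ⟨u, hu, rfl⟩, rfl⟩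
    exact ⟨_, We.um_mem hu (F.S_le_Aut hγ.1), (conj_cj γ u).symm⟩
  · rintro e he f hf hef _ ⟨u, hu, rfl⟩
    rw [mem_centralizer_iff]
    rintro _ ⟨v, hv, rfl⟩
    rw [← map_mul, ← map_mul, We.mul_comm hu hv (hD.orth e he f hf hef) (hD.orth f hf e he hef.symm)]
  · rintro γ ⟨hγ, hγ'⟩
    obtain ⟨u, hu, rfl⟩ := F.S_le_PI hγ.1
    have h1 := exists_prod hA hD hu fun e he => by rw [← cj_mul_eq, show κ A u e = e from hγ' e he]
    have h2 := mem_map_of_mem (κ A) h1
    simpa only [Subgroup.map_iSup] using h2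

theorem We_disj [Finite A] (hA : SS A) {D : Finset A} (hD : Fr D) (h3 : 3 ≤ D.card) {e f : A} (he : e ∈ D) (hf : f ∈ D)
    (hef : e ≠ f) : (We F e).map (κ A) ⊓ (We F f).map (κ A) = ⊥ := by
  classical
  rw [eq_bot_iff]
  rintro _ ⟨⟨u, hu, rfl⟩, v, hv, huv⟩
  obtain ⟨g, hg, hg'⟩ : ∃ g ∈ D, g ∉ ({e, f} : Finset A) :=
    Finset.exists_mem_notMem_of_card_lt_card (lt_of_le_of_lt Finset.card_le_two (by omega))
  rw [Finset.mem_insert, Finset.mem_singleton, not_or] at hg'
  obtain ⟨z, hz, rfl⟩ := DS.Cl.cj_eq_iff.1 huv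
  have h1 := We.mul_orth hv (hD.orth f hf g hg (Ne.symm hg'.2))
  rw [Units.val_mul, mul_assoc, ← cen_comm hz, ← mul_assoc, We.mul_orth hu (hD.orth e he g hg (Ne.symm hg'.1))] at h1
  have h2 : (z : A) - 1 = 0 := hA.cen_eq_zero (sub_mem hz (one_mem _)) (hD.symm g hg) (hD.ne g hg)
    (by rw [sub_mul, one_mul, ← cen_comm hz, h1, sub_self])
  rw [show z = 1 from Units.ext (sub_eq_zero.1 h2), mul_one] at hv
  have h4 := hu.2.1
  rw [mul_sub, mul_one, We.mul_orth hv (hD.orth f hf e he hef.symm), sub_left_inj] at h4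
  rw [show u = 1 from Units.ext h4, map_one]
  exact one_mem _

/-- the blocks of a frame are small -/
theorem sm_We [Finite A] (hA : SS A) {D : Finset A} (hD : Fr D) {r : ℕ} {Q : Subgroup (RingAut A)}
    (h : Ch r (F.S ⊓ setStab (RingAut A) (D : Set A)) Q) {e : A} (he : e ∈ D) : Sm (We F e) := by
  have := finite_ringAut (A := A)
  have w := wr_of_frame (F := F) hA hD
  exact sm_of_ch (h.sub inf_le_left w.norm_base) (dich_We hA (hD.idem e he) (hD.symm e he) (hD.ne e he))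
    (w.comm_le_base he) (inf_le_left.trans (w.base_norm he))

theorem alt_le_top [Finite A] (hA : SS A) {D : Finset A} (hD : Fr D) [DecidableEq (D : Set A)]
    (h5 : 5 ≤ Fintype.card (D : Set A)) (htr : ∀ e ∈ D, ∀ f ∈ D, ∃ u ∈ F.Iso, κ A u e = f) :
    alternatingGroup (D : Set A) ≤ (wr_of_frame (F := F) hA hD).top (F.S ⊓ setStab (RingAut A) (D : Set A)) := by
  let P := F.PI ⊓ setStab (RingAut A) (D : Set A)
  have hP : (permOn P (D : Set A) inf_le_right).range = ⊤ := by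
    rw [eq_top_iff, ← Equiv.Perm.closure_isSwap, closure_le]
    rintro _ ⟨e, f, hef, rfl⟩
    have hef' : e.1 ≠ f.1 := fun h => hef (Subtype.ext h)
    obtain ⟨u, hu, hue⟩ := htr e e.2 f f.2
    obtain ⟨w, hw, w1, w2, w3⟩ := hD.exists_swap e.2 f.2 hef' hu hue
    refine swap_mem_range (P := P) inf_le_right (d := κ A w) ⟨⟨w, hw, rfl⟩, fun g => ?_⟩ w1 w2 w3
    change g ∈ D ↔ κ A w g ∈ D
    by_cases n1 : g = e
    · rw [n1, w1]; exact iff_of_true e.2 f.2
    by_cases n2 : g = f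
    · rw [n2, w2]; exact iff_of_true f.2 e.2
    refine ⟨fun h1 => by rwa [w3 _ h1 n1 n2], fun h1 => ?_⟩
    have n3 : κ A w g ≠ e := fun e' => n2 ((κ A w).injective (e'.trans w2.symm))
    have n4 : κ A w g ≠ f := fun e' => n1 ((κ A w).injective (e'.trans w1.symm))
    exact (κ A w).injective (w3 _ h1 n3 n4) ▸ h1
  rw [← alternatingGroup.commutator_perm_eq (by rwa [Nat.card_eq_fintype_card]), commutator_def, ← hP,
    MonoidHom.range_eq_map, ← map_commutator]
  rintro _ ⟨g, hg, rfl⟩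
  have h1 : g.1 ∈ ⁅P, P⁆ := by rw [← map_subtype_commutator]; exact ⟨g, hg, rfl⟩
  have h2 : g.1 ∈ F.S ⊓ setStab (RingAut A) (D : Set A) :=
    ⟨by rw [FR.S_eq]; exact commutator_mono inf_le_left inf_le_left h1, g.2.2⟩
  exact ⟨⟨g.1, h2⟩, h2, rfl⟩

/-- `H` is maximal with respect to `S` -/
structure Cx (F : FR A) (H : Subgroup (RingAut A)) : Prop where
  ss : SS A
  span : F.Span
  simple : IsSimpleGroup F.S
  noncomm : ¬ IsMulCommutative F.S
  le : H ≤ F.Aut
  not_le : ¬ F.S ≤ H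
  max : ∀ P : Subgroup (RingAut A), H ≤ P → P ≤ F.Aut → ¬ F.S ≤ P → F.S ⊓ P ≤ H

namespace Cx

variable {H : Subgroup (RingAut A)} (h : Cx F H) [Finite A]
include h

theorem exists_ctx : ∃ M, Ctx F M := by
  have := finite_ringAut (A := A)
  obtain ⟨M, -, hM⟩ := Finite.exists_le_maximal (p := fun M : Subgroup (RingAut A) => M ≤ F.Aut ∧ ¬ F.S ≤ M)
    (a := H) ⟨h.le, h.not_le⟩
  exact ⟨M, h.ss, h.span, h.simple, h.noncomm, hM.1.1, hM.1.2, fun M' h1 h2 h3 => hM.2 ⟨h2, h3⟩ h1⟩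

omit [Finite A] in
theorem inf_eq {P : Subgroup (RingAut A)} (h1 : H ≤ P) (h2 : ¬ F.S ≤ P) : F.S ⊓ H = F.S ⊓ P := by
  refine le_antisymm (inf_le_inf_left _ h1) (le_inf inf_le_left ?_)
  refine le_trans ?_ (h.max (F.Aut ⊓ P) (le_inf h.le h1) inf_le_left fun e => h2 (e.trans inf_le_right))
  exact le_inf inf_le_left (le_inf (inf_le_left.trans F.S_le_Aut) inf_le_right)

theorem eq_stab {D : Finset A} (hD : Fr D) (hinv : Inv H D) : F.S ⊓ H = F.S ⊓ setStab (RingAut A) (D : Set A) := by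
  obtain ⟨M, hM⟩ := h.exists_ctx
  exact h.inf_eq (le_setStab hinv) (hD.not_le_stab NCTV.boxNC hM)

/-- **no invariant frame** -/
theorem not_inv {r : ℕ} {Q La Lb : Subgroup (RingAut A)} (s : Sit r (F.S ⊓ H) Q La Lb) {D : Finset A} (hD : Fr D) :
    ¬ Inv H D := by
  classical
  intro hinv
  have := finite_ringAut (A := A)
  have hker : ∀ D : Finset A, Fr D → Inv H D →
      Group.IsSolvable (F.S ⊓ H ⊓ ptStab (RingAut A) (D : Set A) : Subgroup (RingAut A)) := fun D hD hinv => by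
    have h1 := s.toCh
    rw [h.eq_stab hD hinv] at h1 ⊢
    exact (wr_of_frame h.ss hD).sol_base fun e he => (sm_We h.ss hD h1 he).sol_map _
  by_cases htr : ∀ e ∈ D, ∀ f ∈ D, ∃ u ∈ F.Iso, κ A u e = f
  · have h0 := hker D hD hinv
    rw [h.eq_stab hD hinv] at s h0
    have w := wr_of_frame (F := F) h.ss hD
    by_cases h5 : 5 ≤ Fintype.card (D : Set A)
    · refine w.false s (fun _ e he f hf hef => We_disj h.ss hD ?_ he hf hef)
        (fun e he => (sm_We h.ss hD s.toCh he).sol_map _) (fun e he => (sm_We h.ss hD s.toCh he).alt_map _)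
        (alt_le_top h.ss hD h5 htr)
      simp only [Finset.coe_sort_coe, Fintype.card_coe] at h5
      omega
    · refine s.nsol (w.sol_of_top h0 ?_)
      have : Group.IsSolvable (Equiv.Perm (D : Set A)) := by
        refine (Sm.of_23 3 1 ?_).sol
        rw [Nat.card_eq_fintype_card, Fintype.card_perm]
        exact Nat.factorial_dvd_factorial (n := 4) (by omega)
      infer_instance
  · push Not at htr
    obtain ⟨e, he, f, hf, hef⟩ := htr
    let Q := H ⊓ F.PI
    let Z : Subring A := Subring.centralizer (Subring.centralizer (D : Set A) : Set A) ⊓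
      ⨅ γ : Q, (γ.1 : A →+* A).eqLocus (RingHom.id A)
    have hZ : ∀ z, z ∈ Z ↔ z ∈ Subring.centralizer (Subring.centralizer (D : Set A) : Set A) ∧ ∀ γ ∈ Q, γ z = z :=
      fun z => by
        rw [Subring.mem_inf, Subring.mem_iInf]
        exact and_congr Iff.rfl ⟨fun h1 γ hγ => h1 ⟨γ, hγ⟩, fun h1 γ => h1 γ γ.2⟩
    have hDD : ∀ x ∈ D, x ∈ Subring.centralizer (D : Set A) := fun x hx y hy => by
      by_cases hxy : y = x
      · rw [hxy]
      · rw [hD.orth y hy x hx hxy, hD.orth x hx y hy (Ne.symm hxy)]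
    let t := D.filter fun g => ∃ u ∈ F.Iso, κ A u e = g
    have hs : ∀ g, g ∈ t ↔ g ∈ D ∧ ∃ u ∈ F.Iso, κ A u e = g := fun g => Finset.mem_filter
    have hsQ : ∀ γ ∈ Q, ∀ g ∈ t, γ g ∈ t := by
      rintro _ ⟨hγ, v, hv, rfl⟩ g hg
      obtain ⟨g1, u, hu, rfl⟩ := (hs g).1 hg
      exact (hs _).2 ⟨hinv _ hγ _ g1, v * u, mul_mem hv hu, by rw [map_mul, ra_mul]⟩
    have hmul : ∀ g ∈ D, g * ∑ x ∈ t, x = if g ∈ t then g else 0 := by
      intro g hg
      rw [Finset.mul_sum]
      split_ifs with h1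
      · rw [Finset.sum_eq_single g (fun y hy hyx => hD.orth g hg y ((hs y).1 hy).1 hyx.symm) (fun h2 => absurd h1 h2),
          hD.idem g hg]
      · exact Finset.sum_eq_zero fun y hy => hD.orth g hg y ((hs y).1 hy).1 fun h2 => h1 (h2 ▸ hy)
    obtain ⟨D', hD', hD'Z, hD'M⟩ := exists_frame Z
      (fun x hx y hy => ((hZ y).1 hy).1 x fun d hd => ((hZ x).1 hx).1 d (hDD d hd)) (e := ∑ x ∈ t, x)
      ((hZ _).2 ⟨Subring.sum_mem _ fun x hx y hy => (hy x ((hs x).1 hx).1).symm, fun γ hγ => by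
        rw [map_sum]
        refine Finset.sum_equiv γ.toEquiv (fun z => ⟨hsQ γ hγ z, fun hz => ?_⟩) fun _ _ => rfl
        exact (ra_inv_apply γ z) ▸ hsQ _ (inv_mem hγ) _ hz⟩)
      (by rw [star_sum]; exact Finset.sum_congr rfl fun x hx => hD.symm x ((hs x).1 hx).1)
      (by rw [Finset.sum_mul]; exact Finset.sum_congr rfl fun x hx => by rw [hmul x ((hs x).1 hx).1, if_pos hx])
      (fun h0 => by
        have h1 := hmul e he
        rw [h0, mul_zero, if_pos ((hs e).2 ⟨he, 1, one_mem _, by rw [map_one, ra_one]⟩)] at h1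
        exact hD.ne e he h1.symm)
      (fun h0 => by
        have h1 := hmul f hf
        rw [h0, mul_one, if_neg fun h2 => by
          obtain ⟨-, u, hu, e'⟩ := (hs f).1 h2
          exact hef u hu e'] at h1
        exact hD.ne f hf h1)
    have hinv' : Inv H D' := hD'M H (h.le.trans F.Aut_le_SAut) fun γ hγ z hz => (hZ _).2
      ⟨inv_centralizer (inv_centralizer hinv) γ hγ z ((hZ z).1 hz).1, fun δ hδ => by
        have h1 := ((hZ z).1 hz).2 (γ⁻¹ * δ * γ⁻¹⁻¹) ⟨H.mul_mem (H.mul_mem (inv_mem hγ) hδ.1) (inv_mem (inv_mem hγ)),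
          FR.conj_mem_PI (inv_mem (h.le hγ)) hδ.2⟩
        rw [inv_inv, ra_mul, ra_mul] at h1
        rw [← ra_apply_inv γ (δ (γ z)), h1]⟩
    refine s.nsol (sol_of_le (le_inf le_rfl ?_) (hker D' hD' hinv'))
    exact fun γ hγ d hd => ((hZ d).1 (hD'Z d hd)).2 γ ⟨hγ.2, F.S_le_PI hγ.1⟩

end Cx

end Cfsg.Agent.T44.Cl
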