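import Cfsg.Agent.T44.Cl.Grp
import Cfsg.Agent.DS.Cl.Vec
import Cfsg.Agent.TwoFusion.SLTwoFacts
import Cfsg.Agent.LieClassical.OrthSimple
import Cfsg.Agent.H454.SpExt
import Cfsg.Agent.S0249
import Cfsg.Agent.S0264
import Cfsg.Agent.S0270
import Cfsg.Agent.S0283
import Cfsg.Agent.S0286

/-!
# S3544, classical groups: the isometry groups of classical spaces are big or small (helper34)
-/

set_option autoImplicit false

namespace Cfsg.Agent.T44.Cl

open Cfsg Matrix Cfsg.Agent.DS.Cl.Vec
open scoped MatrixGroups commutatorElement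

/-- big or small -/
def Dich (Y : Type*) [Group Y] : Prop := Bg (commutator Y) ∨ Sm Y

theorem Dich.congr {X Y : Type*} [Group X] [Group Y] (h : Dich X) (e : X ≃* Y) : Dich Y :=
  h.imp (fun h => h.comm_congr e) fun h => h.congr e

theorem Bg.comm_of_perfect {X : Type*} [Group X] (h : Bg X) (hp : commutator X = ⊤) : Bg (commutator X) :=
  h.of_hom (MonoidHom.id X) Function.injective_id (by rw [hp]; exact MonoidHom.range_eq_top.2 Function.surjective_id)

theorem range_eq_comm {X Y : Type*} [Group X] [Group Y] (f : X →* Y) (hp : commutator X = ⊤)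
    (h : commutator Y ≤ f.range) : f.range = commutator Y := by
  refine le_antisymm ?_ h
  rw [MonoidHom.range_eq_map, ← hp, commutator_def, commutator_def, Subgroup.map_commutator]
  exact Subgroup.commutator_mono le_top le_top

variable {K : Type*} [Field K] [Fintype K]

theorem sl2_perfect (h : 4 ≤ Fintype.card K) : commutator SL(2, K) = ⊤ := by
  obtain ⟨a, ha, ha'⟩ := exists_sq_ne h
  exact SL2.commutator_eq_top ha ha'

theorem bg_sl2 (h : 4 ≤ Fintype.card K) : Bg SL(2, K) :=
  Bg.of_perfect (sl2_perfect h) (TwoFusion.SLTwoFacts.isSimpleGroup_psl h)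

theorem nsol_psl2 (h : 4 ≤ Fintype.card K) : NSol PSL(2, K) := by
  have := TwoFusion.SLTwoFacts.isSimpleGroup_psl (F := K) h
  refine NSol.of_simple fun hc => (bg_sl2 h).nsol ?_
  have h1 : Group.IsSolvable PSL(2, K) := Group.isSolvable_of_comm hc.1.1
  have h2 : Group.IsSolvable (Subgroup.center SL(2, K)) :=
    sol_of_comm fun a ha b _ => (Subgroup.mem_center_iff.1 ha b).symm
  exact Group.isSolvable_of_ker_le_range (G'' := PSL(2, K)) (Subgroup.center SL(2, K)).subtype
    (QuotientGroup.mk' (Subgroup.center SL(2, K)))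
    (by rw [QuotientGroup.ker_mk', Subgroup.range_subtype])

theorem dich_gl (n : ℕ) : Dich (GL (Fin n) K) := by
  have key : commutator SL(n, K) = ⊤ → Bg SL(n, K) → Dich (GL (Fin n) K) := fun hp hb => by
    refine Or.inl (hb.of_hom SpecialLinearGroup.toGL (fun A B e => Subtype.ext (congrArg Units.val e))
      (range_eq_comm _ hp ((Abelianization.commutator_subset_ker
        (GeneralLinearGroup.det : GL (Fin n) K →* Kˣ)).trans ?_)))
    intro g hg
    exact ⟨⟨g, congrArg Units.val (MonoidHom.mem_ker.1 hg)⟩, Units.ext rfl⟩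
  by_cases h3 : 3 ≤ n
  · exact key (S0248.result n h3) (Bg.of_perfect (S0248.result n h3) (S0249.result n h3))
  by_cases h1 : n ≤ 1
  · exact Or.inr (Sm.of_comm fun a b => Units.ext (matrix_comm h1 a.1 b.1))
  obtain rfl : n = 2 := by omega
  have h0 := Matrix.card_GL_field (𝔽 := K) 2
  rcases card_cases K with h | h | h
  · exact Or.inr (Sm.of_23 1 1 (by rw [h0, h]; decide))
  · exact Or.inr (Sm.of_23 4 1 (by rw [h0, h]; decide))
  · exact key (sl2_perfect h) (bg_sl2 h)

theorem dich_sp (m : ℕ) : Dich (symplecticGroup (Fin m) K) := by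
  by_cases h : 2 ≤ m ∧ (m = 2 → 3 ≤ Fintype.card K)
  · have hp : commutator (symplecticGroup (Fin m) K) = ⊤ :=
      LieClassical.SympPerfect.commutator_eq_top (by have := h.2; omega)
    exact Or.inl ((Bg.of_perfect hp (S0270.result m h.1 h.2)).comm_of_perfect hp)
  have h0 := S0245.result (F := K) rfl m
  have h1 : m = 0 ∨ m = 1 ∨ m = 2 := by omega
  have h2 := card_cases K
  rcases h1 with rfl | rfl | rfl
  · exact Or.inr (Sm.of_23 0 0 (by rw [h0]; simp))
  · rcases h2 with h2 | h2 | h2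
    · exact Or.inr (Sm.of_23 1 1 (by rw [h0, h2]; simp))
    · exact Or.inr (Sm.of_23 3 1 (by rw [h0, h2]; simp))
    · exact Or.inl (((bg_sl2 h2).comm_of_perfect (sl2_perfect h2)).comm_congr (H454.SpExt.spTwo K).symm)
  · obtain ⟨e⟩ := S0247.result (F := K) (by omega)
    refine Or.inl (Bg.comm_congr ?_ e.symm)
    have h5 : 5 ≤ Nat.card (Fin 6) := by simp
    have := alternatingGroup.isSimpleGroup h5
    have h3 : Bg (alternatingGroup (Fin 6)) := by
      refine Bg.of_nsol' (NSol.of_simple fun hc => ?_)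
      have h4 := commutator_alternatingGroup_eq_top h5
      rw [commutator_eq_bot] at h4
      exact bot_ne_top h4
    exact h3.congr (MulEquiv.subgroupCongr (alternatingGroup.commutator_perm_eq h5).symm)

theorem dich_gu {q : ℕ} (hK : Fintype.card K = q ^ 2) (n : ℕ) : Dich (GU n K q) := by
  have key : commutator (SU n K q) = ⊤ → Bg (SU n K q) → Dich (GU n K q) := fun hp hb => by
    let f : SU n K q →* GU n K q :=
      ((SpecialLinearGroup.toGL : SL(n, K) →* GL (Fin n) K).comp (SU n K q).subtype).codRestrict (GU n K q) fun x => x.2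
    refine Or.inl (hb.of_hom f (fun A B e => Subtype.ext (Subtype.ext (congrArg (fun t => t.1.1) e)))
      (range_eq_comm _ hp ((Abelianization.commutator_subset_ker
        ((GeneralLinearGroup.det : GL (Fin n) K →* Kˣ).comp (GU n K q).subtype)).trans ?_)))
    intro g hg
    exact ⟨⟨⟨g.1, congrArg Units.val (MonoidHom.mem_ker.1 hg)⟩, g.2⟩, Subtype.ext (Units.ext rfl)⟩
  have h0 := S0277.result hK n
  by_cases h32 : n = 3 ∧ q = 2
  · obtain ⟨rfl, rfl⟩ := h32
    exact Or.inr (Sm.of_23 3 4 (by rw [h0]; decide))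
  by_cases h3 : 3 ≤ n
  · have hp := LieClassical.HermPerfect.commutator_SU_eq_top hK h3 h32
    exact key hp (Bg.of_perfect hp (S0283.result hK n h3 h32))
  by_cases h1 : n ≤ 1
  · exact Or.inr (Sm.of_comm fun a b => Subtype.ext (Units.ext (matrix_comm h1 a.1.1 b.1.1)))
  obtain rfl : n = 2 := by omega
  obtain ⟨p, k, hp, -, hq, hk⟩ := LieClassical.HermBasic.exists_prime_pow hK
  obtain ⟨L, _, _, hL⟩ := exists_field p k hp hk.ne'
  rw [← hq] at hL
  obtain ⟨e⟩ := S0281.result hK hL
  rcases card_cases L with h | h | h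
  · obtain rfl : q = 2 := hL.symm.trans h
    exact Or.inr (Sm.of_23 1 2 (by rw [h0]; decide))
  · obtain rfl : q = 3 := hL.symm.trans h
    exact Or.inr (Sm.of_23 5 1 (by rw [h0]; decide))
  · refine key ?_ ((bg_sl2 h).congr e.symm)
    rw [commutator_def, ← Subgroup.map_top_of_surjective e.symm.toMonoidHom e.symm.surjective,
      ← Subgroup.map_commutator, ← commutator_def, sl2_perfect h]

theorem sm_dihedral (n : ℕ) : Sm (DihedralGroup n) := by
  let f : Multiplicative (ZMod n) →* DihedralGroup n :=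
    { toFun := fun i => DihedralGroup.r i.toAdd
      map_one' := rfl
      map_mul' := fun i j => by rw [DihedralGroup.r_mul_r]; rfl }
  refine Sm.of_index f.range ?_ ?_
  · rintro _ ⟨a, rfl⟩ _ ⟨b, rfl⟩
    rw [← map_mul, ← map_mul, mul_comm]
  · rw [Subgroup.index_eq_two_iff]
    refine ⟨DihedralGroup.sr 0, ?_⟩
    rintro (b | b)
    · refine Or.inr ⟨⟨Multiplicative.ofAdd b, rfl⟩, ?_⟩
      rintro ⟨c, hc⟩
      rw [DihedralGroup.r_mul_sr] at hc
      cases hc
    · refine Or.inl ⟨⟨Multiplicative.ofAdd _, (DihedralGroup.sr_mul_sr _ _).symm⟩, ?_⟩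
      rintro ⟨c, hc⟩
      cases hc

omit [Fintype K] in
theorem dich_isometryGroup {ι : Type} [Fintype ι] [DecidableEq ι] {Q : (ι → K) → K} {X Y : Type*} [Group X]
    [Group Y] (φ : isometryGroup K Q ≃* X) (ψ : POmega K Q ≃* Y) (h : NSol Y) : Dich X :=
  Or.inl ((Bg.of_nsol (h.congr ψ.symm)).comm_congr φ)

variable {V : Type*} [AddCommGroup V] [Module K V]

theorem dich_linearEquiv [FiniteDimensional K V] : Dich (V ≃ₗ[K] V) :=
  (dich_gl _).congr (LieClassical.OrthFourCommon.glEquiv (Module.finBasis K V).equivFun.symm)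

omit [Fintype K] in
theorem exists_sp_equiv [FiniteDimensional K V] (b : LinearMap.BilinForm K V) (hb : b.IsAlt) (hs : b.SeparatingLeft) :
    ∃ m, Module.finrank K V = 2 * m ∧ Nonempty (symplecticGroup (Fin m) K ≃* Isom K fun v w => b v w) := by
  obtain ⟨m, l, c, -, -, -, h4⟩ := S0752.result b hb
  have hl : l = 0 := by
    by_contra hl
    exact c.ne_zero _ (hs _ (h4 ⟨0, Nat.pos_of_ne_zero hl⟩))
  subst hl
  have hm : Module.finrank K V = 2 * m := by
    rw [Module.finrank_eq_card_basis c]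
    simp [two_mul]
  obtain ⟨e, he⟩ := ClassicalGeometry.SympIso.exists_linearEquiv_sympForm b hb hs hm
  obtain ⟨φ⟩ := exists_equiv e (sympForm m K) (fun v w => b v w) he
  let f : symplecticGroup (Fin m) K →* preserving (Units.coeHom (Matrix (Fin m ⊕ Fin m) (Fin m ⊕ Fin m) K)) (sympForm m K) :=
    (symplecticGroup (Fin m) K).subtype.toHomUnits.codRestrict _ fun x =>
      ClassicalGeometry.SympBasic.mem_symplecticGroup_iff.1 x.2
  refine ⟨m, hm, ⟨(MulEquiv.ofBijective f ⟨fun A B e => Subtype.ext (congrArg (fun t => t.1.1) e), fun g => ?_⟩).trans φ⟩⟩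
  exact ⟨⟨g.1, ClassicalGeometry.SympBasic.mem_symplecticGroup_iff.2 g.2⟩, Subtype.ext (Units.ext rfl)⟩

theorem dich_isom_alt [FiniteDimensional K V] (b : LinearMap.BilinForm K V) (hb : b.IsAlt) (hs : b.SeparatingLeft) :
    Dich (Isom K fun v w => b v w) := by
  obtain ⟨m, -, ⟨e⟩⟩ := exists_sp_equiv b hb hs
  exact (dich_sp m).congr e

theorem dich_isom_herm [FiniteDimensional K V] {σ : K →+* K} (hσ : σ ≠ RingHom.id K) (hσ2 : ∀ a, σ (σ a) = a)
    (b : V →ₛₗ[σ] V →ₗ[K] K) (hb : b.IsSymm) (hs : b.SeparatingLeft) : Dich (Isom K fun v w => b v w) := by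
  obtain ⟨q, -, hq, hσq⟩ := H324.FC.exists_q (RingEquiv.ofRingHom σ σ (RingHom.ext hσ2) (RingHom.ext hσ2)) hσ2
    (ClassicalGeometry.InvolutiveNorm.exists_sigma_ne hσ)
  have hσq' : ∀ x, σ x = x ^ q := hσq
  rw [Nat.card_eq_fintype_card] at hq
  obtain ⟨c, hc⟩ := ClassicalGeometry.HermOrthonormal.exists_orthonormal_basis hσ hσ2 b hb hs
  obtain ⟨φ⟩ := exists_equiv c.equivFun.symm (hermForm _ K q) (fun v w => b w v) fun u v => by
    simp only [Module.Basis.equivFun_symm_apply, map_sum, LinearMap.sum_apply, LinearMap.map_smulₛₗ, map_smul,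
      LinearMap.smul_apply, hc, smul_eq_mul, mul_ite, mul_one, mul_zero, Finset.sum_ite_eq', Finset.mem_univ, if_true,
      hσq', hermForm]
  have h1 : (Isom K fun v w => b w v) = Isom K fun v w => b v w := by
    ext g
    exact ⟨fun h v w => h w v, fun h v w => h w v⟩
  exact (dich_gu hq _).congr (φ.trans (MulEquiv.subgroupCongr h1))

open LieClassical.OrthCore in
/-- orthogonal groups -/
theorem dich_O [FiniteDimensional K V] (Q : QuadraticForm K V) (hQ : Nondeg Q) : Dich (O Q) := by
  have : Finite V := Module.finite_of_finite K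
  have : Finite (V ≃ₗ[K] V) := Finite.of_injective (fun g : V ≃ₗ[K] V => (g : V → V)) DFunLike.coe_injective
  have hQ' : (QuadraticMap.polarBilin Q).Nondegenerate :=
    ⟨fun x hx => hQ x hx, fun x hx => hQ x fun y => by rw [QuadraticMap.polar_comm]; exact hx y⟩
  have han : ∀ ζ : K, (∀ t : K, t ^ 2 + t + ζ ≠ 0) → ∀ z₁ z₂ : K, z₁ ^ 2 + 1 * z₁ * z₂ + ζ * z₂ ^ 2 = 0 →
      z₁ = 0 ∧ z₂ = 0 := by
    intro ζ hζ z₁ z₂ h
    by_cases h2 : z₂ = 0
    · rw [h2] at h
      exact ⟨by simpa using h, h2⟩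
    · refine absurd ?_ (hζ (z₁ / z₂))
      field_simp
      linear_combination h
  by_cases h5 : 5 ≤ Module.finrank K V
  · have hG := LieClassical.OrthFinite.good_of_finite hQ h5
    have hp : commutator (E Q) = ⊤ := by
      rw [eq_top_iff, ← Subgroup.map_le_map_iff_of_injective (Subgroup.subtype_injective (E Q)),
        Subgroup.map_subtype_commutator, ← MonoidHom.range_eq_map, Subgroup.range_subtype, hG.E_perfect]
    refine Or.inl ((Bg.of_perfect hp (LieClassical.OrthSimple.good_isSimpleGroup hG)).of_hom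
      (Subgroup.inclusion E_le_O) (Subgroup.inclusion_injective _) ?_)
    apply Subgroup.map_injective (O Q).subtype_injective
    rw [Subgroup.map_subtype_commutator, hG.commutator_eq_E, Subgroup.inclusion_range,
      Subgroup.map_subgroupOf_eq_of_le E_le_O]
  by_cases h1 : Module.finrank K V ≤ 1
  · refine Or.inr (Sm.of_comm fun a b => Subtype.ext ?_)
    obtain ⟨v, hv⟩ := finrank_le_one_iff.1 h1
    obtain ⟨s, hs⟩ := hv (a.1 v)
    obtain ⟨t, ht⟩ := hv (b.1 v)
    ext w
    obtain ⟨c, rfl⟩ := hv w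
    change a.1 (b.1 (c • v)) = b.1 (a.1 (c • v))
    simp only [map_smul, ← hs, ← ht, smul_smul]
    rw [mul_right_comm]
  have h2 : Module.finrank K V = 2 * 1 ∨ Module.finrank K V = 2 * 1 + 1 ∨ Module.finrank K V = 2 * 2 := by omega
  rcases h2 with h2 | h2 | h2
  · rcases H174.exists_std le_rfl h2 Q hQ' with ⟨g, hg⟩ | ⟨ζ, g, hζ, hg⟩
    · obtain ⟨φ⟩ := O_equiv g _ Q one_ne_zero fun v => by rw [one_mul, hg]
      obtain ⟨ψ⟩ := S0305.result (F := K) rfl
      exact Or.inr ((sm_dihedral _).congr (ψ.symm.trans φ))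
    · obtain ⟨φ⟩ := O_equiv g _ Q one_ne_zero fun v => by rw [one_mul, hg]
      obtain ⟨ψ⟩ := S0306.result (F := K) rfl 1 ζ (han ζ hζ)
      exact Or.inr ((sm_dihedral _).congr (ψ.symm.trans φ))
  · obtain ⟨c, h3, h4, h5, h6, -⟩ := S2618.result h2 Q hQ'
    have hc : ∀ v, v = c.repr v (.inl ()) • c (.inl ()) + (c.repr v (.inr (.inl 0)) • c (.inr (.inl 0)) +
        c.repr v (.inr (.inr 0)) • c (.inr (.inr 0))) := by
      intro v
      conv_lhs => rw [← c.sum_repr v]
      simp only [Fintype.sum_sum_type, Fintype.sum_unique]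
      rfl
    have h7 := h6 0 0
    rw [if_pos rfl] at h7
    have h8 : (2 : K) ≠ 0 := by
      intro h9
      refine c.ne_zero (.inl ()) (hQ _ fun y => ?_)
      rw [hc y]
      simp only [QuadraticMap.polar_add_right, QuadraticMap.polar_smul_right, (h4 0).1, (h4 0).2, polar_self', h9,
        zero_mul, smul_zero, add_zero]
    have hodd : Odd (Fintype.card K) :=
      Nat.odd_iff.2 (FiniteField.odd_card_of_char_ne_two fun h => h8 (by
        have := (ringChar.spec K 2).2 (by rw [h])
        exact_mod_cast this))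
    let c' := c.unitsSMul (Sum.elim (fun _ => 1) (Sum.elim (fun _ => Units.mk0 _ h3) fun _ => 1))
    obtain ⟨φ⟩ := O_equiv c'.equivFun (quadFormOdd 1 K) Q h3 fun v => by
      conv_lhs => rw [hc v]
      simp only [Q_add, QuadraticMap.map_smul, QuadraticMap.polar_add_right, QuadraticMap.polar_smul_right,
        QuadraticMap.polar_smul_left, (h4 0).1, (h4 0).2, (h5 0).1, (h5 0).2, h7, smul_eq_mul, quadFormOdd, c',
        Module.Basis.equivFun_apply, Module.Basis.repr_unitsSMul, Fin.sum_univ_one, Sum.elim_inl, Sum.elim_inr,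
        inv_one, one_smul, Units.smul_def, Units.val_inv_eq_inv_val, Units.val_mk0]
      field_simp
      ring
    obtain ⟨ψ⟩ := S0298.result hodd
    rcases card_cases K with h | h | h
    · rw [h] at hodd
      exact absurd hodd (by decide)
    · refine Or.inr ((Sm.of_23 4 1 ?_).congr φ)
      rw [S0286.result h (by decide) 1]
      decide
    · exact dich_isometryGroup φ ψ (nsol_psl2 h)
  · rcases H174.exists_std (by norm_num) h2 Q hQ' with ⟨g, hg⟩ | ⟨ζ, g, hζ, hg⟩
    · obtain ⟨φ⟩ := O_equiv g _ Q one_ne_zero fun v => by rw [one_mul, hg]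
      rcases card_cases K with h | h | h
      · refine Or.inr ((Sm.of_23 3 2 ?_).congr φ)
        rw [S0287.result h 2 (by norm_num)]
        decide
      · refine Or.inr ((Sm.of_23 7 2 ?_).congr φ)
        rw [S0287.result h 2 (by norm_num)]
        decide
      · obtain ⟨ψ⟩ := S0299.result (F := K) (by omega)
        exact dich_isometryGroup φ ψ ((nsol_psl2 h).prod (nsol_psl2 h))
    · obtain ⟨φ⟩ := O_equiv g _ Q one_ne_zero fun v => by rw [one_mul, hg]
      obtain ⟨p, hp⟩ := CharP.exists K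
      obtain ⟨k, hpp, hk⟩ := FiniteField.card K p
      obtain ⟨L, _, _, hL⟩ := exists_field p (k * 2) hpp (mul_ne_zero k.ne_zero two_ne_zero)
      rw [pow_mul, ← hk] at hL
      obtain ⟨ψ⟩ := S0300.result rfl hL 1 ζ (han ζ hζ)
      have h4 : 4 ≤ Fintype.card L := by
        have : 1 < Fintype.card K := Fintype.one_lt_card
        rw [hL]
        nlinarith
      exact dich_isometryGroup φ ψ (nsol_psl2 h4)

end Cfsg.Agent.T44.Cl
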