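import Cfsg.Agent.T44.Cl.Key1
import Cfsg.Agent.DS.Cl.P5

/-!
# S3544, classical groups: the isometry group of a form ring is big or small (helper34, after helper54's `DS/Cl/P5`)
-/

set_option autoImplicit false

namespace Cfsg.Agent.T44.Cl

open Cfsg Cfsg.Agent.DS Cfsg.Agent.DS.Cl Cfsg.Agent.DS.Cl.P5 Module

variable {A : Type} [Ring A] [StarRing A]

theorem key_L [Finite A] (F : FR A) (hM : ModL A) : Dich F.Iso := by
  obtain ⟨K, _, _, n, π, -, hπ⟩ := hM
  have hinj : ∀ a a', π a = π a' → π (star a) = π (star a') → a = a' := fun a a' h1 h2 => hπ.1 (Prod.ext h1 h2)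
  obtain ⟨ε, hε⟩ := hπ.2 (1, 0)
  have h1 : π ε = 1 := congrArg Prod.fst hε
  have h2 : π (star ε) = 0 := congrArg Prod.snd hε
  have hE : Eps ε := by
    refine ⟨Subring.mem_center_iff.2 fun a => hinj _ _ ?_ ?_, hinj _ _ ?_ ?_, hinj _ _ ?_ ?_⟩ <;>
      simp [h1, h2]
  have hL := F.L_eq hE.cen hE.add
  let f : F.Iso →* (End K (Fin n → K))ˣ := (Units.map (π : A →* End K (Fin n → K))).comp F.Iso.subtype
  have hf : Function.Bijective f := by
    constructor
    · rw [injective_iff_map_eq_one]
      intro u hu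
      have h3 : π (u : Aˣ) = 1 := congrArg Units.val hu
      have h4 := congrArg π (FR.Iso.ms u.2)
      rw [map_mul, h3, one_mul] at h4
      exact Subtype.ext (Units.ext (hinj _ _ (by rw [h3, ← map_one π]; rfl) (by rw [h4]; simp)))
    · intro x
      obtain ⟨u, hu⟩ := hπ.2 (x, (x⁻¹ : (End K (Fin n → K))ˣ))
      have h3 : π u = x := congrArg Prod.fst hu
      have h4 : π (star u) = (x⁻¹ : (End K (Fin n → K))ˣ) := congrArg Prod.snd hu
      have h5 : u * star u = 1 := hinj _ _ (by simp [h3, h4]) (by simp [h3, h4])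
      exact ⟨⟨mkU u h5, mem_Iso_of_max hL h5⟩, Units.ext h3⟩
  exact dich_linearEquiv.congr ((MulEquiv.ofBijective f hf).trans
    (LinearMap.GeneralLinearGroup.generalLinearEquiv K (Fin n → K))).symm

theorem key_U [Finite A] (F : FR A) (hM : ModU A) : Dich F.Iso := by
  obtain ⟨K, _, _, n, e, σ, b, hn, hσ, hσ2, hb, hs, hadj⟩ := hM
  have : Nonempty (Fin n) := ⟨⟨0, hn⟩⟩
  have hr : ∀ x, (∀ v, b v x = 0) → x = 0 := fun x hx => hs x fun v => by rw [← hb.eq, hx, map_zero]
  have hst := star_smul_one hr hadj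
  have hL : F.L = Lmax A := by
    obtain ⟨c, hc⟩ := ClassicalGeometry.InvolutiveNorm.exists_add_sigma_eq hσ hσ2 (map_one σ)
    refine F.L_eq (cen_smul e c) ?_
    rw [hst, ← map_add, ← add_smul, hc, one_smul, map_one]
  obtain ⟨φ⟩ := equiv_of e (U := F.Iso) (X := Vec.Isom K fun v w => b v w) fun u =>
    ⟨fun hu => (unitary_iff hr hadj u).1 hu.1, fun hu => mem_Iso_of_max hL ((unitary_iff hr hadj u).2 hu)⟩
  exact (dich_isom_herm hσ hσ2 b hb hs).congr φ

theorem key_B [Finite A] (F : FR A) (hM : ModB A) : Dich F.Iso := by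
  obtain ⟨K, _, _, n, e, b, hn, hb, hs, hadj⟩ := hM
  have : Nonempty (Fin n) := ⟨⟨0, hn⟩⟩
  have hr : ∀ x, (∀ v, b v x = 0) → x = 0 := fun x hx => hs x fun v => by
    rcases hb with hb | hb
    · rw [hb, hx]
    · rw [hb, hx, neg_zero]
  have hst := star_smul_one hr hadj
  have hS : F.L = Lmax A → b.IsAlt → Dich F.Iso := by
    intro hL ha
    obtain ⟨φ⟩ := equiv_of e (U := F.Iso) (X := Vec.Isom K fun v w => b v w) fun u =>
      ⟨fun hu => (unitary_iff hr hadj u).1 hu.1, fun hu => mem_Iso_of_max hL ((unitary_iff hr hadj u).2 hu)⟩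
    exact (dich_isom_alt b ha hs).congr φ
  have hO : F.L = Lmin A → (∀ v w, b w v = b v w) → Dich F.Iso := by
    intro hL hb
    let Q : QuadraticForm K (Fin n → K) := LinearMap.BilinMap.toQuadraticMap (b.compl₂ (e F.l))
    have hQ : ∀ v, Q v = b v (e F.l v) := fun _ => rfl
    have hpol : ∀ v w, QuadraticMap.polar Q v w = b v w := by
      intro v w
      rw [LinearMap.BilinMap.polar_toQuadraticMap, LinearMap.compl₂_apply, LinearMap.compl₂_apply, hb (e F.l v), hadj,
        ← map_add, ← LinearMap.add_apply, ← map_add, F.l_add, map_one, End.one_apply]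
    have hmin : ∀ x, x ∈ Lmin A ↔ ∀ v, b v (e x v) = 0 := by
      intro x
      constructor
      · rintro ⟨a, rfl⟩ v
        rw [map_sub, LinearMap.sub_apply, map_sub, ← hadj, hb, sub_self]
      · intro hx
        obtain ⟨β, hβ⟩ := Fwd.exists_half (b.compl₂ (e x)) hx
        have hnd : b.Nondegenerate := ⟨hs, hr⟩
        obtain ⟨a, ha⟩ := e.surjective ((b.toDual hnd).symm.toLinearMap.comp β.flip)
        have ha' : ∀ v w, b (e a w) v = β v w := fun v w => by
          rw [ha]
          exact LinearMap.BilinForm.apply_toDual_symm_apply (hB := hnd) (β.flip w) v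
        refine ⟨a, e.injective (LinearMap.ext fun w => ?_)⟩
        rw [← sub_eq_zero]
        refine hr _ fun v => ?_
        rw [map_sub, map_sub, LinearMap.sub_apply, map_sub, ← hadj, ha', hb (e a w), ha', hβ, LinearMap.compl₂_apply,
          sub_self]
    have hQu : ∀ (u : A) v, b v (e (u * F.l * star u - F.l) v) = Q (e (star u) v) - Q v := by
      intro u v
      rw [hQ, hQ, hadj, star_star, map_sub, LinearMap.sub_apply, map_sub, map_mul, map_mul]
      rfl
    obtain ⟨φ⟩ := equiv_of e (U := F.Iso) (X := LieClassical.OrthCore.O Q) fun u => by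
      rw [LieClassical.OrthCore.mem_O]
      constructor
      · intro hu v
        have h1 := hu.2
        rw [hL, hmin] at h1
        have h2 := h1 (e u v)
        rw [hQu, ← End.mul_apply, ← map_mul, FR.Iso.sm hu, map_one, End.one_apply, sub_eq_zero] at h2
        exact h2.symm
      · intro hu
        have h1 : (u : A) * star (u : A) = 1 := (unitary_iff hr hadj u).2 fun v w =>
          (hpol _ _).symm.trans ((LieClassical.OrthCore.polar_map hu v w).trans (hpol v w))
        refine ⟨h1, ?_⟩
        rw [hL, hmin]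
        intro v
        rw [hQu, ← hu, toLE_apply, ← End.mul_apply, ← map_mul, h1, map_one, End.one_apply, sub_self]
    exact (dich_O Q fun x hx => hs x fun y => by rw [← hpol, hx]).congr φ
  by_cases h2 : (2 : K) = 0
  · have hb' : ∀ v w, b w v = b v w := by
      rcases hb with hb | hb
      · exact hb
      · intro v w
        linear_combination hb v w - b v w * h2
    rcases F.par with hL | hL
    · exact hO hL hb'
    · refine hS hL fun v => ?_
      have h3 : b v v = b v (e (F.l + star F.l) v) := by rw [F.l_add, map_one, End.one_apply]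
      rw [map_add, LinearMap.add_apply, map_add, ← hadj, hb' (e F.l v)] at h3
      linear_combination h3 + b (e F.l v) v * h2
  · have h3 : e.symm ((2 : K)⁻¹ • 1) + star (e.symm ((2 : K)⁻¹ • 1)) = 1 := by
      rw [hst, RingHom.id_apply, ← map_add, ← add_smul, ← two_mul, mul_inv_cancel₀ h2, one_smul, map_one]
    have hL := F.L_eq (cen_smul e _) h3
    rcases hb with hb | hb
    · exact hO (hL.trans (Lmin_eq_Lmax (cen_smul e _) h3).symm) hb
    · refine hS hL fun v => ?_
      have h4 : 2 * b v v = 0 := by linear_combination hb v v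
      exact (mul_eq_zero.1 h4).resolve_left h2

/-- **the key fact** -/
theorem key [Finite A] (h : SS A) (F : FR A) : Dich F.Iso := by
  rcases exists_model h with hM | hM | hM
  · exact key_L F hM
  · exact key_U F hM
  · exact key_B F hM

end Cfsg.Agent.T44.Cl
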