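import Cfsg.Agent.T44.Cl.Four
import Cfsg.Agent.T44.Cl.Idem
import Cfsg.Agent.T44.Cl.AB

/-!
# S3544, classical groups: the theorem for form rings (helper34)
-/

set_option autoImplicit false

namespace Cfsg.Agent.T44.Cl

open Cfsg Cfsg.Agent.T44 Cfsg.Agent.DS Cfsg.Agent.DS.Cl Subgroup
open scoped commutatorElement

/-- `Ω₁ Z(Q)` -/
def OZ {G : Type*} [Group G] (r : ℕ) (Q : Subgroup G) : Subgroup G where
  carrier := {x | x ∈ Q ⊓ centralizer (Q : Set G) ∧ x ^ r = 1}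
  one_mem' := ⟨one_mem _, one_pow _⟩
  mul_mem' := fun {a b} ha hb => ⟨mul_mem ha.1 hb.1, by
    rw [(show Commute a b from mem_centralizer_iff.1 hb.1.2 a ha.1.1).mul_pow, ha.2, hb.2, mul_one]⟩
  inv_mem' := fun ha => ⟨inv_mem ha.1, by rw [inv_pow, ha.2, inv_one]⟩

theorem OZ_norm {G : Type*} [Group G] {r : ℕ} {H Q : Subgroup G} (h : H ≤ normalizer (Q : Set G)) :
    H ≤ normalizer (OZ r Q : Set G) := norm_of_conj fun a ha x hx =>
  ⟨conj_mem_of_norm (norm_inf h (norm_centralizer h)) ha hx.1, by rw [conj_pow, hx.2, mul_one, mul_inv_cancel]⟩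

theorem OZ_ne {G : Type*} [Group G] [Finite G] {r : ℕ} (hr : r.Prime) {Q : Subgroup G} (hQ : IsPGroup r Q)
    (hne : Q ≠ ⊥) : OZ r Q ≠ ⊥ := by
  have : Fact r.Prime := ⟨hr⟩
  have := (nontrivial_iff_ne_bot Q).2 hne
  have := hQ.center_nontrivial
  have h1 : r ∣ Nat.card (center Q) :=
    (hQ.to_subgroup _).card_eq_or_dvd.resolve_left (Finite.one_lt_card (α := center Q)).ne'
  obtain ⟨x, hx⟩ := exists_prime_orderOf_dvd_card' r h1
  intro e
  have h2 : (x.1 : G) ∈ OZ r Q := ⟨⟨x.1.2, mem_centralizer_iff.2 fun q hq =>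
    congrArg Subtype.val (mem_center_iff.1 x.2 ⟨q, hq⟩)⟩, by
      have h3 := pow_orderOf_eq_one x
      rw [hx] at h3
      exact congrArg (fun t : center Q => (t.1 : G)) h3⟩
  rw [e, mem_bot] at h2
  rw [show x = 1 from Subtype.ext (Subtype.ext h2), orderOf_one] at hx
  exact hr.one_lt.ne hx

variable {A : Type} [Ring A] [StarRing A] {F : FR A}

local notation "κ" => DS.Cl.cj

omit [StarRing A] in
theorem isUnit_card {r : ℕ} (hr : r.Prime) (hu : IsUnit (r : A)) {E : Subgroup (RingAut A)} [Fintype E]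
    (hE : IsPGroup r E) : IsUnit (Fintype.card E : A) := by
  have : Fact r.Prime := ⟨hr⟩
  obtain ⟨k, hk⟩ := IsPGroup.iff_card.1 hE
  rw [← Nat.card_eq_fintype_card, hk, Nat.cast_pow]
  exact hu.pow k

/-- the centraliser of the fixed ring -/
theorem ss_centralizer [Finite A] (hA : SS A) {E : Subgroup (RingAut A)} [Fintype E] (hE : E ≤ F.PI) (hc : Cm E)
    (hu : IsUnit (Fintype.card E : A)) {s : E → Aˣ} (hs : ∀ x, s x ∈ F.Iso) (hs' : ∀ x, κ A (s x) = x)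
    (hnd : ∀ δ ∈ E, (∀ x, δ (s x : A) = s x) → δ = 1) {B : Blk A} (hB : SS B.T) (hBe : B.e = 1)
    (hBc : ∀ x, x ∈ B.car ↔ x ∈ fixR E) (hst : ∀ x ∈ Subring.centralizer (fixR E : Set A), star x ∈
      Subring.centralizer (fixR E : Set A)) : SS (Blk.ofSubring _ hst).T := by
  obtain ⟨π, m, h⟩ := exists_avgE E hu
  have := hA.nontrivial
  refine Blk.ss_of _ one_ne_zero fun I h1 h2 h3 => ?_
  refine (I.bot_or_exists_ne_zero).imp id ?_
  rintro ⟨a, ha, ha0⟩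
  have hlift : ∀ u : Aˣ, κ A u ∈ E → (u : A) ∈ Subring.centralizer (fixR E : Set A) :=
    fun u hu y hy => (comm_of_fixR hu hy).symm
  have h2' : ∀ x ∈ I, ∀ b ∈ Subring.centralizer (fixR E : Set A), x * b ∈ I := fun x hx b hb => by
    have h4 := h3 _ (h2 _ (h3 x hx) _ (hst b hb))
    rwa [star_mul, star_star, star_star] at h4
  obtain ⟨x, hx⟩ := h.exists_ne hA hE hc hs hs' hnd ha0
  have h4 : π (a * s x) ∈ I := by
    refine h.mem_of fun γ hγ => ?_
    obtain ⟨u, -, rfl⟩ := hE hγ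
    exact h2' _ (h2 _ (h2' _ ha _ (hlift _ (by rw [hs']; exact x.2))) _ (hlift u hγ)) _
      (hlift _ (by rw [map_inv]; exact inv_mem hγ))
  have key : ∀ c ∈ I, c ∈ fixR E → c ≠ 0 → ∀ ε : B.T, B.val ε * c = star c → (1 : A) ∈ I := by
    intro c hcI hcR h0 ε hε
    have h5 : B.mk' c ((hBc c).2 hcR) ∈ Subring.center B.T :=
      B.mem_center_iff.2 fun y hy => h1 c hcI y ((hBc y).1 hy)
    obtain ⟨v, hv⟩ := Ext.isUnit_of_star hB h5 (e := ε) (B.val_inj hε.symm) fun e => h0 (congrArg B.val e)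
    have h6 := inv_cen (u := v) (hv ▸ h5)
    have h7 : B.val (v⁻¹ : B.Tˣ) * c = 1 := by
      rw [← hBe, ← B.val_one, ← v.inv_mul, hv]
      rfl
    rw [← h7]
    exact h2 _ hcI _ fun y hy => B.mem_center_iff.1 h6 y ((hBc y).2 hy)
  have hR := h.mem (a * s x)
  by_cases h5 : π (a * s x) + star (π (a * s x)) = 0
  · refine key _ h4 hR hx (-1) ?_
    rw [map_neg, B.val_one, hBe, neg_mul, one_mul, neg_eq_iff_add_eq_zero, h5]
  · refine key _ (add_mem h4 (h3 _ h4)) (add_mem hR (star_fixR (hE.trans (F.PI_le_Aut.trans F.Aut_le_SAut)) _ hR)) h5 1 ?_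
    rw [B.val_one, hBe, one_mul, star_add, star_star, add_comm]

/-- **the theorem for form rings** -/
theorem Cx.false [Finite A] {H : Subgroup (RingAut A)} (h : Cx F H) {r : ℕ} {Q La Lb : Subgroup (RingAut A)}
    (s : Sit r (F.S ⊓ H) Q La Lb) (hu : IsUnit (r : A)) (hQ : H ≤ normalizer (Q : Set (RingAut A)))
    (ab : Cm Q → (∀ a ∈ Q, a ^ r = 1) → (∀ K ≤ Q, H ≤ normalizer (K : Set (RingAut A)) → K = ⊥ ∨ K = Q) → False) :
    False := by
  classical
  have := finite_ringAut (A := A)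
  have := h.ss.nontrivial
  obtain ⟨E, ⟨hE0, hEn, hEm⟩, hEZ⟩ := exists_minInv_le (OZ_ne s.prime s.isO.pg s.Q_ne) (OZ_norm (r := r) hQ)
  have : Fintype E := Fintype.ofFinite E
  have hEQ : E ≤ Q := fun x hx => (hEZ hx).1.1
  have hQE : Q ≤ centralizer (E : Set (RingAut A)) := le_centralizer_iff.1 fun x hx => (hEZ hx).1.2
  have hc : Cm E := cm_iff.2 (hEQ.trans hQE)
  have hES : E ≤ F.S := hEQ.trans (s.isO.le.trans inf_le_left)
  have hEP : E ≤ F.PI := hES.trans F.S_le_PI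
  have hEA : E ≤ F.Aut := hES.trans F.S_le_Aut
  have hES' : E ≤ SAut A := hEA.trans F.Aut_le_SAut
  have hcard := isUnit_card s.prime hu (s.isO.pg.to_le hEQ)
  have hNA : F.S ⊓ H ≤ F.Aut := inf_le_right.trans h.le
  have hbot : ∀ K : Subgroup (RingAut A), E ≤ K → F.S ≤ normalizer (K : Set (RingAut A)) → F.S ≤ K := by
    intro K h1 h2
    by_contra h3
    exact hE0 (eq_bot_iff.2 fun x hx =>
      inf_eq_bot_of_simple h.simple (fun _ ha _ hk => conj_mem_of_norm h2 ha hk) h3 x (hES hx) (h1 hx))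
  have hN : F.S ⊓ H = F.S ⊓ normalizer (E : Set (RingAut A)) := h.inf_eq hEn fun e =>
    h.noncomm ⟨⟨fun a b => Subtype.ext (hc _ (hbot E le_rfl e a.2) _ (hbot E le_rfl e b.2))⟩⟩
  have hRinv : Inv H (fixR E) := inv_fixR hEn
  obtain ⟨R, hR, hRl⟩ := exists_fixBD (F := F) h.ss hEA hcard (one_mem _) (mul_one 1) (star_one A) one_ne_zero (by
    intro f hf _ _ h1 h2 h3
    by_contra hh
    push Not at hh
    obtain ⟨D, hD, -, hD'⟩ := exists_frame (cenOf (fixR E)) (fun x hx y hy => hy.2 x hx.1)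
      ⟨hf, fun y hy => h1 y hy (one_mul y) (mul_one y)⟩ h2 h3 hh.1 hh.2
    exact h.not_inv s hD (hD' H (h.le.trans F.Aut_le_SAut) (inv_cenOf hRinv)))
  have hRe : R.e = 1 := by rw [hR]; rfl
  have hRc : ∀ x, x ∈ R.car ↔ x ∈ fixR E := fun x => by
    rw [hR]; exact ⟨fun hx => hx.1, fun hx => ⟨hx, one_mul x, mul_one x⟩⟩
  have hR0 : R.e ≠ 0 := hRe ▸ one_ne_zero
  have hRinv' : Inv (F.S ⊓ H) R.car := fun γ hγ x hx => (hRc _).2 (hRinv γ hγ.2 x ((hRc x).1 hx))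
  have hWB : ∀ (B : Blk A), B.e = 1 → ∀ u, u ∈ WB F B ↔ u ∈ F.Iso ∧ (u : A) ∈ B.car := fun B hB u => by
    change _ ∧ _ - (1 - B.e) ∈ _ ↔ _
    rw [hB, sub_self, sub_zero]
  have hsm : ∀ B : BD F, B.e ≠ 0 → B.e * F.l * B.e - B.l ∈ F.L → Inv (F.S ⊓ H) B.car →
      ∀ P : Subgroup (RingAut A), F.S ⊓ H = F.S ⊓ P → (WB F B.toBlk).map (κ A) ≤ P → Sm (WB F B.toBlk) := by
    intro B h0 hl hi P hP hle
    refine sm_of_ch s.toCh (dich_WB B hl h0) ?_ (s.isO.le.trans (norm_WB hNA hi))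
    rw [hP]
    refine le_inf ?_ ((commutator_le_left_of_norm le_normalizer).trans hle)
    rw [FR.S_eq]
    exact commutator_mono (map_mono (WB_le _)) (map_mono (WB_le _))
  have hsR : Sm (WB F R.toBlk) := hsm R hR0 hRl hRinv' _ hN (by
    rintro _ ⟨u, hu, rfl⟩
    exact centralizer_le_normalizer _ (cj_cent ((hRc _).1 ((hWB _ hRe u).1 hu).2)))
  have hC : Group.IsSolvable (F.PI ⊓ centralizer (E : Set (RingAut A)) : Subgroup (RingAut A)) := by
    refine sol_of_commutator (fun γ hγ => ?_) (hsR.sol_map (κ A))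
    obtain ⟨u, h1, h2, rfl⟩ := comm_cent_le E hγ
    exact ⟨u, (hWB _ hRe u).2 ⟨h1, (hRc _).2 h2⟩, rfl⟩
  choose t ht ht' using fun x : E => hEP x.2
  have hker : ∀ γ ∈ F.S ⊓ H, (∀ x, γ (t x : A) = t x) → γ ∈ F.PI ⊓ centralizer (E : Set (RingAut A)) := by
    intro γ hγ h1
    refine ⟨F.S_le_PI hγ.1, mem_centralizer_iff.2 fun δ hδ => ?_⟩
    have h2 := conj_cj γ (t ⟨δ, hδ⟩)
    rw [show um γ (t ⟨δ, hδ⟩) = t ⟨δ, hδ⟩ from Units.ext (h1 _), ht'] at h2
    exact (mul_inv_eq_iff_eq_mul.1 h2).symm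
  let E₀ : Subgroup (RingAut A) := E ⊓ Fix {a | ∃ u : Aˣ, κ A u ∈ E ∧ (u : A) = a}
  have hE₀ : ∀ δ ∈ E, (∀ x, δ (t x : A) = t x) → δ ∈ E₀ := by
    rintro δ hδ h1
    refine ⟨hδ, ?_⟩
    rintro _ ⟨u, hu, rfl⟩
    rw [← ev_eq_one, ev_congr (F.PI_le_Lin (hEP hδ)) (ht' ⟨_, hu⟩).symm, ev_eq_one]
    exact h1 _
  have hE₀n : H ≤ normalizer (E₀ : Set (RingAut A)) := by
    refine norm_of_conj fun γ hγ δ hδ => ⟨conj_mem_of_norm hEn hγ hδ.1, ?_⟩
    rintro _ ⟨u, hu, rfl⟩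
    have h1 := hδ.2 _ ⟨um γ⁻¹ u, by rw [← conj_cj, inv_inv]; exact conj_mem_of_norm' hEn hγ hu, rfl⟩
    rw [ra_mul, ra_mul, ← um_val, h1, um_val, ra_apply_inv]
  rcases hEm E₀ inf_le_left hE₀n with h0 | h0
  swap
  · refine s.nsol (sol_of_block hNA R hR0 hRl hRinv' hsR.sol hC fun γ hγ h1 => hker γ hγ fun x => h1 _ ?_)
    refine (hRc _).2 fun δ hδ => ?_
    rw [← h0] at hδ
    exact hδ.2 _ ⟨t x, by rw [ht']; exact x.2, rfl⟩
  have hnd : ∀ δ ∈ E, (∀ x, δ (t x : A) = t x) → δ = 1 := fun δ hδ h1 => by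
    have h2 := hE₀ δ hδ h1
    rwa [h0, mem_bot] at h2
  by_cases hRC : fixR E ≤ Subring.center A
  · have h1 : Q ≤ E := fun γ hγ => by
      obtain ⟨u, hu, rfl⟩ := F.S_le_PI (s.isO.le hγ).1
      obtain ⟨π, m, hπ⟩ := exists_avgE E hcard
      obtain ⟨x, hx⟩ := hπ.exists_ne h.ss hEP hc ht ht' hnd u.ne_zero
      have h2 : ((u * t x : Aˣ) : A) ∈ fixR E := by
        by_contra hh
        refine hx (hπ.eigen h.ss hEP (mul_mem hu (ht x)) ?_ hh)
        rw [map_mul, ht']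
        exact mul_mem (hQE hγ) (cm_iff.1 hc x.2)
      have h3 := cj_eq_one_iff.2 (hRC h2)
      rw [map_mul, ht'] at h3
      rw [eq_inv_of_mul_eq_one_left h3]
      exact inv_mem x.2
    obtain rfl : E = Q := le_antisymm hEQ h1
    exact ab hc (fun a ha => (hEZ ha).2) hEm
  · have hN' : F.S ⊓ H = F.S ⊓ setStab (RingAut A) (fixR E : Set A) := by
      refine h.inf_eq (le_setStab hRinv) fun e => hRC fun a ha => FR.cen_of_S h.span fun γ hγ => ?_
      exact hbot (ptStab (RingAut A) (fixR E : Set A)) (fun δ hδ x hx => hx δ hδ)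
        (norm_of_conj fun _ hg _ hk => conj_mem_ptStab (e hg) hk) hγ a ha
    obtain ⟨δ, hδ, hδ1⟩ := (E.bot_or_exists_ne_one).resolve_left hE0
    obtain ⟨x, hx⟩ : ∃ x, δ (t x : A) ≠ t x := by
      by_contra hh
      push Not at hh
      exact hδ1 (hnd δ hδ hh)
    obtain ⟨c, hc1, hc2⟩ := exists_half h.ss (ev_cen (δ := δ) (u := t x) (by rw [ht']; exact hc _ hδ _ x.2))
      (ev_mem (hEA hδ) (ht x)).1 fun e => hx (ev_eq_one.1 (Units.ext e))
    have hL := F.L_eq hc1 hc2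
    have hst := star_centralizer (star_fixR hES')
    let B : BD F := ⟨Blk.ofSubring _ hst, c, fun y _ => cen_comm hc1 y, hc2, Or.inl hL,
      Or.inr (ss_centralizer h.ss hEP hc hcard ht ht' hnd (R.ss.resolve_left hR0) hRe hRc hst)⟩
    have hBl : B.e * F.l * B.e - B.l ∈ F.L := by
      rw [hL]
      change star (1 * F.l * 1 - c) = -(1 * F.l * 1 - c)
      rw [one_mul, mul_one, star_sub, F.star_l, eq_sub_of_add_eq' hc2]
      abel
    have hBinv : Inv (F.S ⊓ H) B.car := fun γ hγ => inv_centralizer hRinv γ hγ.2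
    have hsB : Sm (WB F B.toBlk) := hsm B one_ne_zero hBl hBinv _ hN' (by
      refine le_setStab ?_
      rintro _ ⟨u, hu, rfl⟩ y hy
      rwa [show κ A u • y = y from cj_eq_of_mul (((hWB _ rfl u).1 hu).2 y hy).symm])
    exact s.nsol (sol_of_block hNA B one_ne_zero hBl hBinv hsB.sol hC fun γ hγ h1 => hker γ hγ fun x =>
      h1 _ fun y hy => (comm_of_fixR (by rw [ht']; exact x.2) hy).symm)

end Cfsg.Agent.T44.Cl
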