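import Cfsg.Agent.DS.Cl.ModL
import Cfsg.Agent.DS.Cl.ModU
import Cfsg.Agent.DS.Cl.ModO

/-!
# S3544, classical groups: the models with explicit rings (helper34; the proofs are helper12's, `DS/Cl/Mod*`)
-/

set_option autoImplicit false

namespace Cfsg.Agent.T44.Cl

open Cfsg Cfsg.Agent.DS.Cl Cfsg.Agent.DS.Cl.Fwd

/-- `T` is the group `F.S` of a form structure on `A`, and the automorphisms in `Γ` are induced by `F.Aut` -/
def ModelOn (A : Type) [Ring A] [StarRing A] (T : Type) [Group T] (Γ : Set (MulAut T)) : Prop :=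
  ∃ (F : FR A) (e : F.S ≃* T), SS A ∧ F.Span ∧
    ∀ α ∈ Γ, ∃ γ ∈ F.Aut, ∀ s t : F.S, (t : RingAut A) = γ * s * γ⁻¹ → e t = α (e s)

section general

variable {A : Type} [Ring A] [StarRing A]

theorem modelOn_of (F : FR A) (hss : SS A) (hspan : F.Span) {K : Type} [Group K] (φ : K →* Aˣ)
    (hinj : Function.Injective φ) (hr : φ.range = ⁅F.Iso, F.Iso⁆) (Γ : Set (MulAut (K ⧸ Subgroup.center K)))
    (hΓ : ∀ β ∈ Γ, ∃ γ ∈ F.Aut, ∀ k : K, ∃ k' : K,
      β (QuotientGroup.mk k) = QuotientGroup.mk k' ∧ γ (φ k : A) = φ k') :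
    ModelOn A (K ⧸ Subgroup.center K) Γ := by
  have hmem : ∀ k : K, DS.Cl.cj A (φ k) ∈ F.S := fun k => ⟨φ k, by rw [← hr]; exact ⟨k, rfl⟩, rfl⟩
  let f : K →* F.S := ((DS.Cl.cj A).comp φ).codRestrict F.S hmem
  have hf : Function.Surjective f := by
    rintro ⟨_, u, hu, rfl⟩
    rw [← hr] at hu
    obtain ⟨k, rfl⟩ := hu
    exact ⟨k, rfl⟩
  have hker : Subgroup.center K = f.ker := by
    ext k
    rw [MonoidHom.mem_ker, Subgroup.mem_center_iff]
    constructor
    · intro hk
      apply Subtype.ext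
      change DS.Cl.cj A (φ k) = 1
      have h1 : ∀ x : A, (φ k : A) * x = x * φ k := by
        intro x
        have hx : x ∈ Subring.closure ((Subring.center A : Set A) ∪
            ((fun u : Aˣ => (u : A)) '' (⁅F.Iso, F.Iso⁆ : Subgroup Aˣ))) := by
          rw [hspan]; trivial
        have h2 : Subring.closure ((Subring.center A : Set A) ∪
            ((fun u : Aˣ => (u : A)) '' (⁅F.Iso, F.Iso⁆ : Subgroup Aˣ))) ≤ Subring.centralizer {(φ k : A)} := by
          rw [Subring.closure_le]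
          rintro y (hy | ⟨u, hu, rfl⟩)
          · intro z hz
            rw [Set.mem_singleton_iff.1 hz]
            exact (Subring.mem_center_iff.1 hy) _
          · intro z hz
            rw [Set.mem_singleton_iff.1 hz]
            rw [← hr] at hu
            obtain ⟨g, rfl⟩ := hu
            rw [← Units.val_mul, ← Units.val_mul, ← map_mul, ← map_mul, hk g]
        exact h2 hx _ rfl
      ext x
      rw [cj_apply, h1, mul_assoc, Units.mul_inv, mul_one]
      rfl
    · intro hk g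
      have h1 : DS.Cl.cj A (φ k) = 1 := congrArg Subtype.val hk
      have h2 : (φ k : A) * φ g * ((φ k)⁻¹ : Aˣ) = φ g := by
        rw [← cj_apply, h1]
        rfl
      apply hinj
      apply Units.ext
      rw [map_mul, map_mul, Units.val_mul, Units.val_mul]
      calc (φ g : A) * φ k = (φ k : A) * φ g * ((φ k)⁻¹ : Aˣ) * φ k := by rw [h2]
        _ = φ k * φ g := by rw [mul_assoc, Units.inv_mul, mul_one]
  let e : (K ⧸ Subgroup.center K) ≃* F.S :=
    (QuotientGroup.quotientMulEquivOfEq hker).trans (QuotientGroup.quotientKerEquivOfSurjective f hf)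
  have he : ∀ k : K, e.symm (f k) = QuotientGroup.mk k := fun k => by
    rw [MulEquiv.symm_apply_eq]
    rfl
  refine ⟨F, e.symm, hss, hspan, fun β hβ => ?_⟩
  obtain ⟨γ, hγ, h⟩ := hΓ β hβ
  refine ⟨γ, hγ, fun s t hst => ?_⟩
  obtain ⟨k, rfl⟩ := hf s
  obtain ⟨k', h1, h2⟩ := h k
  have h3 : t = f k' := by
    apply Subtype.ext
    rw [hst]
    change γ * DS.Cl.cj A (φ k) * γ⁻¹ = DS.Cl.cj A (φ k')
    ext x
    have h4 : γ (((φ k)⁻¹ : Aˣ) : A) = ((φ k')⁻¹ : Aˣ) := by
      have h5 : (φ k' : A) * γ (((φ k)⁻¹ : Aˣ) : A) = 1 := by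
        rw [← h2, ← map_mul, Units.mul_inv, map_one]
      exact (Units.eq_inv_of_mul_eq_one_left h5)
    change γ (DS.Cl.cj A (φ k) (γ.symm x)) = _
    rw [cj_apply, cj_apply, map_mul, map_mul, h2, h4, RingEquiv.apply_symm_apply]
  rw [h3, he, he, h1]

end general

section L

open Cfsg.Agent.ClassicalGeometry.AutPSL.Auto (fld itr lift)
open scoped Matrix

theorem modL (F : Type) [Field F] [Fintype F] (n : ℕ) (hn : 2 ≤ n) (hn2 : n = 2 → 4 ≤ Fintype.card F) :
    ModelOn (LR (Fin n) F) (Matrix.ProjectiveSpecialLinearGroup (Fin n) F) Set.univ := by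
  have hnt : Nontrivial (Fin n) := Fin.nontrivial_iff_two_le.2 hn
  let R : FR (LR (Fin n) F) := ⟨LR.mk 1 0, Lmax _, LR.half, Or.inr rfl⟩
  let φ : Matrix.SpecialLinearGroup (Fin n) F →* (LR (Fin n) F)ˣ := LR.gl.comp Matrix.SpecialLinearGroup.toGL
  have hφ : ∀ k, (φ k : LR (Fin n) F) = LR.mk k.1 (itr k).1 := fun k => by
    change (LR.gl (Matrix.SpecialLinearGroup.toGL k) : LR (Fin n) F) = _
    rw [LR.gl_val, ← map_inv]
    rfl
  have hinj : Function.Injective φ := fun A B H => Subtype.ext (congrArg (fun u : (LR (Fin n) F)ˣ => u.1.1) H)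
  have hr : (LR.gl (ι := Fin n) (F := F)).range = R.Iso := by
    ext u
    rw [LR.mem_gl]
    exact ⟨fun hu => mem_Iso_max rfl hu, fun hu => hu.1⟩
  have hc : φ.range = ⁅R.Iso, R.Iso⁆ := by
    have h1 : n = 2 → ∃ a : F, a ≠ 0 ∧ a ≠ 1 := fun h2 => by
      classical
      by_contra H
      push Not at H
      have h3 : (Finset.univ : Finset F) ⊆ {0, 1} := fun a _ => by
        by_cases ha : a = 0
        · simp [ha]
        · simp [H a ha]
      have h4 := (Finset.card_le_card h3).trans Finset.card_le_two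
      have h5 := hn2 h2
      rw [Finset.card_univ] at h4
      omega
    rw [← hr, comm_range, Cfsg.Agent.S0264.result n h1, MonoidHom.range_comp]
    congr 1
    ext A
    constructor
    · rintro ⟨k, rfl⟩
      exact Units.ext k.2
    · intro hA
      exact ⟨⟨A, congrArg Units.val (MonoidHom.mem_ker.1 hA)⟩, Units.ext rfl⟩
  have hspan : R.Span := by
    rw [FR.Span, eq_top_iff]
    intro x _
    obtain ⟨a, b, rfl⟩ := LR.exists_mk x
    set S := Subring.closure ((Subring.center (LR (Fin n) F) : Set (LR (Fin n) F)) ∪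
      ((fun u : (LR (Fin n) F)ˣ => (u : LR (Fin n) F)) '' (⁅R.Iso, R.Iso⁆ : Subgroup (LR (Fin n) F)ˣ))) with hS
    have h1 : (LR.mk 1 0 : LR (Fin n) F) ∈ S := Subring.subset_closure (Or.inl (Subring.mem_center_iff.2 fun g => by
      obtain ⟨c, d, rfl⟩ := LR.exists_mk g
      rw [LR.mk_mul, LR.mk_mul, mul_one, one_mul, mul_zero, zero_mul]))
    have h2 : (LR.mk 0 1 : LR (Fin n) F) ∈ S := Subring.subset_closure (Or.inl (Subring.mem_center_iff.2 fun g => by
      obtain ⟨c, d, rfl⟩ := LR.exists_mk g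
      rw [LR.mk_mul, LR.mk_mul, mul_one, one_mul, mul_zero, zero_mul]))
    have h3 : ∀ i j, i ≠ j → ∀ c : F, LR.mk (Matrix.single i j c) (Matrix.single j i (-c)) ∈ S := fun i j hij c => by
      have h4 : (φ (Matrix.SpecialLinearGroup.transvection hij c) : LR (Fin n) F) ∈ S :=
        Subring.subset_closure (Or.inr ⟨_, by rw [← hc]; exact ⟨_, rfl⟩, rfl⟩)
      have h5 := S.sub_mem h4 S.one_mem
      rw [hφ, Cfsg.Agent.ClassicalGeometry.AutPSL.Auto.itr_transvection, LR.one_eq, LR.mk_sub] at h5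
      change LR.mk (1 + Matrix.single i j c - 1) (1 + Matrix.single j i (-c) - 1) ∈ S at h5
      rwa [add_sub_cancel_left, add_sub_cancel_left] at h5
    have h4 : LR.mk a 0 ∈ S := by
      refine mat_ind (fun a => LR.mk a 0 ∈ S) S.zero_mem (fun a b ha hb => ?_) (fun a b ha hb => ?_)
        (fun i j hij c => ?_) a
      · have h5 := S.add_mem ha hb
        rwa [LR.mk_add, add_zero] at h5
      · have h5 := S.mul_mem ha hb
        rwa [LR.mk_mul, mul_zero] at h5
      · have h5 := S.mul_mem h1 (h3 i j hij c)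
        rwa [LR.mk_mul, one_mul, zero_mul] at h5
    have h5 : LR.mk 0 b ∈ S := by
      refine mat_ind (fun a => LR.mk 0 a ∈ S) S.zero_mem (fun a b ha hb => ?_) (fun a b ha hb => ?_)
        (fun i j hij c => ?_) b
      · have h5 := S.add_mem ha hb
        rwa [LR.mk_add, add_zero] at h5
      · have h5 := S.mul_mem ha hb
        rwa [LR.mk_mul, mul_zero] at h5
      · have h5 := S.mul_mem h2 (h3 j i hij.symm (-c))
        rwa [LR.mk_mul, one_mul, zero_mul, neg_neg] at h5
    have h6 := S.add_mem h4 h5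
    rwa [LR.mk_add, add_zero, zero_add] at h6
  let P : MulAut (Matrix.SpecialLinearGroup (Fin n) F) → Prop := fun e =>
    ∃ γ ∈ SAut (LR (Fin n) F), ∀ k, γ (φ k : LR (Fin n) F) = φ (e k)
  have hmul : ∀ e e', P e → P e' → P (e * e') := by
    rintro e e' ⟨γ, hγ, h⟩ ⟨γ', hγ', h'⟩
    refine ⟨γ * γ', mul_mem hγ hγ', fun k => ?_⟩
    change γ (γ' _) = _
    rw [h', h]
    rfl
  have hcj : ∀ A, P (Cfsg.Agent.ClassicalGeometry.AutPSL.Auto.cj A) := fun A => by
    refine ⟨DS.Cl.cj _ (LR.gl A), cj_mem_SAut ((LR.mem_gl _).1 ⟨A, rfl⟩), fun k => ?_⟩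
    change ((LR.gl A * LR.gl (Matrix.SpecialLinearGroup.toGL k) * (LR.gl A)⁻¹ : (LR (Fin n) F)ˣ) : LR (Fin n) F) =
      (LR.gl (Matrix.SpecialLinearGroup.toGL (Cfsg.Agent.ClassicalGeometry.AutPSL.Auto.cj A k)) : (LR (Fin n) F)ˣ)
    rw [← map_inv, ← map_mul, ← map_mul]
    exact congrArg (fun B : GL (Fin n) F => (LR.gl B : LR (Fin n) F)) (Units.ext rfl)
  have hfld : ∀ σ, P (fld σ) := fun σ => by
    refine ⟨LR.fldAut σ, fun a => rfl, fun k => ?_⟩
    rw [hφ, hφ]
    have h1 : (itr (fld σ k)).1 = σ.mapMatrix (itr k).1 := by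
      rw [Cfsg.Agent.ClassicalGeometry.AutPSL.Auto.coe_itr, ← map_inv]
      rfl
    rw [h1]
    rfl
  have hitr : P itr := by
    refine ⟨LR.swapAut, fun a => rfl, fun k => ?_⟩
    have h1 : itr (itr k) = k := by
      rw [← MulAut.mul_apply, Cfsg.Agent.ClassicalGeometry.AutPSL.Auto.itr_mul_itr, MulAut.one_apply]
    rw [hφ, hφ, h1]
    rfl
  refine modelOn_of R LR.ss hspan φ hinj hc _ ?_
  intro β _
  obtain ⟨e, he, rfl⟩ : ∃ e, P e ∧ β = lift e := by
    obtain ⟨p, hp⟩ := CharP.exists F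
    have hprime : Fact p.Prime := ⟨CharP.char_is_prime F p⟩
    rcases Nat.lt_or_ge n 3 with h | h
    · obtain rfl : n = 2 := by omega
      obtain ⟨A, σ, hA⟩ := Cfsg.Agent.ClassicalGeometry.AutPSL.Main.surj_two p β
      exact ⟨_, hmul _ _ (hcj A) (hfld σ), hA⟩
    · rcases Cfsg.Agent.ClassicalGeometry.AutPSL.Main.surj_three p h β with ⟨A, σ, hA⟩ | ⟨A, σ, hA⟩
      · exact ⟨_, hmul _ _ (hcj A) (hfld σ), hA⟩
      · exact ⟨_, hmul _ _ (hmul _ _ (hcj A) (hfld σ)) hitr, hA⟩
  obtain ⟨γ, hγ, h⟩ := he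
  exact ⟨γ, mem_Aut_max rfl hγ, fun k => ⟨e k, rfl, h k⟩⟩

end L

section U

open Cfsg.Agent.LieClassical.HermBasic Cfsg.Agent.LieClassical.HermSiegel
open Cfsg.Agent.ClassicalGeometry.PSUAutCount (gm semiConj toAut act_semiConj herm_semi gm_inv_mulVec gm_mulVec_inv
  toAut_pr)
open scoped Matrix commutatorElement

theorem modU (F : Type) [Field F] [Fintype F] (n q : ℕ) (hF : Fintype.card F = q ^ 2) (hn : 3 ≤ n)
    (h32 : ¬ (n = 3 ∧ q = 2)) : ModelOn (unH n hF).EB (PSU n F q) Set.univ := by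
  have hnt : Nontrivial (Fin n → F) := by
    have : Nonempty (Fin n) := ⟨⟨0, by omega⟩⟩
    infer_instance
  let h := unH n hF
  obtain ⟨c, hc1⟩ := exists_trace_eq hF (one_pow q)
  have hll : h.eb (c • 1) + star (h.eb (c • 1)) = 1 := h.ap_ext fun v => h.ext_right fun u => by
    rw [h.ap_add, h.add_right, h.b_star, h.ap_one, h.ap_eb, LinearMap.smul_apply, LinearMap.smul_apply,
      h.smul_right, h.smul_left]
    change c ^ q * h.b u v + c * h.b u v = h.b u v
    rw [← add_mul, add_comm, hc1, one_mul]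
  let R : FR h.EB := ⟨h.eb (c • 1), Lmax h.EB, hll, Or.inr rfl⟩
  let φ₀ : SU n F q →* Matrix (Fin n) (Fin n) F := ⟨⟨mat, mat_one⟩, mat_mul⟩
  let φ : SU n F q →* h.EBˣ := ((matHom h).comp φ₀).toHomUnits
  have hφ : ∀ A v, h.ap (φ A) v = act A v := fun A v => rfl
  have hinj : Function.Injective φ := fun A B H => mat_injective (matHom_inj h (congrArg Units.val H))
  have hle : φ.range ≤ R.Iso := by
    rintro _ ⟨A, rfl⟩
    exact mem_Iso_max rfl ((h.unit_iff _).2 fun x y => herm_act A x y)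
  have hc : φ.range = ⁅R.Iso, R.Iso⁆ := by
    apply le_antisymm
    · have e : φ.range = ⁅φ.range, φ.range⁆ := by
        rw [comm_range, Cfsg.Agent.LieClassical.HermPerfect.commutator_SU_eq_top hF hn h32,
          ← MonoidHom.range_eq_map]
      rw [e]
      exact Subgroup.commutator_mono hle hle
    · rw [Subgroup.commutator_le]
      intro a ha b hb
      have hu : ⁅a, b⁆ ∈ R.Iso := by
        rw [commutatorElement_def]
        exact mul_mem (mul_mem (mul_mem ha hb) (inv_mem ha)) (inv_mem hb)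
      have hd : detU h ⁅a, b⁆ = 1 := by
        rw [map_commutatorElement, commutatorElement_eq_one_iff_mul_comm, mul_comm]
      have h1 := (h.unit_iff _).1 hu.1
      refine ⟨mkSU (LinearMap.toMatrix' (h.ap (⁅a, b⁆ : h.EBˣ))) ?_ fun x y => ?_, Units.ext (matHom_surj h _)⟩
      · rw [LinearMap.det_toMatrix', ← detU_val, hd, Units.val_one]
      · rw [LinearMap.toMatrix'_mulVec, LinearMap.toMatrix'_mulVec]
        exact h1 x y
  have hspan : R.Span := by
    obtain ⟨e, f, H⟩ := Cfsg.Agent.ClassicalGeometry.PSUAutBasic.exists_frame (F := F) (q := q) (n := n) hF (by omega)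
    have he : e ≠ 0 := by
      rintro rfl
      exact zero_ne_one ((herm_zero_left f).symm.trans H.ef)
    obtain ⟨μ, hμ0, hμ⟩ := exists_trace_zero_ne hF
    refine h.span_top _ (fun c => Subring.subset_closure (Or.inl (h.smul_mem_center c)))
      {x | x ≠ 0 ∧ hermForm n F q x x = 0} ⟨e, he, H.ee⟩
      (fun x hx => hx.1) (fun x hx => ?_) (fun x hx v hv => ?_)
    · have hs : IsSiegel q x 0 μ := ⟨hx.2, herm_zero_left x, by rw [herm_zero_left, add_zero, hμ]⟩
      have e1 : h.eb (h.ro x x) = h.eb (μ⁻¹ • 1) * ((φ (siegel hF x 0 μ hs) : h.EB) - 1) := h.ap_ext fun v => by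
        rw [h.ap_mul, h.ap_sub, hφ, h.ap_one, h.ap_eb, h.ap_eb, h.ro_apply, act_siegel, smul_zero, add_zero,
          herm_zero_right hF, sub_zero, add_sub_cancel_left, LinearMap.smul_apply, Module.End.one_apply, smul_smul,
          ← mul_assoc, inv_mul_cancel₀ hμ0, one_mul]
        rfl
      rw [e1]
      refine Subring.mul_mem _ (Subring.subset_closure (Or.inl (h.smul_mem_center _))) (Subring.sub_mem _
        (Subring.subset_closure (Or.inr ⟨φ (siegel hF x 0 μ hs), ?_, rfl⟩)) (Subring.one_mem _))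
      rw [← hc]
      exact ⟨_, rfl⟩
    · have hv' : hermForm n F q v x ≠ 0 := hv
      have hxv : hermForm n F q x v ≠ 0 := h.ne_swap hv
      obtain ⟨t, ht⟩ := exists_trace_eq hF (c := -hermForm n F q v v) (by rw [neg_pow_q hF, herm_self_pow hF])
      have h1 : hermForm n F q (v + (t / hermForm n F q x v) • x) x = hermForm n F q v x := by
        rw [herm_add_left, herm_smul_left, hx.2, mul_zero, add_zero]
      refine ⟨t / hermForm n F q x v, ⟨fun h0 => hv' ?_, ?_⟩, fun h0 => hv' (h1.symm.trans h0)⟩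
      · rw [← h1, h0, herm_zero_left]
      · rw [herm_add_right hF, herm_smul_right, h1, herm_add_left, herm_smul_left, div_mul_cancel₀ _ hxv,
          herm_swap hF x v, ← mul_pow, div_mul_cancel₀ _ hxv, add_assoc, ht, add_neg_cancel]
  refine modelOn_of R h.ss hspan φ hinj hc _ ?_
  intro β _
  obtain ⟨A, ρ, rfl⟩ := Cfsg.Agent.ClassicalGeometry.PSUAutMain.exists_toAut hF hn h32 β
  let g : Equiv.Perm (Fin n → F) :=
    { toFun := fun x => gm A *ᵥ fun i => ρ (x i)
      invFun := fun y j => ρ.symm ((gm A⁻¹ *ᵥ y) j)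
      left_inv := fun x => by
        funext j
        change ρ.symm ((gm A⁻¹ *ᵥ (gm A *ᵥ fun i => ρ (x i))) j) = x j
        rw [gm_inv_mulVec, ρ.symm_apply_apply]
      right_inv := fun y => by
        simp only [RingEquiv.apply_symm_apply]
        exact gm_mulVec_inv A y }
  have ha : ∀ u v, g (u + v) = g u + g v := fun u v => by
    change gm A *ᵥ _ = gm A *ᵥ _ + gm A *ᵥ _
    rw [← Matrix.mulVec_add]
    congr 1
    funext i
    exact map_add ρ _ _
  have hs : ∀ (c : F) v, g (c • v) = ρ c • g v := fun c v => by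
    change gm A *ᵥ _ = ρ c • gm A *ᵥ _
    rw [← Matrix.mulVec_smul]
    congr 1
    funext i
    exact map_mul ρ _ _
  refine ⟨h.semiAut g ρ ha hs, mem_Aut_max rfl (h.semiAut_mem g ρ ha hs (c := 1) fun u v => ?_),
    fun k => ⟨semiConj A ρ k, toAut_pr A ρ k, h.ap_ext fun v => ?_⟩⟩
  · rw [one_mul]
    exact herm_semi A ρ u v
  · obtain ⟨v, rfl⟩ := g.surjective v
    rw [h.ap_semiAut, hφ, hφ]
    exact (act_semiConj A ρ k v).symm

end U

section Sp

open Cfsg.Agent.ClassicalGeometry.SympBasic Cfsg.Agent.ClassicalGeometry.SympAutSemi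
open scoped Matrix

theorem modSp (F : Type) [Field F] [Fintype F] (m : ℕ) (hm : 2 ≤ m) (hm2 : m = 2 → 3 ≤ Fintype.card F) :
    ModelOn (spH m F).EB (PSp m F) (Cfsg.Agent.ClassicalGeometry.SympAutSemi.Psi m F).range := by
  have hnt : Nontrivial (Fin m ⊕ Fin m → F) := by
    have : Nonempty (Fin m ⊕ Fin m) := ⟨Sum.inl ⟨0, by omega⟩⟩
    infer_instance
  let h := spH m F
  obtain ⟨β, hβ⟩ := exists_half (sympBilin m F) (fun v => sympForm_self v)
  obtain ⟨l, hl⟩ := h.exists_op (fun _ => rfl) β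
  have hll : l + star l = 1 := h.ap_ext fun v => h.ext_right fun u => by
    rw [h.ap_add, h.add_right, h.b_star, hl, h.swap v (h.ap l u), hl, h.ap_one]
    change β u v + -1 * β v u = sympBilin m F u v
    rw [← hβ]
    ring
  let R : FR h.EB := ⟨l, Lmax h.EB, hll, Or.inr rfl⟩
  let φ : Matrix.symplecticGroup (Fin m) F →* h.EBˣ :=
    ((matHom h).comp (Matrix.symplecticGroup (Fin m) F).subtype).toHomUnits
  have hφ : ∀ A v, h.ap (φ A) v = (A : Matrix _ _ F) *ᵥ v := fun A v => rfl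
  have hinj : Function.Injective φ := fun A B H => Subtype.ext (matHom_inj h (congrArg Units.val H))
  have hr : φ.range = R.Iso := by
    ext u
    constructor
    · rintro ⟨A, rfl⟩
      exact mem_Iso_max rfl ((h.unit_iff _).2 fun x y => sympForm_mulVec A.2 x y)
    · intro hu
      have h1 := (h.unit_iff u).1 hu.1
      refine ⟨⟨LinearMap.toMatrix' (h.ap u), mem_symplecticGroup_iff.2 fun x y => ?_⟩, Units.ext (matHom_surj h u)⟩
      rw [LinearMap.toMatrix'_mulVec, LinearMap.toMatrix'_mulVec]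
      exact h1 x y
  have hperf : commutator (Matrix.symplecticGroup (Fin m) F) = ⊤ := by
    refine Cfsg.Agent.LieClassical.SympPerfect.commutator_eq_top ?_
    rcases (by omega : m = 2 ∨ 3 ≤ m) with h | h
    · exact Or.inr (Or.inl ⟨h, hm2 h⟩)
    · exact Or.inl h
  have hc : φ.range = ⁅R.Iso, R.Iso⁆ := by
    rw [← hr, comm_range, hperf, ← MonoidHom.range_eq_map]
  have hspan : R.Span := by
    refine h.span_top _ (fun c => Subring.subset_closure (Or.inl (h.smul_mem_center c))) {x | x ≠ 0}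
      (exists_ne 0) (fun x hx => hx) (fun x _ => ?_) (fun x _ v hv => ⟨0, ?_, by rwa [zero_smul, add_zero]⟩)
    · have e : h.eb (h.ro x x) = (φ (transv x 1) : h.EB) - 1 := h.ap_ext fun v => by
        rw [h.ap_sub, hφ, h.ap_one, h.ap_eb, h.ro_apply]
        change _ = sympTransvection m x 1 *ᵥ v - v
        rw [sympTransvection_mulVec, one_mul, add_sub_cancel_left]
        rfl
      rw [e]
      refine Subring.sub_mem _ (Subring.subset_closure (Or.inr ⟨φ (transv x 1), ?_, rfl⟩)) (Subring.one_mem _)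
      rw [← hc]
      exact ⟨_, rfl⟩
    · rw [zero_smul, add_zero]
      rintro rfl
      exact hv (h.zero_left x)
  refine modelOn_of R h.ss hspan φ hinj hc _ ?_
  rintro _ ⟨g, rfl⟩
  obtain ⟨σ, c, -, hg⟩ := g.2
  refine ⟨h.semiAut g.1 σ hg.1 hg.2.1, mem_Aut_max rfl (h.semiAut_mem g.1 σ hg.1 hg.2.1 hg.2.2),
    fun A => ⟨Cfsg.Agent.ClassicalGeometry.SympAutSemi.conjHom m F g A, Psi_mk g A, h.ap_ext fun v => ?_⟩⟩
  obtain ⟨v, rfl⟩ := g.1.surjective v
  rw [h.ap_semiAut, hφ, hφ, ← rho_apply, ← rho_apply, rho_conjHom, Equiv.Perm.mul_apply, Equiv.Perm.mul_apply,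
    perm_inv_apply_self]

end Sp

section O

open QuadraticMap Cfsg.Agent.LieClassical.OrthCore Cfsg.Agent.LieClassical.OrthTrans
  Cfsg.Agent.ClassicalGeometry.OrthSemi

theorem modO (F V : Type) [Field F] [Finite F] [AddCommGroup V] [Module F V] [Finite V] (Q : QuadraticForm F V)
    (hG : Good Q) : ModelOn (orH Q hG.nondeg).EB (↥(E Q) ⧸ Subgroup.center ↥(E Q)) (Psi Q).range := by
  have : Module.Finite F V := Module.Finite.of_finite
  obtain ⟨x₀, hx₀, hQx₀⟩ := hG.sing
  have hnt : Nontrivial V := ⟨x₀, 0, hx₀⟩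
  let h := orH Q hG.nondeg
  obtain ⟨β, hβ⟩ := LinearMap.BilinMap.toQuadraticMap_surjective Q
  obtain ⟨l, hl⟩ := h.exists_op (fun _ => rfl) β
  have hlQ : ∀ v, polar Q v (h.ap l v) = Q v := fun v => by
    rw [← hβ]
    rw [LinearMap.BilinMap.toQuadraticMap_apply, hβ]
    exact hl v v
  have hll : l + star l = 1 := h.ap_ext fun v => h.ext_right fun u => by
    rw [h.ap_add, h.add_right, h.b_star, hl, h.swap v (h.ap l u), hl, h.ap_one]
    change β u v + 1 * β v u = polar Q u v
    rw [one_mul, ← hβ, LinearMap.BilinMap.polar_toQuadraticMap]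
  let R : FR h.EB := ⟨l, Lmin h.EB, hll, Or.inl rfl⟩
  let ψ₀ : (V ≃ₗ[F] V) →* h.EB :=
    { toFun := fun g => h.eb g
      map_one' := rfl
      map_mul' := fun _ _ => rfl }
  let ψ : (V ≃ₗ[F] V) →* h.EBˣ := ψ₀.toHomUnits
  have hψ : ∀ g v, h.ap (ψ g) v = g v := fun g v => rfl
  have hinj : Function.Injective ψ := fun g g' H => LinearEquiv.ext fun v => by rw [← hψ, ← hψ, H]
  have hr : (O Q).map ψ = R.Iso := by
    ext u
    constructor
    · rintro ⟨g, hg, rfl⟩
      have hg' : ∀ v, Q (g v) = Q v := hg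
      have h1 : ∀ x y, h.b (h.ap (ψ g) x) (h.ap (ψ g) y) = h.b x y := fun x y => by
        change polar Q (g x) (g y) = polar Q x y
        simp only [polar, ← map_add, hg']
      have h2 := (h.unit_iff _).2 h1
      refine ⟨h2, (mem_Lmin_iff Q hG.nondeg _).2 fun v => ?_⟩
      change h.b v (h.ap (ψ g * l * star (ψ g : h.EB) - l) v) = 0
      rw [h.ap_sub, h.sub_right, h.ap_mul, h.ap_mul, ← h.star_b]
      change polar Q _ _ - polar Q _ _ = 0
      rw [hlQ, hlQ, ← hg', ← hψ, ← h.ap_mul, h2, h.ap_one, sub_self]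
    · intro hu
      have h1 := (mem_Lmin_iff Q hG.nondeg _).1 hu.2
      let g : V ≃ₗ[F] V := LinearEquiv.ofLinearMap (h.ap u) (h.ap (u⁻¹ : h.EBˣ))
        (LinearMap.ext fun v => by rw [LinearMap.comp_apply, ← h.ap_mul, Units.mul_inv]; rfl)
        (LinearMap.ext fun v => by rw [LinearMap.comp_apply, ← h.ap_mul, Units.inv_mul]; rfl)
      refine ⟨g, fun v => ?_, Units.ext (h.ap_ext fun v => rfl)⟩
      have h2 : h.b (h.ap u v) (h.ap (u * l * star (u : h.EB) - l) (h.ap u v)) = 0 := h1 (h.ap u v)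
      have h3 : star (u : h.EB) * u = 1 := by
        have h4 : star (u : h.EB) = (u⁻¹ : h.EBˣ) := Units.eq_inv_of_mul_eq_one_left hu.1
        rw [h4, Units.inv_mul]
      rw [h.ap_sub, h.sub_right, h.ap_mul, h.ap_mul, ← h.star_b, ← h.ap_mul (star (u : h.EB)), h3, h.ap_one] at h2
      change polar Q _ _ - polar Q _ _ = 0 at h2
      rw [hlQ, hlQ, sub_eq_zero] at h2
      exact h2.symm
  let φ : E Q →* h.EBˣ := ψ.comp (E Q).subtype
  have hc : φ.range = ⁅R.Iso, R.Iso⁆ := by
    rw [← hr, ← Subgroup.map_commutator, hG.commutator_eq_E, MonoidHom.range_comp, Subgroup.range_subtype]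
  have hspan : R.Span := by
    refine h.span_top _ (fun c => Subring.subset_closure (Or.inl (h.smul_mem_center c))) {x | x ≠ 0 ∧ Q x = 0}
      ⟨x₀, hx₀, hQx₀⟩ (fun x hx => hx.1) (fun x hx => ?_) (fun x hx v hv => ?_)
    · obtain ⟨y, hy⟩ := exists_hyp hG.nondeg hx.2 hx.1
      obtain ⟨z, w, hzw, h1, h2, -, -⟩ := hG.exists_hyp2 hy
      have hmem : ∀ (s : V) (hs : polar Q x s = 0), (ψ (siegel Q x s hx.2 hs) : h.EB) - 1 ∈
          Subring.closure ((Subring.center h.EB : Set h.EB) ∪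
            ((fun u : h.EBˣ => (u : h.EB)) '' (⁅R.Iso, R.Iso⁆ : Subgroup h.EBˣ))) := fun s hs => by
        refine Subring.sub_mem _ (Subring.subset_closure (Or.inr ⟨ψ (siegel Q x s hx.2 hs), ?_, rfl⟩))
          (Subring.one_mem _)
        rw [← hc]
        exact ⟨⟨_, siegel_mem_E hx.2 hs⟩, rfl⟩
      have hxx : polar Q x x = 0 := by rw [polar_self, hx.2, smul_zero]
      have hN : ∀ (s : V) (hs : polar Q x s = 0), Q s = 0 → ∀ v,
          h.ap ((ψ (siegel Q x s hx.2 hs) : h.EB) - 1) v = polar Q x v • s - polar Q s v • x := fun s hs hQs v => by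
        rw [h.ap_sub, hψ, h.ap_one, siegel_apply, hQs, zero_mul, zero_smul]
        abel
      have e : h.eb (h.ro x x) = -(((ψ (siegel Q x z hx.2 h1) : h.EB) - 1) * ((ψ (siegel Q x w hx.2 h2) : h.EB) - 1)) := by
        rw [eq_neg_iff_add_eq_zero]
        apply h.ap_ext
        intro v
        rw [h.ap_add, h.ap_mul, hN z h1 hzw.left, hN w h2 hzw.right, h.ap_eb, h.ro_apply, polar_sub_right,
          polar_sub_right, polar_smul_right, polar_smul_right, polar_smul_right, polar_smul_right, h2, hxx,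
          hzw.pair, polar_comm Q z x, h1]
        change polar Q v x • x + _ = (0 : V)
        rw [polar_comm Q v x]
        simp
      rw [e]
      exact Subring.neg_mem _ (Subring.mul_mem _ (hmem z h1) (hmem w h2))
    · have hv' : polar Q v x ≠ 0 := hv
      have hxx : polar Q x x = 0 := by rw [polar_self, hx.2, smul_zero]
      have h1 : polar Q (v + (-(Q v) / polar Q v x) • x) x = polar Q v x := by
        rw [polar_add_left, polar_smul_left, hxx, smul_zero, add_zero]
      refine ⟨-(Q v) / polar Q v x, ⟨fun h0 => hv' ?_, ?_⟩, fun h0 => hv' (h1.symm.trans h0)⟩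
      · rw [← h1, h0, polar_zero_left]
      · rw [QuadraticMap.map_add (⇑Q), QuadraticMap.map_smul, hx.2, smul_zero, add_zero, polar_smul_right,
          smul_eq_mul]
        field_simp
        ring
  refine modelOn_of R h.ss hspan φ (hinj.comp Subtype.val_injective) hc _ ?_
  rintro _ ⟨g, rfl⟩
  obtain ⟨σ, c, hg⟩ := g.2
  refine ⟨h.semiAut g.1 σ hg.add hg.smul, ⟨h.semiAut_mem g.1 σ hg.add hg.smul hg.polar,
    (mem_Lmin_iff Q hG.nondeg _).2 fun v => ?_⟩, fun k => ⟨conjE Q g k, Psi_mk g k, h.ap_ext fun v => ?_⟩⟩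
  · obtain ⟨v, rfl⟩ := g.1.surjective v
    change h.b (g.1 v) (h.ap (h.semiAut g.1 σ hg.add hg.smul l - l) (g.1 v)) = 0
    rw [h.ap_sub, h.sub_right, h.ap_semiAut]
    change polar Q _ _ - polar Q _ _ = 0
    rw [hg.polar, hlQ, hlQ, hg.form, sub_self]
  · obtain ⟨v, rfl⟩ := g.1.surjective v
    rw [h.ap_semiAut]
    exact (conjLin_apply' g k.1 v).symm

end O

end Cfsg.Agent.T44.Cl
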