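import Cfsg.Agent.T44.Cl.Tr
import Cfsg.Agent.T44.Cl.Main
import Cfsg.Agent.T44.Cl.Mod

/-!
# S3544, classical groups: from form rings to almost simple groups (helper34, after helper12's `DS/Cl/Row`)
-/

set_option autoImplicit false

namespace Cfsg.Agent.T44.Cl

open Cfsg Cfsg.Agent.T44 Cfsg.Agent.DS Cfsg.Agent.DS.Cl Subgroup

variable {A : Type} [Ring A] [StarRing A]

theorem ModelOn.congr {T T' : Type} [Group T] [Group T'] (e : T' ≃* T) {Γ : Set (MulAut T)} (h : ModelOn A T Γ)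
    {Γ' : Set (MulAut T')} (hΓ : ∀ α ∈ Γ', MulAut.congr e α ∈ Γ) : ModelOn A T' Γ' := by
  obtain ⟨F, f, hss, hspan, h⟩ := h
  refine ⟨F, f.trans e.symm, hss, hspan, fun α hα => ?_⟩
  obtain ⟨γ, hγ, h1⟩ := h _ (hΓ α hα)
  refine ⟨γ, hγ, fun s t hst => ?_⟩
  rw [MulEquiv.trans_apply, MulEquiv.trans_apply, h1 s t hst]
  exact e.symm_apply_apply _

section tr

variable {G Γ : Type*} [Group G] [Group Γ] {T : Subgroup G} {S : Subgroup Γ}

/-- the embedding of a model -/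
def psi (e : S ≃* T) : S →* G := T.subtype.comp e.toMonoidHom

theorem psi_inj (e : S ≃* T) : Function.Injective (psi e) := T.subtype_injective.comp e.injective

/-- transport of subgroups -/
def tr (e : S ≃* T) (X : Subgroup G) : Subgroup Γ := (X.comap (psi e)).map S.subtype

theorem mem_tr {e : S ≃* T} {X : Subgroup G} {s : S} : (s : Γ) ∈ tr e X ↔ psi e s ∈ X :=
  mem_map_iff_mem S.subtype_injective

theorem tr_le (e : S ≃* T) (X : Subgroup G) : tr e X ≤ S := map_subtype_le _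

theorem map_comap_psi (e : S ≃* T) {X : Subgroup G} (hX : X ≤ T) : (X.comap (psi e)).map (psi e) = X := by
  refine map_comap_eq_self fun x hx => ?_
  obtain ⟨s, hs⟩ := e.surjective ⟨x, hX hx⟩
  exact ⟨s, congrArg Subtype.val hs⟩

theorem tr_mono (e : S ≃* T) {X Y : Subgroup G} (h : X ≤ Y) : tr e X ≤ tr e Y := map_mono (comap_mono h)

theorem le_of_tr_le {e : S ≃* T} {X Y : Subgroup G} (hX : X ≤ T) (h : tr e X ≤ tr e Y) : X ≤ Y := fun x hx => by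
  obtain ⟨s, hs⟩ := e.surjective ⟨x, hX hx⟩
  have h1 : psi e s = x := congrArg Subtype.val hs
  rw [← h1] at hx ⊢
  exact mem_tr.1 (h (mem_tr.2 hx))

theorem Sit.tr (e : S ≃* T) {r : ℕ} {N Q La Lb : Subgroup G} (h : Sit r N Q La Lb) (hN : N ≤ T) :
    Sit r (tr e N) (tr e Q) (tr e La) (tr e Lb) := by
  refine (sit_map_iff S.subtype_injective).2 ((sit_map_iff (psi_inj e)).1 ?_)
  rwa [map_comap_psi e hN, map_comap_psi e (h.isO.le.trans hN), map_comap_psi e (h.La_le.trans hN),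
    map_comap_psi e (h.Lb_le.trans hN)]

end tr

variable {G : Type} [Group G] [Finite G] {T H Q : Subgroup G} {r : ℕ} {Ya Yb : Set G} {da db : ℕ}

theorem row_model [Finite A] (h : AS T H Q r Ya Yb da db) (hu : IsUnit (r : A))
    (hmod : ModelOn A T {α | ∃ g : G, ∀ s : T, ((α s : T) : G) = g * s * g⁻¹}) : False := by
  obtain ⟨F, e, hss, hspan, hΓ⟩ := hmod
  have hN := h.normal
  have hle : F.Aut ≤ normalizer (F.S : Set (RingAut A)) := norm_of_conj fun _ hγ _ hs => FR.conj_mem_S hγ hs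
  let θ : F.Aut →* MulAut T := (MulAut.congr e).toMonoidHom.comp (F.S.normalizerMonoidHom.comp (inclusion hle))
  have hθ : ∀ (γ : F.Aut) (s t : F.S), (t : RingAut A) = γ * s * (γ : RingAut A)⁻¹ → θ γ (e s) = e t := by
    intro γ s t h
    change e (F.S.normalizerMonoidHom (inclusion hle γ) (e.symm (e s))) = e t
    rw [e.symm_apply_apply]
    exact congrArg e (Subtype.ext h.symm)
  let ι : G →* MulAut T := MulAut.conjNormal
  have hι : Function.Injective ι := by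
    rw [injective_iff_map_eq_one]
    intro g hg
    rw [← mem_bot, ← h.centT, mem_centralizer_iff]
    intro s hsS
    have h1 : ((ι g ⟨s, hsS⟩ : T) : G) = s := by rw [hg]; rfl
    have h2 : g * s * g⁻¹ = s := h1
    rw [← mul_inv_eq_iff_eq_mul.1 h2]
  have hsurj : ∀ g : G, ∃ γ : F.Aut, θ γ = ι g := fun g => by
    obtain ⟨γ, hγ, h⟩ := hΓ (ι g) ⟨g, fun s => rfl⟩
    refine ⟨⟨γ, hγ⟩, MulEquiv.ext fun x => ?_⟩
    obtain ⟨s, rfl⟩ := e.surjective x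
    rw [hθ ⟨γ, hγ⟩ s ⟨_, FR.conj_mem_S hγ s.2⟩ rfl]
    exact h s _ rfl
  have hS : ∀ s : F.S, θ ⟨s, F.S_le_Aut s.2⟩ = ι (psi e s) := fun s => by
    refine MulEquiv.ext fun x => ?_
    obtain ⟨t, rfl⟩ := e.surjective x
    rw [hθ ⟨s, F.S_le_Aut s.2⟩ t (s * t * s⁻¹) rfl, map_mul, map_mul, map_inv]
    rfl
  let H' : Subgroup (RingAut A) := ((H.map ι).comap θ).map F.Aut.subtype
  have hH' : ∀ s : F.S, (s : RingAut A) ∈ H' ↔ psi e s ∈ H := fun s => by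
    constructor
    · rintro ⟨γ, ⟨y, hy, hyγ⟩, hγ⟩
      have h1 : γ = ⟨s, F.S_le_Aut s.2⟩ := Subtype.ext hγ
      rw [h1, hS] at hyγ
      rwa [hι hyγ] at hy
    · exact fun hs => ⟨⟨s, F.S_le_Aut s.2⟩, ⟨_, hs, (hS s).symm⟩, rfl⟩
  have hTH : ∀ K : Subgroup G, (∀ s : F.S, psi e s ∈ K) → T ≤ K := fun K hK x hx => by
    obtain ⟨s, hs⟩ := e.surjective ⟨x, hx⟩
    rw [show x = psi e s from (congrArg Subtype.val hs).symm]
    exact hK s
  have hsimple := h.simple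
  have hcx : Cx F H' := by
    refine ⟨hss, hspan, e.isSimpleGroup, fun hc => h.noncomm ⟨⟨fun a b => by
      obtain ⟨a, rfl⟩ := e.surjective a
      obtain ⟨b, rfl⟩ := e.surjective b
      rw [← map_mul, ← map_mul, hc.1.1 a b]⟩⟩, map_subtype_le _,
      fun hle => h.not_T_le (hTH H fun s => (hH' s).1 (hle s.2)), fun P h1 h2 h3 => ?_⟩
    let K : Subgroup G := ((P.subgroupOf F.Aut).map θ).comap ι
    have hHK : H ≤ K := fun x hx => by
      obtain ⟨γ, hγ⟩ := hsurj x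
      exact ⟨γ, h1 ⟨γ, ⟨x, hx, hγ.symm⟩, rfl⟩, hγ⟩
    have hK : K = H := by
      by_contra hne
      have h4 : K = ⊤ := h.coatom.2 K (lt_of_le_of_ne hHK (Ne.symm hne))
      refine h3 fun s hs' => ?_
      obtain ⟨γ, hγ, h5⟩ : psi e ⟨s, hs'⟩ ∈ K := h4 ▸ mem_top _
      rw [← hS] at h5
      have h6 : ((γ⁻¹ * ⟨s, F.S_le_Aut hs'⟩ : F.Aut) : RingAut A) ∈ P :=
        h1 ⟨γ⁻¹ * ⟨s, F.S_le_Aut hs'⟩, ⟨1, one_mem _, by rw [map_one, map_mul, map_inv, h5, inv_mul_cancel]⟩, rfl⟩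
      have h7 := P.mul_mem (mem_subgroupOf.1 hγ) h6
      simpa using h7
    rintro s ⟨hs, hsP⟩
    refine (hH' ⟨s, hs⟩).2 ?_
    rw [← hK]
    exact ⟨⟨s, F.S_le_Aut hs⟩, hsP, hS ⟨s, hs⟩⟩
  have hM : tr e (T ⊓ H) = F.S ⊓ H' := by
    ext s
    refine ⟨fun hs => ⟨tr_le e _ hs, (hH' ⟨s, tr_le e _ hs⟩).2
      (mem_inf.1 ((mem_tr (s := ⟨s, tr_le e _ hs⟩)).1 hs)).2⟩, fun hs => ?_⟩
    exact (mem_tr (s := ⟨s, hs.1⟩)).2 ⟨(e ⟨s, hs.1⟩).2, (hH' ⟨s, hs.1⟩).1 hs.2⟩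
  have hnorm : ∀ K : Subgroup G, H ≤ normalizer (K : Set G) → H' ≤ normalizer (tr e K : Set (RingAut A)) := by
    intro K hK
    refine norm_of_conj ?_
    rintro _ ⟨γ, ⟨g, hg, hγ⟩, rfl⟩ _ ⟨s, hs, rfl⟩
    refine (mem_tr (s := ⟨_, FR.conj_mem_S γ.2 s.2⟩)).2 ?_
    have h1 := hθ γ s ⟨_, FR.conj_mem_S γ.2 s.2⟩ rfl
    rw [← hγ] at h1
    have h2 : g * psi e s * g⁻¹ = psi e ⟨_, FR.conj_mem_S γ.2 s.2⟩ := congrArg Subtype.val h1
    rw [← h2]
    exact conj_mem_of_norm hK hg hs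
  have hs := (sit_of_cfg h.toCfg).tr e inf_le_left
  rw [hM] at hs
  have hQ : ∀ x ∈ Q, ∃ s : F.S, psi e s = x ∧ (s : RingAut A) ∈ tr e Q := fun x hx => by
    obtain ⟨s, hs⟩ := e.surjective ⟨x, h.Q_le_T hx⟩
    have h1 : psi e s = x := congrArg Subtype.val hs
    exact ⟨s, h1, mem_tr.2 (h1 ▸ hx)⟩
  refine hcx.false hs hu (hnorm Q h.H_norm_Q) fun h1 h2 h3 => ab h.toCfg (fun a ha b hb => ?_) (fun a ha => ?_)
    fun K hK hn => ?_
  · obtain ⟨s, rfl, hs⟩ := hQ a ha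
    obtain ⟨t, rfl, ht⟩ := hQ b hb
    rw [← map_mul, ← map_mul, show s * t = t * s from Subtype.ext (h1 _ hs _ ht)]
  · obtain ⟨s, rfl, hs⟩ := hQ a ha
    rw [← map_pow, show s ^ r = 1 from Subtype.ext (h2 _ hs), map_one]
  · refine (h3 _ (tr_mono e hK) (hnorm K hn)).imp (fun h4 => ?_) fun h4 => ?_
    · exact le_bot_iff.1 (le_of_tr_le (e := e) (hK.trans h.Q_le_T) (h4 ▸ bot_le))
    · exact le_antisymm hK (le_of_tr_le (e := e) h.Q_le_T h4.ge)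

theorem row_of [Finite A] (h : AS T H Q r Ya Yb da db) (hu : IsUnit (r : A)) {X : Type} [Group X] (e : T ≃* X)
    {Γ : Set (MulAut X)} (hm : ModelOn A X Γ) (hΓ : ∀ α, α ∈ Γ) : False :=
  row_model h hu (hm.congr e fun _ _ => hΓ _)

end Cfsg.Agent.T44.Cl
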