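import Cfsg.Agent.T44.Cl.Row
import Cfsg.Agent.AutOrth.Final
import Cfsg.Agent.ClassicalGeometry.OrthSemiForms
import Cfsg.Agent.ClassicalGeometry.SympAutOddA
import Cfsg.Agent.ClassicalGeometry.SympAutExists

/-!
# S3544, classical groups: the rows without exotic automorphisms (helper34)
-/

set_option autoImplicit false

namespace Cfsg.Agent.T44.Cl

open Cfsg Cfsg.Agent.T44 Cfsg.Agent.DS.Cl.Fwd

theorem cast_ne_zero {F : Type} [Field F] [Finite F] {p r : ℕ} [CharP F p] (hr : r.Prime) (h : p ≠ r) : (r : F) ≠ 0 :=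
  fun e => h ((Nat.prime_dvd_prime_iff_eq (CharP.char_is_prime F p) hr).1 ((CharP.cast_eq_zero_iff F p r).1 e))

theorem isUnit_EB {K V : Type} [Field K] [AddCommGroup V] [Module K V] (h : HF K V) {r : ℕ} (hr : (r : K) ≠ 0) :
    IsUnit (r : h.EB) := by
  have h1 := hr.isUnit.map (algebraMap K (Module.End K V))
  rwa [map_natCast] at h1

theorem isUnit_LR {ι F : Type} [Fintype ι] [DecidableEq ι] [Field F] {r : ℕ} (hr : (r : F) ≠ 0) :
    IsUnit (r : LR ι F) := by
  have h1 := hr.isUnit.map (algebraMap F (Matrix ι ι F × Matrix ι ι F))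
  rwa [map_natCast] at h1

theorem boxPSL : BoxPSL := by
  rintro - G _ _ T H Q r Ya Yb da db h ⟨p, hp, F, _, _, _, n, hn, hn2, ⟨e⟩⟩
  exact row_of h (isUnit_LR (cast_ne_zero h.prime hp)) e (modL F n hn hn2) fun _ => trivial

theorem boxPSU : BoxPSU := by
  rintro - G _ _ T H Q r Ya Yb da db h ⟨p, hp, F, _, _, _, n, q, hF, hn, h32, ⟨e⟩⟩
  exact row_of h (isUnit_EB _ (cast_ne_zero h.prime hp)) e (modU F n q hF hn h32) fun _ => trivial

/-- `Sp₄(2^a)` -/
def BoxB2 : Prop := Row fun r T _ => ∃ (F : Type) (_ : Field F) (_ : Fintype F), 3 ≤ Fintype.card F ∧ (r : F) ≠ 0 ∧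
  Nonempty (T ≃* PSp 2 F)

/-- `PΩ₈⁺(q)` -/
def BoxD4 : Prop := Row fun r T _ => ∃ (F : Type) (_ : Field F) (_ : Fintype F), (r : F) ≠ 0 ∧
  Nonempty (T ≃* POmega F (quadFormPlus 4 F))

theorem boxPSp_of (hB : BoxB2) : BoxPSp := by
  rintro - G _ _ T H Q r Ya Yb da db h ⟨p, hp, F, _, _, _, m, hm, hm2, ⟨e⟩⟩
  by_cases hcase : m = 2
  · subst hcase
    exact hB G T H Q r Ya Yb da db h ⟨F, inferInstance, inferInstance, hm2 rfl, cast_ne_zero h.prime hp, ⟨e⟩⟩
  · refine row_of h (isUnit_EB _ (cast_ne_zero h.prime hp)) e (modSp F m hm hm2) fun α => ?_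
    exact Cfsg.Agent.ClassicalGeometry.SympAutExists.exists_semi hm α
      (Cfsg.Agent.ClassicalGeometry.SympAutOddA.recog hm (Or.inl (by omega)) α)

section orth

open Cfsg.Agent.LieClassical.OrthForms Cfsg.Agent.ClassicalGeometry.OrthSemiForms

theorem row_orth {G : Type} [Group G] [Finite G] {T H Q : Subgroup G} {r : ℕ} {Ya Yb : Set G} {da db : ℕ}
    (h : AS T H Q r Ya Yb da db) {F ι : Type} [Field F] [Fintype F] [Fintype ι] [DecidableEq ι] (hr : (r : F) ≠ 0)
    {q : QuadraticForm F (ι → F)} (hG : Cfsg.Agent.LieClassical.OrthTrans.Good q)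
    (hsurj : Function.Surjective (Cfsg.Agent.ClassicalGeometry.OrthSemi.Psi q)) {f : (ι → F) → F} (hf : ⇑q = f)
    (e : T ≃* POmega F f) : False := by
  subst hf
  exact row_of h (isUnit_EB _ hr) (e.trans (pomegaEquiv hG)) (modO F _ q hG) hsurj

theorem boxOOdd : BoxOOdd := by
  rintro - G _ _ T H Q r Ya Yb da db h ⟨p, hp, F, _, _, _, m, hm, hq, ⟨e⟩⟩
  have h2 : (2 : F) ≠ 0 := by
    intro h2
    have := ringChar.charP F
    have h3 : ringChar F = 2 := (Nat.prime_dvd_prime_iff_eq (CharP.char_is_prime F (ringChar F)) Nat.prime_two).1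
      ((ringChar.spec F 2).1 (by exact_mod_cast h2))
    have h4 := FiniteField.even_card_of_char_two h3
    obtain ⟨k, hk⟩ := hq
    omega
  exact row_orth h (cast_ne_zero h.prime hp) (good_odd (by omega) h2)
    (Cfsg.Agent.AutOrth.Final.surjective_odd hm h2) (coe_oddForm _ _) e

theorem boxOPlus_of (hD : BoxD4) : BoxOPlus := by
  rintro - G _ _ T H Q r Ya Yb da db h ⟨p, hp, F, _, _, _, m, hm, ⟨e⟩⟩
  by_cases h4 : m = 4
  · subst h4
    exact hD G T H Q r Ya Yb da db h ⟨F, inferInstance, inferInstance, cast_ne_zero h.prime hp, ⟨e⟩⟩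
  · exact row_orth h (cast_ne_zero h.prime hp) (good_plus (by omega))
      (Cfsg.Agent.AutOrth.Final.surjective_plus (by omega)) (coe_plusForm _ _) e

theorem boxOMinus : BoxOMinus := by
  rintro - G _ _ T H Q r Ya Yb da db h ⟨p, hp, F, _, _, _, m, a, b, hm, hab, ⟨e⟩⟩
  exact row_orth h (cast_ne_zero h.prime hp) (good_minus (by omega) a b hab)
    (Cfsg.Agent.AutOrth.Final.surjective_minus (by omega) hab) (coe_minusForm _ _ a b) e

end orth

end Cfsg.Agent.T44.Cl
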