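import Cfsg.Agent.T44.Cl.Key1
import Cfsg.Agent.T44.Num

/-!
# S3544, classical groups: small symplectic spaces over the field with two elements, index lemmas (helper34)
-/

set_option autoImplicit false

namespace Cfsg.Agent.T44.Cl

open Cfsg Cfsg.Agent.T44 Cfsg.Agent.DS.Cl.Vec Subgroup

theorem exists_sp_ker {E N : Type} [Group E] [Finite E] [Group N] (β : E → E → ZMod 2)
    (h1 : ∀ x y z, β (x * y) z = β x z + β y z) (h2 : ∀ x y z, β x (y * z) = β x y + β x z) (h0 : ∀ x, β x x = 0)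
    (hcard : Nat.card (Set.range β) ≤ 64) (φ : N →* MulAut E) (hφ : ∀ γ x y, β (φ γ x) (φ γ y) = β x y) :
    ∃ K : Subgroup N, K.index ∣ 2 ^ 9 * 3 ^ 4 * 5 * 7 ∧ ∀ γ ∈ K, ∀ x, β (φ γ x) = β x := by
  have hsym : ∀ x y, β x y = β y x := fun x y => by
    have h := h0 (x * y)
    rw [h1, h2, h2, h0, h0, zero_add, add_zero] at h
    exact (eq_neg_of_add_eq_zero_left h).trans (ZMod.neg_eq_self_mod_two _)
  have hone : β 1 = 0 := funext fun z => by
    have h := h1 1 1 z
    rw [mul_one] at h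
    exact left_eq_add.1 h
  let V : Submodule (ZMod 2) (E → ZMod 2) :=
    { carrier := Set.range β
      add_mem' := by
        rintro _ _ ⟨x, rfl⟩ ⟨y, rfl⟩
        exact ⟨x * y, funext (h1 x y)⟩
      zero_mem' := ⟨1, hone⟩
      smul_mem' := by
        rintro c _ ⟨x, rfl⟩
        rcases (by decide : ∀ c : ZMod 2, c = 0 ∨ c = 1) c with rfl | rfl
        · exact ⟨1, by rw [hone, zero_smul]⟩
        · exact ⟨x, by rw [one_smul]⟩ }
  let π : E → V := fun x => ⟨β x, x, rfl⟩
  have hπ : ∀ x y, π (x * y) = π x + π y := fun x y => Subtype.ext (funext (h1 x y))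
  have hsurj : Function.Surjective π := by
    rintro ⟨_, x, rfl⟩
    exact ⟨x, rfl⟩
  choose s hs using hsurj
  have hs' : ∀ v, β (s v) = v.1 := fun v => congrArg Subtype.val (hs v)
  have a2 : ∀ (v : V) w w', v.1 (s (w + w')) = v.1 (s w) + v.1 (s w') := fun v w w' => by
    rw [← hs' v, hsym, hsym _ (s w), hsym _ (s w'), hs', hs', hs']
    rfl
  let B : LinearMap.BilinForm (ZMod 2) V := LinearMap.mk₂ (ZMod 2) (fun v w => v.1 (s w)) (fun _ _ _ => rfl)
    (fun _ _ _ => rfl) a2 fun c v w => ZMod.map_smul (AddMonoidHom.mk' (fun w => v.1 (s w)) (a2 v)) c w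
  have hB : ∀ x y, B (π x) (π y) = β x y := fun x y => by
    change β x (s (π y)) = _
    rw [hsym, hs', hsym]
  have key : ∀ γ x y, π x = π y → π (φ γ x) = π (φ γ y) := fun γ x y hxy => Subtype.ext (funext fun z => by
    obtain ⟨z, rfl⟩ := (φ γ).surjective z
    change β _ _ = β _ _
    rw [hφ, hφ]
    exact congrFun (congrArg Subtype.val hxy) z)
  let f : N → V →+ V := fun γ => AddMonoidHom.mk' (fun v => π (φ γ (s v))) fun v w => by
    rw [← hπ, ← map_mul]
    apply key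
    rw [hπ, hs, hs, hs]
  have hf : ∀ γ x, f γ (π x) = π (φ γ x) := fun γ x => key γ _ _ (hs _)
  let g : N →* Module.End (ZMod 2) V :=
    { toFun := fun γ => (f γ).toZModLinearMap 2
      map_one' := by
        refine LinearMap.ext fun v => ?_
        rw [← hs v]
        exact (hf 1 _).trans (by rw [map_one]; rfl)
      map_mul' := fun γ δ => by
        refine LinearMap.ext fun v => ?_
        rw [← hs v]
        change f (γ * δ) (π _) = f γ (f δ (π _))
        rw [hf, hf, hf, map_mul]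
        rfl }
  let ρ : N →* (V ≃ₗ[ZMod 2] V) :=
    (LinearMap.GeneralLinearGroup.generalLinearEquiv (ZMod 2) V).toMonoidHom.comp g.toHomUnits
  have hρ : ∀ γ x, ρ γ (π x) = π (φ γ x) := hf
  refine ⟨ρ.ker, ?_, fun γ hγ x => ?_⟩
  · have hle : ρ.range ≤ Isom (ZMod 2) fun v w => B v w := by
      rintro _ ⟨γ, rfl⟩ v w
      change B _ _ = B _ _
      rw [← hs v, ← hs w, hρ, hρ, hB, hB, hφ]
    have : Finite V := Finite.of_surjective π fun v => ⟨s v, hs v⟩
    obtain ⟨m, hm, ⟨e⟩⟩ := exists_sp_equiv B (fun v => by rw [← hs v, hB, h0]) fun v hv => Subtype.ext (funext fun z => by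
      have h := hv (π z)
      rw [← hs v, hB, hs'] at h
      exact h)
    have h3 : Nat.card V = 2 ^ (2 * m) := by rw [Module.natCard_eq_pow_finrank (K := ZMod 2), hm, Nat.card_zmod]
    have h4 : m ≤ 3 := by
      by_contra hh
      have h5 : 2 ^ 8 ≤ 2 ^ (2 * m) := Nat.pow_le_pow_right (by norm_num) (by omega)
      have h6 : Nat.card V ≤ 64 := hcard
      omega
    rw [index_ker]
    refine (card_dvd_of_le hle).trans ?_
    rw [← Nat.card_congr e.toEquiv, S0245.result (ZMod.card 2) m]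
    interval_cases m <;> decide
  · have h := hρ γ x
    rw [MonoidHom.mem_ker.1 hγ] at h
    exact (congrArg Subtype.val h).symm

variable {G : Type*} [Group G] [Finite G]

/-- if the `l`-elements of `K` lie in `Q` then the `l`-part of `|N : Q|` divides `|N : K|` -/
theorem dvd_relIndex_of_ell {l k : ℕ} (hl : l.Prime) {N Q K : Subgroup G} (hK : K ≤ N)
    (h : ∀ x ∈ K, ∀ j : ℕ, x ^ l ^ j = 1 → x ∈ Q) (hd : l ^ k ∣ Q.relIndex N) : l ^ k ∣ K.relIndex N := by
  obtain ⟨P, hP⟩ := exists_syl' hl K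
  have h1 : P ≤ Q ⊓ K := le_inf (fun x hx => by
    obtain ⟨j, hj⟩ := hP.pg ⟨x, hx⟩
    exact h x (hP.le hx) j (congrArg Subtype.val hj)) hP.le
  have h2 : ¬ l ∣ (Q ⊓ K).relIndex K := fun e => hP.idx (e.trans (relIndex_dvd_of_le_left K h1))
  have h3 := hd.trans (relIndex_dvd_of_le_left N (inf_le_left : Q ⊓ K ≤ Q))
  rw [← relIndex_mul_relIndex (Q ⊓ K) K N inf_le_right hK] at h3
  exact (((Nat.Prime.coprime_iff_not_dvd hl).2 h2).pow_left k).dvd_of_dvd_mul_left h3

theorem not_sq_dvd {l n : ℕ} (hl : l.Prime) (h5 : 5 ≤ l) (a b : ℕ) (hn : n ∣ 2 ^ a * 3 ^ b * 5 * 7) : ¬ l ^ 2 ∣ n := by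
  intro h
  have h1 := h.trans hn
  have c2 : (l ^ 2).Coprime (2 ^ a) := ((Nat.coprime_primes hl Nat.prime_two).2 (by omega)).pow _ _
  have c3 : (l ^ 2).Coprime (3 ^ b) := ((Nat.coprime_primes hl Nat.prime_three).2 (by omega)).pow _ _
  rw [mul_assoc, mul_assoc] at h1
  have h2 := c3.dvd_of_dvd_mul_left (c2.dvd_of_dvd_mul_left h1)
  have h3 := Nat.le_of_dvd (by norm_num) h2
  obtain rfl : l = 5 := by nlinarith
  exact absurd h2 (by decide)

end Cfsg.Agent.T44.Cl
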