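import Cfsg.Agent.T44.Cl.Tiny
import Cfsg.Agent.T44.Cl.Sp2
import Cfsg.Agent.T44.Cl.Main

/-!
# S3544, classical groups: dimension at most eight, without maximality (helper34)
-/

set_option autoImplicit false

namespace Cfsg.Agent.T44.Cl

open Cfsg Cfsg.Agent.T44 Cfsg.Agent.DS Cfsg.Agent.DS.Cl Subgroup
open scoped commutatorElement

theorem totient_lt {l r : ℕ} (hr : r.Prime) (h5 : 5 ≤ l) (h : l = r ∨ r ≤ 3) : Nat.totient (2 * r) < l := by
  rcases h with rfl | h
  · rw [Nat.totient_two_mul_of_odd (hr.odd_of_ne_two (by omega)), Nat.totient_prime hr]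
    omega
  · have := hr.two_le
    interval_cases r
    · exact lt_of_lt_of_le (by decide) h5
    · exact lt_of_lt_of_le (by decide) h5

theorem fix_cen {R : Type} [Ring R] [StarRing R] [Finite R] (h : SS R) {γ : RingAut R} (hγ : γ ∈ SAut R) {l k n : ℕ}
    (hl : l.Prime) (hn0 : n ≠ 0) (hn : Nat.totient n < l) (hk : γ ^ l ^ k = 1) {x : R} (hx : x ∈ Subring.center R)
    (hs : x * star x = 1) (hp : x ^ n = 1) : γ x = x := by
  let G : Subgroup Rˣ :=
    { carrier := {w | (w : R) ∈ Subring.center R ∧ (w : R) * star (w : R) = 1 ∧ w ^ n = 1}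
      one_mem' := ⟨one_mem _, by simp, one_pow _⟩
      mul_mem' := by
        rintro v w ⟨v1, v2, v3⟩ ⟨w1, w2, w3⟩
        refine ⟨mul_mem v1 w1, ?_, ?_⟩
        · rw [Units.val_mul, star_mul, mul_assoc, ← mul_assoc (w : R), w2, one_mul, v2]
        · rw [(show Commute v w from units_comm w1 v).mul_pow, v3, w3, mul_one]
      inv_mem' := by
        rintro w ⟨w1, w2, w3⟩
        refine ⟨inv_cen w1, ?_, by rw [inv_pow, w3, inv_one]⟩
        rw [star_eq_inv w2, star_star, ← star_eq_inv w2, Units.inv_mul] }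
  have hG : ∀ δ ∈ SAut R, ∀ w ∈ G, um δ w ∈ G := by
    rintro δ hδ w ⟨w1, w2, w3⟩
    exact ⟨map_cen δ w1, by rw [um_val, ← hδ, ← map_mul, w2, map_one], by rw [← map_pow, w3, map_one]⟩
  let φ : SAut R →* MulAut G :=
    { toFun := fun δ =>
        { toFun := fun w => ⟨um δ w, hG δ δ.2 w w.2⟩
          invFun := fun w => ⟨um δ.1⁻¹ w, hG _ (inv_mem δ.2) w w.2⟩
          left_inv := fun w => Subtype.ext (Units.ext (ra_inv_apply δ.1 _))
          right_inv := fun w => Subtype.ext (Units.ext (ra_apply_inv δ.1 _))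
          map_mul' := fun v w => Subtype.ext (map_mul _ _ _) }
      map_one' := rfl
      map_mul' := fun _ _ => rfl }
  have hc : IsCyclic G := Ext.isCyclic_of_cen h ((Units.coeHom R).comp G.subtype)
    (Units.val_injective.comp Subtype.val_injective) (fun w => w.2.1) fun w => w.2.2.1
  have h1 : Nat.card G ∣ n := by
    rw [← IsCyclic.exponent_eq_card]
    exact Monoid.exponent_dvd_of_forall_pow_eq_one fun w => Subtype.ext w.2.2.2
  have h2 : orderOf (φ ⟨γ, hγ⟩) ∣ Nat.totient n := by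
    refine (_root_.orderOf_dvd_natCard _).trans ?_
    rw [IsCyclic.card_mulAut]
    exact Nat.totient_dvd_of_dvd h1
  have h3 : orderOf (φ ⟨γ, hγ⟩) ∣ l ^ k := orderOf_dvd_of_pow_eq_one (by
    rw [← map_pow, show (⟨γ, hγ⟩ : SAut R) ^ l ^ k = 1 from Subtype.ext hk, map_one])
  have h4 : (l ^ k).Coprime (Nat.totient n) := ((Nat.Prime.coprime_iff_not_dvd hl).2
    (Nat.not_dvd_of_pos_of_lt (Nat.totient_pos.2 (Nat.pos_of_ne_zero hn0)) hn)).pow_left k
  have h5 := orderOf_eq_one_iff.1 (Nat.eq_one_of_dvd_coprimes h4 h3 h2)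
  let w : G := ⟨mkU x hs, hx, hs, Units.ext (by rw [Units.val_pow_eq_pow_val]; exact hp)⟩
  have h6 : φ ⟨γ, hγ⟩ w = w := by rw [h5]; rfl
  exact congrArg (fun t : G => ((t : Rˣ) : R)) h6

variable {A : Type} [Ring A] [StarRing A] {F : FR A}

local notation "κ" => DS.Cl.cj

omit [StarRing A] in
theorem up_pow {a e : A} (he : e * e = e) (h : a * e = e * a) (n : ℕ) :
    (a * e + (1 - e)) ^ n = a ^ n * e + (1 - e) := by
  induction n with
  | zero => simp
  | succ n ih =>
    have h1 : e * (a * e) = a * e := by rw [← mul_assoc, ← h, mul_assoc, he]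
    rw [pow_succ, ih, add_mul, mul_add, mul_add, mul_assoc, h1, mul_assoc _ e, mul_sub e, mul_one, he, sub_self,
      mul_zero, sub_mul, one_mul, h1, sub_self, mul_sub, mul_one, sub_mul, one_mul, he, pow_succ, mul_assoc]
    abel

omit [StarRing A] in
theorem eq_of_mul_atoms {D : Finset A} (hD : ∑ e ∈ D, e = 1) {a b : A} (h : ∀ e ∈ D, a * e = b * e) : a = b := by
  rw [← mul_one a, ← mul_one b, ← hD, Finset.mul_sum, Finset.mul_sum]
  exact Finset.sum_congr rfl h

theorem Tiny.sq (t : Tiny A) {z : Aˣ} (hz : z ∈ F.Iso) (hc : (z : A) ∈ Subring.center A) : z ^ 2 = 1 := by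
  apply Units.ext
  rw [pow_two, Units.val_mul, Units.val_one, ← hz.1, t.st _ hc]

/-- odd elements centralising `E` lift to the fixed ring -/
theorem Tiny.lift (t : Tiny A) {E : Subgroup (RingAut A)} (hE : E ≤ F.Aut) {γ : RingAut A} (h1 : γ ∈ F.PI)
    (h2 : γ ∈ centralizer (E : Set (RingAut A))) {n : ℕ} (hn : Odd n) (h3 : γ ^ n = 1) :
    ∃ v ∈ F.Iso, (v : A) ∈ fixR E ∧ v ^ n = 1 ∧ κ A v = γ := by
  obtain ⟨u, hu, rfl⟩ := h1
  obtain ⟨m, hm⟩ := hn
  have h4 : ((u * u : Aˣ) : A) ∈ fixR E := fun δ hδ => by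
    have h5 := ev_cen (mem_centralizer_iff.1 h2 δ hδ)
    rw [← ev_eq_one, ev_mul_right δ u h5, ← pow_two, t.sq (ev_mem (hE hδ) hu) h5]
  refine ⟨(u * u) ^ (m + 1), pow_mem (mul_mem hu hu) _, ?_, ?_, ?_⟩
  · rw [Units.val_pow_eq_pow_val]
    exact pow_mem h4 _
  · have h5 := t.sq (pow_mem hu n) (cj_eq_one_iff.1 (by rw [map_pow, h3]))
    rw [← pow_two, ← pow_mul, ← pow_mul, show 2 * ((m + 1) * n) = n * 2 * (m + 1) by ring, pow_mul, pow_mul, h5, one_pow]
  · rw [← pow_two, ← pow_mul, map_pow, show 2 * (m + 1) = n + 1 by omega, pow_succ, h3, one_mul]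

end Cfsg.Agent.T44.Cl
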