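import Cfsg.Agent.T44.Cl.Small

/-!
# S3544, classical groups: dimension at most eight, the theorem (helper34)
-/

set_option autoImplicit false

namespace Cfsg.Agent.T44.Cl

open Cfsg Cfsg.Agent.T44 Cfsg.Agent.DS Cfsg.Agent.DS.Cl Subgroup
open scoped commutatorElement

variable {A : Type} [Ring A] [StarRing A] {F : FR A}

local notation "κ" => DS.Cl.cj

theorem val_pow_succ (B : Blk A) (x : B.T) (n : ℕ) : B.val (x ^ (n + 1)) = B.val x ^ (n + 1) := by
  induction n with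
  | zero => rw [zero_add, pow_one, pow_one]
  | succ n ih => rw [pow_succ, B.val_mul, ih, ← pow_succ]

omit [StarRing A] in
theorem cent_of_fix {γ : RingAut A} {u : Aˣ} (h : γ u = u) : γ * κ A u = κ A u * γ := by
  have h2 := conj_cj γ u
  rw [show um γ u = u from Units.ext h] at h2
  exact mul_inv_eq_iff_eq_mul.1 h2

omit [StarRing A] in
theorem ev_conj (γ δ : RingAut A) (u : Aˣ) : ev (γ * δ * γ⁻¹) (um γ u) = um γ (ev δ u) := by
  rw [ev, ev, map_mul, map_inv]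
  congr 1
  exact Units.ext (by rw [um_val, um_val, um_val, um_val, ra_mul, ra_mul, ra_inv_apply])

/-- the small configuration -/
structure SC (F : FR A) (r l : ℕ) (N Q E : Subgroup (RingAut A)) : Prop where
  tiny : Tiny A
  ss : SS A
  ch : Ch r N Q
  le : N ≤ F.S
  unit : IsUnit (r : A)
  E_le : E ≤ N
  comm : Cm E
  exp : ∀ x ∈ E, x ^ r = 1
  norm : N ≤ normalizer (E : Set (RingAut A))
  cent : F.S ⊓ centralizer (E : Set (RingAut A)) ≤ N
  prime : l.Prime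
  five : 5 ≤ l
  alt : l = r ∨ r ≤ 3
  dvd : l ^ 2 ∣ Q.relIndex N

/-- the atoms of the centre of the fixed ring -/
structure Ato (N E : Subgroup (RingAut A)) (D : Finset A) : Prop where
  ne : ∀ e ∈ D, e ≠ 0
  idem : ∀ e ∈ D, e * e = e
  symm : ∀ e ∈ D, star e = e
  orth : ∀ e ∈ D, ∀ e' ∈ D, e ≠ e' → e * e' = 0
  sum : ∑ e ∈ D, e = 1
  mem : ∀ d ∈ D, d ∈ cenOf (fixR E)
  atom : ∀ e ∈ D, ∀ f ∈ cenOf (fixR E), star f = f → f * f = f → e * f = 0 ∨ e * f = e
  stab : N ≤ setStab (RingAut A) (D : Set A)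

namespace SC

variable [Finite A] {r l : ℕ} {N Q E : Subgroup (RingAut A)} (h : SC F r l N Q E)
include h

omit [Finite A] in
theorem E_PI : E ≤ F.PI := h.E_le.trans (h.le.trans F.S_le_PI)

omit [Finite A] in
theorem E_Aut : E ≤ F.Aut := h.E_PI.trans F.PI_le_Aut

omit [Finite A] in
theorem N_Aut : N ≤ F.Aut := h.le.trans F.S_le_Aut

omit [Finite A] in
theorem card_unit [Fintype E] : IsUnit (Fintype.card E : A) :=
  isUnit_card h.ch.prime h.unit fun x => ⟨1, Subtype.ext (by rw [pow_one]; exact h.exp x x.2)⟩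

theorem exists_ato : ∃ D, Ato N E D := by
  obtain ⟨D, h1, h2, h3, h4, h5, h6, h7, h8⟩ := exists_atoms (cenOf (fixR E)) fun x hx y hy => hy.2 x hx.1
  exact ⟨D, h1, h2, h3, h4, h5, h6, h7,
    le_setStab (h8 N (h.N_Aut.trans F.Aut_le_SAut) (inv_cenOf (inv_fixR h.norm)))⟩

variable {D : Finset A} (a : Ato N E D)
include a

theorem exists_block {e : A} (he : e ∈ D) : ∃ B : BD F, B.e = e ∧
    (∀ x, x ∈ B.car ↔ x ∈ fixR E ∧ e * x = x ∧ x * e = x) ∧ SS B.toBlk.T ∧ Sm (WB F B.toBlk) ∧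
      Inv (N ⊓ ptStab (RingAut A) (D : Set A)) B.car := by
  have := finite_ringAut (A := A)
  have : Fintype E := Fintype.ofFinite E
  obtain ⟨B, hB, hl⟩ := exists_fixBD (F := F) h.ss h.E_Aut h.card_unit (a.mem e he).1 (a.idem e he) (a.symm e he)
    (a.ne e he) fun f hf f1 f2 f3 f4 f5 => by
      have h1 : f ∈ cenOf (fixR E) := ⟨hf, fun y hy => by
        have h2 : y * e = e * y := (a.mem e he).2 y hy
        have h3 := f3 (y * e) (mul_mem hy (a.mem e he).1) (by rw [← mul_assoc, ← h2, mul_assoc, a.idem e he])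
          (by rw [mul_assoc, a.idem e he])
        rwa [mul_assoc, f1, h2, ← mul_assoc, f2] at h3⟩
      have h2 := a.atom e he f h1 f4 f5
      rwa [f1] at h2
  have hBe : B.e = e := by rw [hB]; rfl
  have hBc : ∀ x, x ∈ B.car ↔ x ∈ fixR E ∧ e * x = x ∧ x * e = x := fun x => by rw [hB]; rfl
  have h0 : B.e ≠ 0 := hBe ▸ a.ne e he
  have hinv : Inv (N ⊓ ptStab (RingAut A) (D : Set A)) B.car := fun γ hγ x hx => by
    obtain ⟨x1, x2, x3⟩ := (hBc x).1 hx
    have h1 : γ e = e := hγ.2 e he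
    exact (hBc _).2 ⟨inv_fixR h.norm γ hγ.1 x x1, by rw [← h1, ← map_mul, x2], by rw [← h1, ← map_mul, x3]⟩
  have hW : ∀ u ∈ WB F B.toBlk, (u : A) ∈ fixR E := fun u hu => by
    have h1 := add_mem ((hBc _).1 hu.2).1 (sub_mem (one_mem _) (a.mem e he).1)
    rwa [hBe, sub_add_cancel] at h1
  refine ⟨B, hBe, hBc, B.ss.resolve_left h0, ?_, hinv⟩
  refine sm_of_ch (h.ch.sub inf_le_left (norm_inf le_normalizer
    (norm_of_conj fun _ hγ _ hx => conj_mem_ptStab (a.stab hγ) hx))) (dich_WB B hl h0) (le_inf ?_ ?_)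
    (inf_le_left.trans (norm_WB (inf_le_left.trans h.N_Aut) hinv))
  · refine le_trans (le_inf ?_ ((commutator_le_left_of_norm le_normalizer).trans ?_)) h.cent
    · rw [FR.S_eq]
      exact commutator_mono (map_mono (WB_le _)) (map_mono (WB_le _))
    · rintro _ ⟨u, hu, rfl⟩
      exact cj_cent (hW u hu)
  · refine (commutator_le_left_of_norm le_normalizer).trans ?_
    rintro _ ⟨u, hu, rfl⟩ d hd
    exact cj_eq_of_mul ((a.mem d hd).2 _ (hW u hu))

theorem comm_of_ell {v w : Aˣ} (hv : v ∈ F.Iso) (hw : w ∈ F.Iso) (hv' : (v : A) ∈ fixR E) (hw' : (w : A) ∈ fixR E)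
    {k : ℕ} (h1 : v ^ l ^ k = 1) (h2 : w ^ l ^ k = 1) : v * w = w * v := by
  refine Units.ext (eq_of_mul_atoms a.sum fun e he => ?_)
  obtain ⟨B, hBe, hBc, -, hsm, -⟩ := h.exists_block a he
  have key : ∀ {v : Aˣ}, v ∈ F.Iso → (v : A) ∈ fixR E → v ^ l ^ k = 1 →
      ∃ x : WB F B.toBlk, ((x : Aˣ) : A) = v * e + (1 - e) ∧ x ^ l ^ k = 1 := by
    intro v hv hv' h1
    have hc : (v : A) * e = e * v := (a.mem e he).2 _ hv'
    obtain ⟨x, hx, e1⟩ := We.exists_comp h.ss (a.idem e he) (a.symm e he) hv hc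
    refine ⟨⟨x, hx.1, (hBc _).2 ?_⟩, e1, Subtype.ext (Units.ext ?_)⟩
    · rw [hBe, e1, add_sub_cancel_right]
      exact ⟨mul_mem hv' (a.mem e he).1, by rw [← mul_assoc, ← hc, mul_assoc, a.idem e he],
        by rw [mul_assoc, a.idem e he]⟩
    · change ((x ^ l ^ k : Aˣ) : A) = 1
      rw [Units.val_pow_eq_pow_val, e1, up_pow (a.idem e he) hc, ← Units.val_pow_eq_pow_val, h1, Units.val_one, one_mul,
        add_sub_cancel]
  obtain ⟨x, x1, x2⟩ := key hv hv' h1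
  obtain ⟨y, y1, y2⟩ := key hw hw' h2
  have h3 : ((x : Aˣ) : A) * (y : Aˣ) * e = ((y : Aˣ) : A) * (x : Aˣ) * e :=
    congrArg (fun t : WB F B.toBlk => ((t : Aˣ) : A) * e) (hsm.ell l h.prime h.five x y k x2 y2)
  have h4 : ∀ z : A, (z * e + (1 - e)) * e = z * e := fun z => by
    rw [add_mul, mul_assoc, sub_mul, one_mul, a.idem e he, sub_self, add_zero]
  rw [x1, y1, mul_assoc, mul_assoc, h4, h4, (a.mem e he).2 _ hv', (a.mem e he).2 _ hw', ← mul_assoc, ← mul_assoc,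
    ← (a.mem e he).2 _ hv', ← (a.mem e he).2 _ hw', h4, h4, mul_assoc, mul_assoc, ← (a.mem e he).2 _ hv',
    ← (a.mem e he).2 _ hw'] at h3
  rwa [Units.val_mul, Units.val_mul, mul_assoc, mul_assoc]

theorem ell_cent {γ : RingAut A} (h1 : γ ∈ N) (h2 : γ ∈ centralizer (E : Set (RingAut A))) {k : ℕ}
    (h3 : γ ^ l ^ k = 1) : γ ∈ Q := by
  have := finite_ringAut (A := A)
  have hodd : ∀ k, Odd (l ^ k) := fun k => (h.prime.odd_of_ne_two (by have := h.five; omega)).pow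
  refine h.ch.le_of_comm (B := Gen l (N ⊓ centralizer (E : Set (RingAut A)))) (Gen_le.trans inf_le_left)
    (norm_Gen (norm_inf le_normalizer (norm_centralizer h.norm))) (cm_iff.2 ?_) (mem_Gen ⟨h1, h2⟩ h3)
  refine Gen_le_iff.2 fun x hx i hi => ?_
  rw [← SetLike.mem_coe, ← Set.singleton_subset_iff, ← closure_le, le_centralizer_iff]
  refine Gen_le_iff.2 fun y hy j hj => ?_
  obtain ⟨v, v1, v2, v3, rfl⟩ := h.tiny.lift h.E_Aut (F.S_le_PI (h.le hx.1)) hx.2 (hodd (i + j))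
    (by rw [pow_add, pow_mul, hi, one_pow])
  obtain ⟨w, w1, w2, w3, rfl⟩ := h.tiny.lift h.E_Aut (F.S_le_PI (h.le hy.1)) hy.2 (hodd (i + j))
    (by rw [add_comm, pow_add, pow_mul, hj, one_pow])
  rw [centralizer_closure, mem_centralizer_singleton_iff, ← map_mul, ← map_mul, h.comm_of_ell a v1 w1 v2 w2 v3 w3]

theorem ell_fix {γ : RingAut A} (hγ : γ ∈ N ⊓ ptStab (RingAut A) (D : Set A)) {k : ℕ} (hk : γ ^ l ^ k = 1) {u : Aˣ}
    (hu : u ∈ F.Iso) (h1 : κ A u ∈ E) (h2 : (u : A) ∈ fixR E) : γ u = u := by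
  refine eq_of_mul_atoms a.sum fun e he => ?_
  obtain ⟨B, hBe, hBc, hss, -, hinv⟩ := h.exists_block a he
  have hc : (u : A) * e = e * u := (a.mem e he).2 _ h2
  have h3 : (u : A) * e ∈ B.car := (hBc _).2 ⟨mul_mem h2 (a.mem e he).1,
    by rw [← mul_assoc, ← hc, mul_assoc, a.idem e he], by rw [mul_assoc, a.idem e he]⟩
  have hst := Blk.mem_stab hinv hγ
  have h4 := fix_cen hss (γ := B.toBlk.res ⟨γ, hst⟩) (B.toBlk.res_SAut (h.N_Aut hγ.1).1) (k := k) h.prime
    (mul_ne_zero two_ne_zero h.ch.prime.ne_zero) (totient_lt h.ch.prime h.five h.alt)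
    (by rw [← map_pow, show (⟨γ, hst⟩ : B.toBlk.stab) ^ l ^ k = 1 from Subtype.ext hk, map_one])
    (x := B.toBlk.mk' _ h3) (B.toBlk.mem_center_iff.2 fun y hy => by
      obtain ⟨y1, y2, y3⟩ := (hBc y).1 hy
      rw [B.toBlk.val_mk', ← mul_assoc, ← comm_of_fixR h1 y1, mul_assoc, mul_assoc, y2, y3])
    (B.toBlk.val_inj (by
      change (u : A) * e * star ((u : A) * e) = B.e
      rw [hBe, star_mul, a.symm e he, mul_assoc, ← mul_assoc e, a.idem e he, ← mul_assoc, hc, mul_assoc, hu.1, mul_one]))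
    (B.toBlk.val_inj (by
      obtain ⟨n, hn⟩ := Nat.exists_eq_add_one_of_ne_zero (mul_ne_zero two_ne_zero h.ch.prime.ne_zero)
      have h5 := h.tiny.sq (pow_mem hu r) (cj_eq_one_iff.1 (by rw [map_pow, h.exp _ h1]))
      rw [← pow_mul, mul_comm, hn] at h5
      rw [hn, val_pow_succ, B.toBlk.val_mk', (show Commute (u : A) e from hc).mul_pow, ← Units.val_pow_eq_pow_val, h5,
        Units.val_one, one_mul, (show IsIdempotentElem e from a.idem e he).pow_succ_eq, B.toBlk.val_one, hBe]))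
  have h5 : γ ((u : A) * e) = u * e := congrArg B.toBlk.val h4
  rwa [map_mul, show γ e = e from hγ.2 e he] at h5

end SC

end Cfsg.Agent.T44.Cl
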