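import Cfsg.Agent.T44.Cl.Four

/-!
# S3544, classical groups: rings of matrices of size at most eight; atoms (helper34)
-/

set_option autoImplicit false

namespace Cfsg.Agent.T44.Cl

open Cfsg Cfsg.Agent.DS Cfsg.Agent.DS.Cl Module

section lin

variable {K V : Type} [Field K] [AddCommGroup V] [Module K V] [FiniteDimensional K V]

theorem sum_rank_le {ι : Type} (D : Finset ι) (f : ι → End K V) (h1 : ∀ e ∈ D, f e * f e = f e)
    (h2 : ∀ e ∈ D, ∀ e' ∈ D, e ≠ e' → f e * f e' = 0) : ∑ e ∈ D, finrank K (LinearMap.range (f e)) ≤ finrank K V := by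
  let φ : (∀ e : D, LinearMap.range (f e)) →ₗ[K] V := ∑ e : D, (LinearMap.range (f e)).subtype.comp (LinearMap.proj e)
  have hφ : Function.Injective φ := by
    rw [injective_iff_map_eq_zero]
    intro v hv
    funext e
    have h3 : ∑ e' : D, f e (v e' : V) = 0 := by
      rw [← map_sum]
      have h4 : ∑ e' : D, (v e' : V) = 0 := by simpa [φ] using hv
      rw [h4, map_zero]
    rw [Finset.sum_eq_single e] at h3
    · obtain ⟨w, hw⟩ := (v e).2
      rw [← hw, ← End.mul_apply, h1 e e.2, hw] at h3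
      exact Subtype.ext h3
    · intro e' _ he'
      obtain ⟨w, hw⟩ := (v e').2
      rw [← hw, ← End.mul_apply, h2 e e.2 e' e'.2 fun h => he' (Subtype.ext h.symm), LinearMap.zero_apply]
    · exact fun h => absurd (Finset.mem_univ _) h
  have h3 := LinearMap.finrank_le_finrank_of_injective hφ
  rwa [Module.finrank_pi_fintype, Finset.sum_coe_sort D fun e => finrank K (LinearMap.range (f e))] at h3

theorem comm_of_rank_le {e x y : End K V} (h : finrank K (LinearMap.range e) ≤ 1) (hx : x * e = e * x)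
    (hy : y * e = e * y) : x * y * e = y * x * e := by
  obtain ⟨v, hv⟩ := finrank_le_one_iff.1 h
  obtain ⟨w, hw⟩ := v.2
  obtain ⟨s, hs⟩ := hv ⟨x v, x w, by rw [← End.mul_apply, ← hx, End.mul_apply, hw]⟩
  obtain ⟨t, ht⟩ := hv ⟨y v, y w, by rw [← End.mul_apply, ← hy, End.mul_apply, hw]⟩
  have hs' : x v = s • (v : V) := (congrArg Subtype.val hs).symm
  have ht' : y v = t • (v : V) := (congrArg Subtype.val ht).symm
  ext z
  obtain ⟨c, hc⟩ := hv ⟨e z, z, rfl⟩
  have hc' : e z = c • (v : V) := (congrArg Subtype.val hc).symm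
  simp only [End.mul_apply, hc', map_smul, hs', ht', smul_smul]
  rw [mul_comm t s]

end lin

variable {A : Type} [Ring A] [StarRing A]

/-- a matrix ring of size at most eight, with an involution of the first kind -/
structure Tiny (A : Type) [Ring A] [StarRing A] : Prop where
  st : ∀ c ∈ Subring.center A, star c = c
  fr : ∀ D : Finset A, (∀ e ∈ D, e * e = e) → (∀ e ∈ D, ∀ e' ∈ D, e ≠ e' → e * e' = 0) → (∀ e ∈ D, e ≠ 0) → D.card ≤ 8
  fr2 : ∀ D : Finset A, (∀ e ∈ D, e * e = e) → (∀ e ∈ D, ∀ e' ∈ D, e ≠ e' → e * e' = 0) →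
    (∀ e ∈ D, ∃ x y, x * e = e * x ∧ y * e = e * y ∧ x * y * e ≠ y * x * e) → D.card ≤ 4
  ind : ∀ (ι : Type) [Fintype ι] (x : ι → A),
    (∀ c : ι → A, (∀ i, c i ∈ Subring.center A) → ∑ i, c i * x i = 0 → ∀ i, c i = 0) → Fintype.card ι ≤ 64

theorem tiny_of {K V : Type} [Field K] [AddCommGroup V] [Module K V] [FiniteDimensional K V] [Nontrivial V]
    (φ : A ≃+* End K V) (h8 : finrank K V ≤ 8) (hs : ∀ c : K, star (φ.symm (c • 1)) = φ.symm (c • 1)) : Tiny A := by
  have key : ∀ (D : Finset A) (k : ℕ), (∀ e ∈ D, e * e = e) → (∀ e ∈ D, ∀ e' ∈ D, e ≠ e' → e * e' = 0) →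
      (∀ e ∈ D, k ≤ finrank K (LinearMap.range (φ e))) → D.card * k ≤ 8 := fun D k h1 h2 h3 => by
    have h4 := sum_rank_le D φ (fun e he => by rw [← map_mul, h1 e he])
      fun e he e' he' h => by rw [← map_mul, h2 e he e' he' h, map_zero]
    have h5 := Finset.card_nsmul_le_sum D _ _ h3
    rw [smul_eq_mul] at h5
    omega
  refine ⟨fun c hc => ?_, fun D h1 h2 h3 => ?_, fun D h1 h2 h3 => ?_, fun ι _ x h => ?_⟩
  · obtain ⟨c, rfl⟩ := P5.exists_smul φ hc
    exact hs c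
  · have h4 := key D 1 h1 h2 fun e he => Nat.one_le_iff_ne_zero.2 fun h0 => h3 e he (by
      rwa [Submodule.finrank_eq_zero, LinearMap.range_eq_bot, map_eq_zero_iff φ φ.injective] at h0)
    omega
  · have h4 := key D 2 h1 h2 fun e he => by
      obtain ⟨x, y, a1, a2, a3⟩ := h3 e he
      by_contra hlt
      refine a3 (φ.injective ?_)
      simp only [map_mul]
      exact comm_of_rank_le (by omega) (by rw [← map_mul, a1, map_mul]) (by rw [← map_mul, a2, map_mul])
    omega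
  · have h1 : LinearIndependent K fun i => φ (x i) := by
      rw [Fintype.linearIndependent_iff]
      intro g hg i
      have h2 := h (fun i => φ.symm (g i • 1)) (fun i => P5.cen_smul φ _) (φ.injective (by
        rw [map_sum, map_zero, ← hg]
        exact Finset.sum_congr rfl fun j _ => by rw [map_mul, φ.apply_symm_apply, smul_mul_assoc, one_mul])) i
      rw [map_eq_zero_iff _ φ.symm.injective] at h2
      exact (smul_eq_zero.1 h2).resolve_right one_ne_zero
    have h2 := h1.fintype_card_le_finrank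
    rw [finrank_linearMap] at h2
    nlinarith

theorem tiny_EB {K V : Type} [Field K] [AddCommGroup V] [Module K V] [Finite K] [Finite V] [Nontrivial V]
    (h : Fwd.HF K V) (hτ : ∀ c, h.τ c = c) (h8 : finrank K V ≤ 8) : Tiny h.EB := by
  have : FiniteDimensional K V := Module.Finite.of_finite
  refine tiny_of (K := K) (V := V) (RingEquiv.refl _) h8 fun c => h.ap_ext fun v => h.ext_right fun u => ?_
  rw [h.b_star]
  change h.b (c • u) v = h.b u (c • v)
  rw [h.smul_left, h.smul_right, hτ]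

/-- the atoms of the symmetric idempotents of a commutative subring -/
theorem exists_atoms [Finite A] (Z : Subring A) (hc : ∀ x ∈ Z, ∀ y ∈ Z, x * y = y * x) :
    ∃ D : Finset A, (∀ e ∈ D, e ≠ 0) ∧ (∀ e ∈ D, e * e = e) ∧ (∀ e ∈ D, star e = e) ∧
      (∀ e ∈ D, ∀ e' ∈ D, e ≠ e' → e * e' = 0) ∧ ∑ e ∈ D, e = 1 ∧ (∀ d ∈ D, d ∈ Z) ∧
      (∀ e ∈ D, ∀ f ∈ Z, star f = f → f * f = f → e * f = 0 ∨ e * f = e) ∧
      ∀ M : Subgroup (RingAut A), M ≤ SAut A → Inv M Z → Inv M D := by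
  classical
  have := Fintype.ofFinite A
  let P : A → Prop := fun x => x ∈ Z ∧ star x = x ∧ x * x = x
  have hPmul : ∀ x y, P x → P y → P (x * y) := by
    rintro x y ⟨a1, a2, a3⟩ ⟨b1, b2, b3⟩
    refine ⟨Z.mul_mem a1 b1, by rw [star_mul, a2, b2, hc x a1 y b1], ?_⟩
    rw [mul_assoc, ← mul_assoc y, ← hc x a1 y b1, mul_assoc, b3, ← mul_assoc, a3]
  have hPc : ∀ x, P x → P (1 - x) := by
    rintro x ⟨a1, a2, a3⟩
    exact ⟨Z.sub_mem Z.one_mem a1, by rw [star_sub, star_one, a2], by rw [mul_sub, mul_one, sub_mul, one_mul, a3]; simp⟩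
  let At : A → Prop := fun x => P x ∧ x ≠ 0 ∧ ∀ y, P y → x * y = 0 ∨ x * y = x
  have hAt : ∀ x, P x → x ≠ 0 → ∃ f, At f ∧ f * x = f := by
    intro x hx hx0
    obtain ⟨f, hf⟩ := (Set.toFinite {f | P f ∧ f ≠ 0 ∧ f * x = f}).exists_minimalFor (fun f => {a | f * a = a}) _
      ⟨x, hx, hx0, hx.2.2⟩
    obtain ⟨⟨f1, f2, f3⟩, f4⟩ := hf
    refine ⟨f, ⟨f1, f2, fun y hy => ?_⟩, f3⟩
    by_cases hfy : f * y = 0
    · exact Or.inl hfy
    right
    have h5 := f4 (j := f * y) ⟨hPmul _ _ f1 hy, hfy, by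
      rw [mul_assoc, hc y hy.1 x hx.1, ← mul_assoc, f3]⟩ (fun a (ha : f * y * a = a) => by
        show f * a = a
        rw [← ha, ← mul_assoc, ← mul_assoc, f1.2.2])
    have h6 : f * y * f = f := h5 f1.2.2
    rwa [mul_assoc, hc y hy.1 f f1.1, ← mul_assoc, f1.2.2] at h6
  let D : Finset A := Finset.univ.filter At
  have hD : ∀ x, x ∈ D ↔ At x := fun x => by simp [D]
  have horth : ∀ x ∈ D, ∀ y ∈ D, x ≠ y → x * y = 0 := by
    intro x hx y hy hxy
    obtain ⟨x1, -, x3⟩ := (hD x).1 hx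
    obtain ⟨y1, -, y3⟩ := (hD y).1 hy
    rcases x3 y y1 with h | h
    · exact h
    rcases y3 x x1 with h' | h'
    · rw [hc x x1.1 y y1.1, h']
    · exact absurd (by rw [← h, hc x x1.1 y y1.1, h']) hxy
  have hmul : ∀ x ∈ D, x * ∑ y ∈ D, y = x := by
    intro x hx
    rw [Finset.mul_sum, Finset.sum_eq_single x (fun y hy hyx => horth x hx y hy hyx.symm) (fun h => absurd hx h)]
    exact ((hD x).1 hx).1.2.2
  refine ⟨D, fun x hx => ((hD x).1 hx).2.1, fun x hx => ((hD x).1 hx).1.2.2, fun x hx => ((hD x).1 hx).1.2.1,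
    horth, ?_, fun x hx => ((hD x).1 hx).1.1, fun x hx y y1 y2 y3 => ((hD x).1 hx).2.2 y ⟨y1, y2, y3⟩, ?_⟩
  · by_contra hne
    have h2 : P (∑ y ∈ D, y) := by
      refine ⟨Z.sum_mem fun y hy => ((hD y).1 hy).1.1, ?_, ?_⟩
      · rw [star_sum]
        exact Finset.sum_congr rfl fun y hy => ((hD y).1 hy).1.2.1
      · rw [Finset.sum_mul]
        exact Finset.sum_congr rfl hmul
    obtain ⟨f, hf, hfe⟩ := hAt _ (hPc _ h2) (sub_ne_zero.2 (Ne.symm hne))
    rw [mul_sub, mul_one, hmul f ((hD f).2 hf), sub_self] at hfe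
    exact hf.2.1 hfe.symm
  · intro M hM hZ γ hγ x hx
    have hP : ∀ γ ∈ M, ∀ x, P x → P (γ x) := by
      rintro γ hγ x ⟨a1, a2, a3⟩
      exact ⟨hZ γ hγ x a1, by rw [← hM hγ, a2], by rw [← map_mul, a3]⟩
    obtain ⟨x1, x2, x3⟩ := (hD x).1 hx
    refine (hD _).2 ⟨hP γ hγ x x1, by rwa [map_ne_zero_iff γ γ.injective], fun y hy => ?_⟩
    rcases x3 _ (hP _ (inv_mem hγ) y hy) with h | h
    · left
      rw [← ra_apply_inv γ y, ← map_mul, h, map_zero]
    · right
      conv_lhs => rw [← ra_apply_inv γ y, ← map_mul, h]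

end Cfsg.Agent.T44.Cl
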