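import Cfsg.Agent.T44.Cl.Wr
import Cfsg.Agent.T44.Num
import Cfsg.Agent.T44.Sol

/-!
# S3544, classical groups: transport of the situation `Sit` (helper34)
-/

set_option autoImplicit false

namespace Cfsg.Agent.T44.Cl

open Cfsg Cfsg.Agent.T44 Subgroup

section map

variable {G G' : Type*} [Group G] [Group G'] {f : G →* G'} (hf : Function.Injective f)
include hf

theorem norm_map_iff {A X : Subgroup G} :
    A.map f ≤ normalizer (X.map f : Set G') ↔ A ≤ normalizer (X : Set G) := by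
  refine ⟨fun h => norm_of_conj fun a ha x hx => ?_, fun h => norm_of_conj ?_⟩
  · have h1 := conj_mem_of_norm h (mem_map_of_mem f ha) (mem_map_of_mem f hx)
    rwa [← map_inv, ← map_mul, ← map_mul, mem_map_iff_mem hf] at h1
  · rintro _ ⟨a, ha, rfl⟩ _ ⟨x, hx, rfl⟩
    exact ⟨_, conj_mem_of_norm h ha hx, by rw [map_mul, map_mul, map_inv]⟩

theorem mem_cent_map_iff {X : Subgroup G} {a : G} :
    f a ∈ centralizer (X.map f : Set G') ↔ a ∈ centralizer (X : Set G) := by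
  rw [mem_centralizer_iff, mem_centralizer_iff]
  refine ⟨fun h x hx => hf (by rw [map_mul, map_mul]; exact h _ ⟨x, hx, rfl⟩), ?_⟩
  rintro h _ ⟨x, hx, rfl⟩
  rw [← map_mul, ← map_mul, h x hx]

theorem cent_map {A X : Subgroup G} :
    A.map f ⊓ centralizer (X.map f : Set G') = (A ⊓ centralizer (X : Set G)).map f := by
  ext y
  constructor
  · rintro ⟨⟨a, ha, rfl⟩, h⟩
    exact ⟨a, ⟨ha, (mem_cent_map_iff hf).1 h⟩, rfl⟩
  · rintro ⟨a, ⟨ha, h⟩, rfl⟩
    exact ⟨⟨a, ha, rfl⟩, (mem_cent_map_iff hf).2 h⟩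

theorem pg_map_iff {r : ℕ} {X : Subgroup G} : IsPGroup r (X.map f) ↔ IsPGroup r X :=
  ⟨fun h => h.of_equiv (X.equivMapOfInjective f hf).symm, fun h => h.map f⟩

theorem isO_map_iff {r : ℕ} {Q M : Subgroup G} : IsO r (Q.map f) (M.map f) ↔ IsO r Q M := by
  refine ⟨fun h => ⟨(map_le_map_iff_of_injective hf).1 h.le, (pg_map_iff hf).1 h.pg, (norm_map_iff hf).1 h.norm,
    fun X h1 h2 h3 => (map_le_map_iff_of_injective hf).1 (h.max _ (map_mono h1) (h2.map f) ((norm_map_iff hf).2 h3))⟩,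
    fun h => ⟨map_mono h.le, h.pg.map f, (norm_map_iff hf).2 h.norm, fun X h1 h2 h3 => ?_⟩⟩
  have e : (X.comap f).map f = X := map_comap_eq_self (h1.trans (map_le_range _ _))
  rw [← e] at h1 h2 h3 ⊢
  exact map_mono (h.max _ ((map_le_map_iff_of_injective hf).1 h1) ((pg_map_iff hf).1 h2) ((norm_map_iff hf).1 h3))

theorem gen_map {r : ℕ} {L : Subgroup G} : Gen r (L.map f) = (Gen r L).map f := by
  rw [Gen, Gen, MonoidHom.map_closure]
  congr 1
  ext y
  constructor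
  · rintro ⟨⟨x, hx, rfl⟩, k, hk⟩
    exact ⟨x, ⟨hx, k, hf (by rw [map_pow, hk, map_one])⟩, rfl⟩
  · rintro ⟨x, ⟨hx, k, hk⟩, rfl⟩
    exact ⟨⟨x, hx, rfl⟩, k, by rw [← map_pow, hk, map_one]⟩

theorem ch_map_iff {r : ℕ} {N Q : Subgroup G} : Ch r (N.map f) (Q.map f) ↔ Ch r N Q := by
  refine ⟨fun h => ⟨h.prime, (isO_map_iff hf).1 h.isO, ?_⟩, fun h => ⟨h.prime, (isO_map_iff hf).2 h.isO, ?_⟩⟩
  · rw [← map_le_map_iff_of_injective hf, ← cent_map hf]
    exact h.cent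
  · rw [cent_map hf]
    exact map_mono h.cent

theorem sit_map_iff {r : ℕ} {N Q La Lb : Subgroup G} :
    Sit r (N.map f) (Q.map f) (La.map f) (Lb.map f) ↔ Sit r N Q La Lb := by
  have le : ∀ {A B : Subgroup G}, A.map f ≤ B.map f ↔ A ≤ B := map_le_map_iff_of_injective hf
  refine ⟨fun h => ⟨(ch_map_iff hf).1 h.toCh, fun e => h.Q_ne (by rw [e, Subgroup.map_bot]), le.1 h.La_le, le.1 h.Lb_le,
    (norm_map_iff hf).1 h.La_norm, (norm_map_iff hf).1 h.Lb_norm, le.1 (by rw [map_commutator]; exact h.comm),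
    le.1 (by rw [← gen_map hf]; exact h.genA), le.1 (by rw [← gen_map hf]; exact h.genB),
    fun e => h.not_La (le.2 e), fun e => h.not_Lb (le.2 e), ?_, fun e => h.nsol (sol_map f e)⟩,
    fun h => ⟨(ch_map_iff hf).2 h.toCh, fun e => h.Q_ne ((map_eq_bot_iff_of_injective _ hf).1 e), le.2 h.La_le,
    le.2 h.Lb_le, (norm_map_iff hf).2 h.La_norm, (norm_map_iff hf).2 h.Lb_norm,
    by rw [← map_commutator]; exact le.2 h.comm, by rw [gen_map hf]; exact le.2 h.genA,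
    by rw [gen_map hf]; exact le.2 h.genB, fun e => h.not_La (le.1 e), fun e => h.not_Lb (le.1 e), ?_,
    fun e => h.nsol (sol_of_map_inj hf e)⟩⟩
  · simpa only [card_map_of_injective hf] using h.primes
  · simpa only [card_map_of_injective hf] using h.primes

end map

theorem relIndex_dvd_card' {G : Type*} [Group G] (A B : Subgroup G) : A.relIndex B ∣ Nat.card B :=
  index_dvd_card (A.subgroupOf B)

variable {G : Type*} [Group G] [Finite G] {T H Q : Subgroup G} {r : ℕ} {Ya Yb : Set G} {da db : ℕ}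

theorem sit_of_cfg (h : Cfg T H Q r Ya Yb da db) : Sit r (T ⊓ H) Q (Lg Q Ya) (Lg Q Yb) := by
  obtain ⟨s, t, h1, h2, h3, h4, h5, -, -, h6, h7⟩ := h.exists_primes
  exact ⟨⟨h.prime, h.isO, h.cent⟩, h.Q_ne, h.La_le_M, h.Lb_le_M, h.M_norm_La, h.M_norm_Lb, h.comm_le, h.Gen_Lg.ge,
    h.symm.Gen_Lg.ge, h.not_La_le_Q, h.not_Lb_le_Q,
    ⟨s, t, h1, h2, h3, h4, h5, h6.trans (relIndex_dvd_card' _ _), h7.trans (relIndex_dvd_card' _ _)⟩, h.not_solvable⟩

/-- a prime `l ≥ 5` with `l² ∣ |M : Q|` -/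
theorem exists_ell (h : Cfg T H Q r Ya Yb da db) :
    ∃ l : ℕ, l.Prime ∧ 5 ≤ l ∧ (l = r ∨ r ≤ 3) ∧ l ^ 2 ∣ Q.relIndex (T ⊓ H) := by
  have aux : ∀ {Ya Yb : Set G} {da db : ℕ}, Cfg T H Q r Ya Yb da db → ∀ t : ℕ, t.Prime → t ≠ r →
      t ∣ Q.relIndex (Lg Q Yb) → t ^ 2 ∣ Q.relIndex (T ⊓ H) := by
    intro Ya Yb da db h t ht htr hd
    obtain ⟨y, hy⟩ := h.A.ne
    have h1 := (h.sq_dvd ht (hd.trans (relIndex_dvd_card' _ _)) hy).trans (card_dvd_of_le inf_le_left)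
    rw [← card_mul_relIndex h.Q_le_M] at h1
    exact (((Nat.Prime.coprime_iff_not_dvd ht).2 (not_dvd_card_of_pg h.prime ht htr h.isO.pg)).pow_left 2).dvd_of_dvd_mul_left h1
  by_cases hr : r ≤ 3
  · obtain ⟨s, t, h1, h2, h3, h4, h5, -, -, h6, h7⟩ := h.exists_primes
    have a1 := h1.two_le
    have a2 := h2.two_le
    have a3 := h.prime.two_le
    have a4 : s ≠ 4 := by rintro rfl; exact absurd h1 (by decide)
    have a5 : t ≠ 4 := by rintro rfl; exact absurd h2 (by decide)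
    by_cases h8 : 5 ≤ t
    · exact ⟨t, h2, h8, Or.inr hr, aux h t h2 h5 h7⟩
    · exact ⟨s, h1, by omega, Or.inr hr, aux h.symm s h1 h4 h6⟩
  · have a4 : r ≠ 4 := by rintro rfl; exact absurd h.prime (by decide)
    exact ⟨r, h.prime, by omega, Or.inl rfl, (pow_dvd_pow r (by norm_num)).trans h.N0⟩

end Cfsg.Agent.T44.Cl
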