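import Cfsg.Agent.T44.Cl.Ch
import Cfsg.Agent.DS.Cl.Act
import Cfsg.Agent.H508.AltHom

/-!
# S3544, classical groups: the situation `Sit` and the wreath lemma (helper34)
-/

set_option autoImplicit false

namespace Cfsg.Agent.T44.Cl

open Subgroup Cfsg Cfsg.Agent.T44 Cfsg.Agent.DS.Cl
open scoped commutatorElement

/-- the structure of `M = T ⊓ H` -/
structure Sit {G : Type*} [Group G] (r : ℕ) (N Q La Lb : Subgroup G) : Prop extends Ch r N Q where
  Q_ne : Q ≠ ⊥
  La_le : La ≤ N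
  Lb_le : Lb ≤ N
  La_norm : N ≤ normalizer (La : Set G)
  Lb_norm : N ≤ normalizer (Lb : Set G)
  comm : ⁅La, Lb⁆ ≤ Q
  genA : La ≤ Gen r La
  genB : Lb ≤ Gen r Lb
  not_La : ¬ La ≤ Q
  not_Lb : ¬ Lb ≤ Q
  primes : ∃ s t : ℕ, s.Prime ∧ t.Prime ∧ s ≠ t ∧ s ≠ r ∧ t ≠ r ∧ s ∣ Nat.card La ∧ t ∣ Nat.card Lb
  nsol : ¬ Group.IsSolvable N

theorem Sit.symm {G : Type*} [Group G] {r : ℕ} {N Q La Lb : Subgroup G} (h : Sit r N Q La Lb) : Sit r N Q Lb La := by
  obtain ⟨s, t, h1, h2, h3, h4, h5, h6, h7⟩ := h.primes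
  exact ⟨h.toCh, h.Q_ne, h.Lb_le, h.La_le, h.Lb_norm, h.La_norm, by rw [Subgroup.commutator_comm]; exact h.comm,
    h.genB, h.genA, h.not_Lb, h.not_La, ⟨t, s, h2, h1, h3.symm, h5, h4, h7, h6⟩, h.nsol⟩

section ind

variable {G : Type*} [Group G]

/-- all prime divisors of the order are `2` or `3` -/
def P23 (W : Subgroup G) : Prop := ∀ s : ℕ, s.Prime → s ∣ Nat.card W → s = 2 ∨ s = 3

/-- commutative subgroups -/
def Cm (W : Subgroup G) : Prop := ∀ a ∈ W, ∀ b ∈ W, a * b = b * a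

theorem cm_iff {W : Subgroup G} : Cm W ↔ W ≤ centralizer (W : Set G) :=
  ⟨fun h a ha => mem_centralizer_iff.2 fun b hb => h b hb a ha, fun h a ha _ hb => mem_centralizer_iff.1 (h hb) a ha⟩

theorem sup_eq_range {A B : Subgroup G} (h : A ≤ centralizer (B : Set G)) : ∃ f : A × B →* G, f.range = A ⊔ B := by
  have hc : ∀ (a : A) (b : B), Commute (A.subtype a) (B.subtype b) :=
    fun a b => (mem_centralizer_iff.1 (h a.2) b b.2).symm
  refine ⟨MonoidHom.noncommCoprod A.subtype B.subtype hc, ?_⟩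
  rw [MonoidHom.noncommCoprod_range, range_subtype, range_subtype]

theorem sol_sup {A B : Subgroup G} (h : A ≤ centralizer (B : Set G)) (hA : Group.IsSolvable A)
    (hB : Group.IsSolvable B) : Group.IsSolvable (A ⊔ B : Subgroup G) := by
  obtain ⟨f, hf⟩ := sup_eq_range h
  rw [← hf]
  exact Group.isSolvable_of_surjective f.rangeRestrict_surjective

theorem P23.sup {A B : Subgroup G} (h : A ≤ centralizer (B : Set G)) (hA : P23 A) (hB : P23 B) : P23 (A ⊔ B) := by
  obtain ⟨f, hf⟩ := sup_eq_range h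
  intro s hs hd
  rw [← hf] at hd
  have h1 := hd.trans (card_dvd_of_surjective _ f.rangeRestrict_surjective)
  rw [Nat.card_prod] at h1
  exact ((hs.dvd_mul).1 h1).elim (hA s hs) (hB s hs)

theorem P23.of_le {A B : Subgroup G} (h : A ≤ B) (hB : P23 B) : P23 A :=
  fun s hs hd => hB s hs (hd.trans (card_dvd_of_le h))

theorem Cm.sup {A B : Subgroup G} (h : A ≤ centralizer (B : Set G)) (hA : Cm A) (hB : Cm B) : Cm (A ⊔ B) := by
  rw [cm_iff] at hA hB ⊢
  refine sup_le ?_ ?_ <;> rw [le_centralizer_iff]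
  · exact sup_le hA (le_centralizer_iff.1 h)
  · exact sup_le h hB

theorem Cm.of_le {A B : Subgroup G} (h : A ≤ B) (hB : Cm B) : Cm A := fun a ha b hb => hB a (h ha) b (h hb)

theorem iSup_ind {X : Type*} {D : Set X} (hD : D.Finite) {W : X → Subgroup G}
    (hc : ∀ e ∈ D, ∀ f ∈ D, e ≠ f → W e ≤ centralizer (W f : Set G)) {P : Subgroup G → Prop} (h0 : P ⊥)
    (hs : ∀ A B : Subgroup G, A ≤ centralizer (B : Set G) → P A → P B → P (A ⊔ B)) (h : ∀ e ∈ D, P (W e)) :
    P (⨆ e ∈ D, W e) := by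
  induction D, hD using Set.Finite.induction_on with
  | empty => simpa using h0
  | @insert a s ha _ ih =>
    rw [iSup_insert]
    refine hs _ _ ?_ (h a (Set.mem_insert _ _)) (ih (fun e he f hf => hc e (Set.mem_insert_of_mem _ he) f
      (Set.mem_insert_of_mem _ hf)) fun e he => h e (Set.mem_insert_of_mem _ he))
    rw [le_centralizer_iff]
    exact iSup₂_le fun e he => hc e (Set.mem_insert_of_mem _ he) a (Set.mem_insert _ _) fun e' => ha (e' ▸ he)

theorem commutator_iSup_le {X : Type*} {D : Set X} {W : X → Subgroup G} {A Q M : Subgroup G}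
    (hQ : M ≤ normalizer (Q : Set G)) (hW : ∀ e ∈ D, W e ≤ M) (h : ∀ e ∈ D, ⁅A, W e⁆ ≤ Q) : ⁅A, ⨆ e ∈ D, W e⁆ ≤ Q :=
  ((le_cmod (hQ := hQ)).1 (iSup₂_le fun e he => le_cmod.2 ⟨hW e he, h e he⟩)).2

theorem comm_iSup_le {X : Type*} {D : Set X} {W : X → Subgroup G}
    (hc : ∀ e ∈ D, ∀ f ∈ D, e ≠ f → W e ≤ centralizer (W f : Set G)) :
    ⁅⨆ e ∈ D, W e, ⨆ e ∈ D, W e⁆ ≤ ⨆ e ∈ D, ⁅W e, W e⁆ := by
  have hn : (⨆ e ∈ D, W e) ≤ normalizer ((⨆ e ∈ D, ⁅W e, W e⁆ : Subgroup G) : Set G) := by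
    refine iSup₂_le fun f hf => norm_of_conj fun a ha x hx => ?_
    have h1 : (⨆ e ∈ D, ⁅W e, W e⁆) ≤ cj a⁻¹ (⨆ e ∈ D, ⁅W e, W e⁆) := by
      refine iSup₂_le fun e he => cj_le_iff.1 (le_trans ?_ (le_iSup₂_of_le e he le_rfl))
      by_cases hef : e = f
      · subst hef
        exact (cj_eq_iff.2 (norm_commutator le_normalizer le_normalizer ha)).le
      · refine (cj_eq_iff.2 (centralizer_le_normalizer _ ?_)).le
        exact centralizer_le (commutator_le_left_of_norm le_normalizer) (hc f hf e he (Ne.symm hef) ha)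
    have h2 := mem_cj.1 (h1 hx)
    rwa [inv_inv] at h2
  have hW : ∀ e ∈ D, W e ≤ ⨆ e ∈ D, W e := fun e he => le_iSup₂_of_le e he le_rfl
  refine commutator_iSup_le hn hW fun e he => ?_
  rw [Subgroup.commutator_comm]
  refine commutator_iSup_le hn hW fun f hf => ?_
  by_cases hef : e = f
  · subst hef
    exact le_iSup₂_of_le e he le_rfl
  · rw [commutator_eq_bot_iff_le_centralizer.2 (hc e he f hf hef)]
    exact bot_le

end ind

section wr

variable {G X : Type} [Group G] [MulAction G X]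

/-- block groups of an invariant set -/
structure Wr (N : Subgroup G) (D : Set X) (W : X → Subgroup G) : Prop where
  fin : D.Finite
  stab : N ≤ setStab G D
  le : ∀ e ∈ D, ⁅W e, W e⁆ ≤ N
  conj : ∀ γ ∈ N, ∀ e ∈ D, cj γ (W e) ≤ W (γ • e)
  comm : ∀ e ∈ D, ∀ f ∈ D, e ≠ f → W e ≤ centralizer (W f : Set G)
  fix : ∀ e ∈ D, W e ≤ ptStab G D
  base : N ⊓ ptStab G D ≤ ⨆ e ∈ D, W e

namespace Wr

variable {N : Subgroup G} {D : Set X} {W : X → Subgroup G} (w : Wr N D W)
include w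

theorem norm_base : N ≤ normalizer ((N ⊓ ptStab G D : Subgroup G) : Set G) :=
  norm_inf le_normalizer (norm_of_conj fun _ ha _ hx => conj_mem_ptStab (w.stab ha) hx)

theorem base_norm {e : X} (he : e ∈ D) : N ⊓ ptStab G D ≤ normalizer (W e : Set G) :=
  norm_of_conj fun a ha x hx => by
    have h1 := w.conj a ha.1 e he (conj_mem_cj hx a)
    rwa [ha.2 e he] at h1

theorem comm_le_base {e : X} (he : e ∈ D) : ⁅W e, W e⁆ ≤ N ⊓ ptStab G D :=
  le_inf (w.le e he) ((commutator_le_left_of_norm le_normalizer).trans (w.fix e he))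

theorem sol_base (h : ∀ e ∈ D, Group.IsSolvable (W e)) : Group.IsSolvable (N ⊓ ptStab G D : Subgroup G) :=
  sol_of_le w.base (iSup_ind (P := fun A => Group.IsSolvable A) w.fin w.comm inferInstance (fun _ _ => sol_sup) h)

theorem comm' {e f : X} (he : e ∈ D) (hf : f ∈ D) (hef : e ≠ f) :
    ⁅W e, W e⁆ ≤ centralizer ((⁅W f, W f⁆ : Subgroup G) : Set G) :=
  (commutator_le_left_of_norm le_normalizer).trans ((w.comm e he f hf hef).trans
    (centralizer_le (commutator_le_left_of_norm le_normalizer)))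

theorem base_comm : ⁅N ⊓ ptStab G D, N ⊓ ptStab G D⁆ ≤ ⨆ e ∈ D, ⁅W e, W e⁆ :=
  (commutator_mono w.base w.base).trans (comm_iSup_le w.comm)

theorem conj' {γ : G} (hγ : γ ∈ N) {e : X} (he : e ∈ D) : cj γ ⁅W e, W e⁆ ≤ ⁅W (γ • e), W (γ • e)⁆ := by
  rw [cj_commutator]
  exact commutator_mono (w.conj γ hγ e he) (w.conj γ hγ e he)

theorem norm_iSup : N ≤ normalizer ((⨆ e ∈ D, ⁅W e, W e⁆ : Subgroup G) : Set G) := by
  refine norm_of_conj fun a ha x hx => ?_
  have h1 : (⨆ e ∈ D, ⁅W e, W e⁆) ≤ cj a⁻¹ (⨆ e ∈ D, ⁅W e, W e⁆) := iSup₂_le fun e he =>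
    cj_le_iff.1 ((w.conj' ha he).trans (le_iSup₂_of_le (a • e) ((w.stab ha e).1 he) le_rfl))
  have h2 := mem_cj.1 (h1 hx)
  rwa [inv_inv] at h2

/-- the image of a subgroup in the symmetric group -/
def top (L : Subgroup G) : Subgroup (Equiv.Perm D) := (L.subgroupOf N).map (permOn N D w.stab)

theorem top_eq_bot {L : Subgroup G} (hL : L ≤ N) (h : w.top L = ⊥) : L ≤ N ⊓ ptStab G D := by
  refine le_inf hL fun a ha x hx => ?_
  have h1 : permOn N D w.stab ⟨a, hL ha⟩ ∈ w.top L := ⟨_, ha, rfl⟩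
  rw [h, mem_bot] at h1
  have h2 := permOn_apply N D w.stab ⟨a, hL ha⟩ ⟨x, hx⟩
  rw [h1] at h2
  exact h2.symm

theorem top_base {L : Subgroup G} (h : L ≤ N ⊓ ptStab G D) : w.top L = ⊥ := by
  rw [eq_bot_iff]
  rintro _ ⟨a, ha, rfl⟩
  exact Equiv.ext fun x => Subtype.ext ((h ha).2 x x.2)

theorem top_norm {L : Subgroup G} (hn : N ≤ normalizer (L : Set G)) :
    w.top N ≤ normalizer (w.top L : Set (Equiv.Perm D)) := by
  refine norm_of_conj ?_
  rintro _ ⟨a, -, rfl⟩ _ ⟨x, hx, rfl⟩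
  exact ⟨a * x * a⁻¹, conj_mem_of_norm hn a.2 hx, by rw [map_mul, map_mul, map_inv]⟩

theorem top_comm {L L' : Subgroup G} (hL : L ≤ N) (hL' : L' ≤ N) : ⁅w.top L, w.top L'⁆ ≤ w.top ⁅L, L'⁆ := by
  rw [top, top, ← map_commutator]
  refine map_mono (map_le_iff_le_comap.1 ?_)
  rw [map_commutator, map_subgroupOf_eq_of_le hL, map_subgroupOf_eq_of_le hL']

theorem sol_top {L : Subgroup G} (hL : L ≤ N) (h : Group.IsSolvable L) : Group.IsSolvable (w.top L) :=
  sol_map _ (Group.isSolvable_of_surjective (f := (subgroupOfEquivOfLe hL).symm.toMonoidHom)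
    (subgroupOfEquivOfLe hL).symm.surjective)

theorem sol_of_top (h1 : Group.IsSolvable (N ⊓ ptStab G D : Subgroup G)) (h2 : Group.IsSolvable (w.top N)) :
    Group.IsSolvable N := by
  have h3 : Group.IsSolvable (N.subgroupOf N) := by
    refine sol_of_map (permOn N D w.stab) ?_ h2
    refine sol_of_map_inj N.subtype_injective (sol_of_le ?_ h1)
    rintro _ ⟨a, ha, rfl⟩
    refine ⟨a.2, fun x hx => ?_⟩
    have h4 := permOn_apply N D w.stab a ⟨x, hx⟩
    rw [MonoidHom.mem_ker.1 ha.2] at h4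
    exact h4.symm
  exact Group.isSolvable_of_surjective (f := (subgroupOfEquivOfLe (le_refl N)).toMonoidHom)
    (subgroupOfEquivOfLe (le_refl N)).surjective

variable [Finite G] {r : ℕ} {Q La Lb : Subgroup G}

/-- `La` in the base group, `Lb` moving every block -/
theorem comm_block (h : Sit r N Q La Lb) (hLa : La ≤ N ⊓ ptStab G D)
    (disj : ∀ e ∈ D, ∀ f ∈ D, e ≠ f → W e ⊓ W f = ⊥) {e : X} (he : e ∈ D) {b : G} (hb : b ∈ Lb) (hne : b • e ≠ e) :
    ⁅La, ⁅W e, W e⁆⁆ ≤ Q := by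
  have hf : b • e ∈ D := (w.stab (h.Lb_le hb) e).1 he
  set f := b • e with hfdef
  have hc := w.comm' he hf hne.symm
  have hcomm : ∀ x ∈ ⁅W e, W e⁆, ∀ y ∈ ⁅W f, W f⁆, y * x = x * y := fun x hx y hy => mem_centralizer_iff.1 (hc hx) y hy
  have hKe : N ⊓ ptStab G D ≤ normalizer ((⁅W e, W e⁆ : Subgroup G) : Set G) :=
    norm_commutator (w.base_norm he) (w.base_norm he)
  have hKf : N ⊓ ptStab G D ≤ normalizer ((⁅W f, W f⁆ : Subgroup G) : Set G) :=
    norm_commutator (w.base_norm hf) (w.base_norm hf)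
  let Z : Subgroup G :=
    { carrier := {x | x ∈ ⁅W e, W e⁆ ∧ ∃ y ∈ ⁅W f, W f⁆, x * y ∈ Q}
      one_mem' := ⟨one_mem _, 1, one_mem _, by rw [mul_one]; exact one_mem _⟩
      mul_mem' := by
        rintro x x' ⟨hx, y, hy, h1⟩ ⟨hx', y', hy', h2⟩
        refine ⟨mul_mem hx hx', y * y', mul_mem hy hy', ?_⟩
        have e1 : x * x' * (y * y') = x * y * (x' * y') := by
          rw [mul_assoc, mul_assoc, ← mul_assoc x', ← hcomm x' hx' y hy, mul_assoc]
        rw [e1]
        exact mul_mem h1 h2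
      inv_mem' := by
        rintro x ⟨hx, y, hy, h1⟩
        refine ⟨inv_mem hx, y⁻¹, inv_mem hy, ?_⟩
        rw [← mul_inv_rev, hcomm x hx y hy]
        exact inv_mem h1 }
  have hZ : Z ≤ Q := by
    refine h.isO.le_of_sub inf_le_left w.norm_base (fun x hx => w.comm_le_base he hx.1) ?_ (norm_of_conj ?_)
    · rintro ⟨x, hx, y, hy, h1⟩
      obtain ⟨k, hk⟩ := h.isO.pg ⟨_, h1⟩
      have h2 : (x * y) ^ r ^ k = 1 := congrArg Subtype.val hk
      rw [(show Commute x y from (hcomm x hx y hy).symm).mul_pow] at h2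
      refine ⟨k, Subtype.ext ?_⟩
      change x ^ r ^ k = 1
      rw [← mem_bot, ← disj e he f hf hne.symm]
      refine ⟨commutator_le_left_of_norm le_normalizer (pow_mem hx _), ?_⟩
      rw [eq_inv_of_mul_eq_one_left h2]
      exact commutator_le_left_of_norm le_normalizer (inv_mem (pow_mem hy _))
    · rintro a ha x ⟨hx, y, hy, h1⟩
      refine ⟨conj_mem_of_norm hKe ha hx, _, conj_mem_of_norm hKf ha hy, ?_⟩
      have h2 := conj_mem_of_norm h.isO.norm ha.1 h1
      rwa [show a * (x * y) * a⁻¹ = a * x * a⁻¹ * (a * y * a⁻¹) by group] at h2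
  rw [commutator_le]
  intro a ha n hn
  have hn' : b * n⁻¹ * b⁻¹ ∈ ⁅W f, W f⁆ := w.conj' (h.Lb_le hb) he (conj_mem_cj (inv_mem hn) b)
  have h1 : n * (b * n⁻¹ * b⁻¹) ∈ Lb := by
    rw [show n * (b * n⁻¹ * b⁻¹) = n * b * n⁻¹ * b⁻¹ by group]
    exact mul_mem (conj_mem_of_norm h.Lb_norm (w.le e he hn) hb) (inv_mem hb)
  have h2 := h.comm (commutator_mem_commutator ha h1)
  have h3 : ⁅a, b * n⁻¹ * b⁻¹⁆ ∈ ⁅W f, W f⁆ := by
    rw [commutatorElement_def]
    exact mul_mem (conj_mem_of_norm hKf (hLa ha) hn') (inv_mem hn')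
  refine hZ ⟨?_, _, h3, ?_⟩
  · rw [commutatorElement_def]
    exact mul_mem (conj_mem_of_norm hKe (hLa ha) hn) (inv_mem hn)
  · have e1 : ⁅a, n * (b * n⁻¹ * b⁻¹)⁆ = ⁅a, n⁆ * (n * ⁅a, b * n⁻¹ * b⁻¹⁆ * n⁻¹) := by
      simp only [commutatorElement_def]; group
    rwa [e1, ← hcomm n hn _ h3, mul_inv_cancel_right] at h2

theorem false_of_blocks (h : Sit r N Q La Lb) (hLa : La ≤ N ⊓ ptStab G D) (hc : ∀ e ∈ D, ⁅La, ⁅W e, W e⁆⁆ ≤ Q) :
    False := by
  refine h.not_La (h.le_of_nil h.La_le h.La_norm h.genA ?_)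
  rw [Subgroup.commutator_comm]
  exact (commutator_mono le_rfl ((commutator_mono hLa hLa).trans w.base_comm)).trans
    (commutator_iSup_le h.isO.norm w.le hc)

/-- **the wreath lemma** -/
theorem false [Fintype D] [DecidableEq D] (h : Sit r N Q La Lb)
    (disj : 5 ≤ Fintype.card D → ∀ e ∈ D, ∀ f ∈ D, e ≠ f → W e ⊓ W f = ⊥) (hs : ∀ e ∈ D, Group.IsSolvable (W e))
    (ha : ∀ e ∈ D, Cm ⁅W e, W e⁆ ∨ P23 (W e)) (alt : alternatingGroup D ≤ w.top N) : False := by
  have h5 : 5 ≤ Fintype.card D := by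
    by_contra hlt
    refine h.nsol (w.sol_of_top (w.sol_base hs) ?_)
    have : Group.IsSolvable (Equiv.Perm D) := by
      refine (Sm.of_23 3 1 ?_).sol
      rw [Nat.card_eq_fintype_card, Fintype.card_perm]
      exact Nat.factorial_dvd_factorial (n := 4) (by omega)
    infer_instance
  have hsim := alternatingGroup.isSimpleGroup (α := D) (by rwa [Nat.card_eq_fintype_card])
  have hperf := commutator_alternatingGroup_eq_self (α := D) (by rwa [Nat.card_eq_fintype_card])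
  have hne : alternatingGroup D ≠ ⊥ := (nontrivial_iff_ne_bot _).1 inferInstance
  have key : ∀ {L : Subgroup G}, L ≤ N → N ≤ normalizer (L : Set G) →
      L ≤ N ⊓ ptStab G D ∨ alternatingGroup D ≤ w.top L := fun hL hn =>
    (H508.AltHom.perm_key h5 (alt.trans (w.top_norm hn))).imp (w.top_eq_bot hL) id
  have mov : ∀ {L : Subgroup G}, alternatingGroup D ≤ w.top L → ∀ e ∈ D, ∀ f ∈ D, ∃ b ∈ L, b • e = f := by
    intro L hL e he f hf
    have := alternatingGroup.isPretransitive_of_three_le_card D (by rw [Nat.card_eq_fintype_card]; omega)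
    obtain ⟨σ, hσ⟩ := MulAction.exists_smul_eq (alternatingGroup D) (⟨e, he⟩ : D) ⟨f, hf⟩
    obtain ⟨b, hb, e1⟩ := hL σ.2
    refine ⟨b, hb, ?_⟩
    rw [← permOn_apply N D w.stab b ⟨e, he⟩, e1]
    exact congrArg Subtype.val hσ
  have hQ : Q ≤ N ⊓ ptStab G D := by
    refine (key h.isO.le h.isO.norm).resolve_right fun h1 => ?_
    have h2 := sol_of_le h1 (w.sol_top h.isO.le h.sol_Q)
    have h3 := IsSimpleGroup.comm_iff_isSolvable.2 h2
    refine hne ?_
    rw [← hperf, commutator_eq_bot_iff_le_centralizer]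
    exact cm_iff.1 fun a ha b hb => congrArg Subtype.val (h3 ⟨a, ha⟩ ⟨b, hb⟩)
  have one : ∀ {La Lb : Subgroup G}, Sit r N Q La Lb → La ≤ N ⊓ ptStab G D → alternatingGroup D ≤ w.top Lb → False := by
    intro La Lb h hLa hLb
    refine w.false_of_blocks h hLa fun e he => ?_
    have : Nontrivial D := Fintype.one_lt_card_iff_nontrivial.1 (by omega)
    obtain ⟨f, hf⟩ := exists_ne (⟨e, he⟩ : D)
    obtain ⟨b, hb, e1⟩ := mov hLb e he f f.2
    exact w.comm_block h hLa (disj h5) he hb fun e2 => hf (Subtype.ext (e1.symm.trans e2))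
  rcases key h.La_le h.La_norm with hA | hA <;> rcases key h.Lb_le h.Lb_norm with hB | hB
  · by_cases hc : ∃ e ∈ D, Cm ⁅W e, W e⁆
    · obtain ⟨e, he, hc⟩ := hc
      have h1 : ∀ f ∈ D, Cm ⁅W f, W f⁆ := fun f hf => by
        obtain ⟨b, hb, e1⟩ := mov alt f hf e he
        have h2 := w.conj' hb hf
        rw [e1] at h2
        intro x hx y hy
        have h3 := hc _ (h2 (conj_mem_cj hx b)) _ (h2 (conj_mem_cj hy b))
        apply (MulAut.conj b).injective
        rw [map_mul, map_mul]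
        exact h3
      have h2 : (⨆ e ∈ D, ⁅W e, W e⁆) ≤ Q := h.le_of_comm (iSup₂_le w.le) w.norm_iSup
        (iSup_ind (P := Cm) w.fin (fun _ he _ hf => w.comm' he hf) (cm_iff.2 bot_le) (fun _ _ => Cm.sup) h1)
      refine w.false_of_blocks h hA fun f hf => le_trans ?_ ((le_iSup₂_of_le f hf le_rfl).trans h2)
      exact commutator_le_right_of_norm (hA.trans (norm_commutator (w.base_norm hf) (w.base_norm hf)))
    · have h1 : P23 (N ⊓ ptStab G D) := P23.of_le w.base (iSup_ind (P := P23) w.fin w.comm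
        (fun s hs hd => absurd (by simpa using hd) hs.ne_one) (fun _ _ => P23.sup)
        fun e he => (ha e he).resolve_left fun h2 => hc ⟨e, he, h2⟩)
      obtain ⟨s, t, h2, h3, h4, h6, h7, h8, h9⟩ := h.primes
      have : Fact r.Prime := ⟨h.prime⟩
      have hr : r ∣ Nat.card Q := by
        rcases h.isO.pg.card_eq_or_dvd with e | e
        · exact absurd (card_eq_one.1 e) h.Q_ne
        · exact e
      have a1 := P23.of_le hA h1 s h2 h8
      have a2 := P23.of_le hB h1 t h3 h9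
      have a3 := P23.of_le hQ h1 r h.prime hr
      omega
  · exact one h hA hB
  · exact one h.symm hB hA
  · refine hne ?_
    rw [← hperf, eq_bot_iff]
    refine (commutator_mono hA hB).trans ((w.top_comm h.La_le h.Lb_le).trans (w.top_base (h.comm.trans hQ)).le)

end Wr

end wr

end Cfsg.Agent.T44.Cl
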