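import Cfsg.Agent.T44.Cl.Key2
import Cfsg.Agent.T44.Cl.Wr
import Cfsg.Agent.DS.Cl.Idem

/-!
# S3544, classical groups: the isometry group of a block inside the isometry group of the ring (helper34)
-/

set_option autoImplicit false

namespace Cfsg.Agent.T44.Cl

open Cfsg Cfsg.Agent.T44 Cfsg.Agent.DS Cfsg.Agent.DS.Cl Subgroup
open scoped commutatorElement

variable {A : Type} [Ring A] [StarRing A] {F : FR A}

local notation "κ" => DS.Cl.cj

omit [StarRing A] in
theorem finite_ringAut [Finite A] : Finite (RingAut A) :=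
  Finite.of_injective (fun γ : RingAut A => (γ : A → A)) DFunLike.coe_injective

theorem up_mul (B : Blk A) {x y : A} (hx : x ∈ B.car) (hy : y ∈ B.car) :
    (x + (1 - B.e)) * (y + (1 - B.e)) = x * y + (1 - B.e) := by
  rw [add_mul, mul_add, mul_add, mul_sub, mul_one, B.mul_e x hx, sub_mul, one_mul, B.e_mul y hy, sub_mul, one_mul,
    mul_sub, mul_one, B.idem]
  abel

/-- the isometries supported on a block -/
def WB (F : FR A) (B : Blk A) : Subgroup Aˣ where
  carrier := {u | u ∈ F.Iso ∧ (u : A) - (1 - B.e) ∈ B.car}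
  one_mem' := ⟨one_mem _, by rw [Units.val_one, sub_sub_cancel]; exact B.e_mem⟩
  mul_mem' := by
    rintro u v ⟨hu, hu'⟩ ⟨hv, hv'⟩
    refine ⟨mul_mem hu hv, ?_⟩
    have h1 := up_mul B hu' hv'
    rw [sub_add_cancel, sub_add_cancel] at h1
    rw [Units.val_mul, h1, add_sub_cancel_right]
    exact mul_mem hu' hv'
  inv_mem' := by
    rintro u ⟨hu, hu'⟩
    refine ⟨inv_mem hu, ?_⟩
    have h1 := B.star_mem _ hu'
    rwa [star_sub, star_sub, star_one, B.star_e, ← FR.Iso.inv_eq hu] at h1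

theorem WB_le (B : Blk A) : WB F B ≤ F.Iso := fun _ h => h.1

theorem up_mem' [Finite A] (B : BD F) (hB : B.e * F.l * B.e - B.l ∈ F.L) {u : A} (hu : u ∈ B.car)
    (h1 : u * star u = B.e) (h2 : u * B.l * star u - B.l ∈ F.L) :
    mkU _ (Levi.up_mul_star (B := fun _ : Unit => B) (i := ()) hu h1) ∈ F.Iso := by
  refine ⟨Levi.up_mul_star (B := fun _ : Unit => B) (i := ()) hu h1, ?_⟩
  rw [mkU_val]
  have se := B.star_e
  have c1 := F.cross_mem (a := u) (b := 1 - B.e) (by rw [sub_mul, one_mul, B.e_mul _ (B.star_mem u hu), sub_self])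
  have c2 := F.cross_mem (a := B.e) (b := 1 - B.e) (by rw [se, sub_mul, one_mul, B.idem, sub_self])
  have c3 := F.conj_mem hB u
  rw [mul_sub, sub_mul, ← mul_assoc, ← mul_assoc, B.mul_e u hu, mul_assoc (u * F.l), B.e_mul _ (B.star_mem u hu)] at c3
  rw [star_sub, star_one, se] at c1 c2
  convert F.L.sub_mem (F.L.add_mem (F.L.add_mem c3 h2) (F.L.sub_mem c1 c2)) hB using 1
  rw [star_add, star_sub, star_one, se]
  noncomm_ring

/-- the isometry group of a block -/
theorem exists_WB_equiv [Finite A] (B : BD F) (hB : B.e * F.l * B.e - B.l ∈ F.L) :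
    Nonempty (B.fr.Iso ≃* WB F B.toBlk) := by
  have hm : ∀ u : B.fr.Iso, B.toBlk.val (u : B.toBlk.Tˣ) * star (B.toBlk.val (u : B.toBlk.Tˣ)) = B.e :=
    fun u => congrArg B.toBlk.val u.2.1
  let f : B.fr.Iso →* WB F B.toBlk :=
    { toFun := fun u => ⟨_, up_mem' B hB (B.toBlk.val_mem _) (hm u) u.2.2, by
        rw [mkU_val, add_sub_cancel_right]; exact B.toBlk.val_mem _⟩
      map_one' := Subtype.ext (Units.ext (add_sub_cancel _ _))
      map_mul' := fun u v => Subtype.ext (Units.ext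
        (up_mul B.toBlk (B.toBlk.val_mem (u : B.toBlk.Tˣ)) (B.toBlk.val_mem (v : B.toBlk.Tˣ))).symm) }
  refine ⟨MulEquiv.ofBijective f ⟨fun u v e => ?_, fun w => ?_⟩⟩
  · have h1 : B.toBlk.val (u : B.toBlk.Tˣ) + (1 - B.e) = B.toBlk.val (v : B.toBlk.Tˣ) + (1 - B.e) :=
      congrArg (fun t : WB F B.toBlk => ((t : Aˣ) : A)) e
    exact Subtype.ext (Units.ext (B.toBlk.val_inj (add_right_cancel h1)))
  · obtain ⟨w, hw, hw'⟩ := w
    obtain ⟨x, hx⟩ : ∃ x, x = (w : A) - (1 - B.e) := ⟨_, rfl⟩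
    rw [← hx] at hw'
    have e1 : (w : A) = x + (1 - B.e) := by rw [hx, sub_add_cancel]
    have h1 := B.mul_e _ hw'
    have h2 := B.e_mul _ (B.star_mem _ hw')
    have h3 := B.idem
    have h4 : x * star x = B.e := by
      have h5 := hw.1
      rw [e1, star_add, star_sub, star_one, B.star_e, up_mul B.toBlk hw' (B.star_mem _ hw')] at h5
      rw [eq_sub_of_add_eq h5, sub_sub_cancel]
    have h5 : B.e * w = x := by rw [e1, mul_add, B.e_mul _ hw', mul_sub, mul_one, h3, sub_self, add_zero]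
    have h6 : x * B.l * star x - B.l ∈ F.L := by
      have c1 := F.conj_mem hw.2 B.e
      have c2 := F.conj_mem hB x
      rw [mul_sub, sub_mul, ← mul_assoc, ← mul_assoc, h5, mul_assoc (x * F.l), ← star_mul, h5, B.star_e] at c1
      rw [mul_sub, sub_mul, ← mul_assoc, ← mul_assoc, h1, mul_assoc (x * F.l), h2] at c2
      convert F.L.add_mem (F.L.sub_mem c1 c2) hB using 1
      abel
    refine ⟨⟨mkU (B.toBlk.mk' x hw') (B.toBlk.val_inj h4), B.toBlk.val_inj h4, h6⟩, Subtype.ext (Units.ext e1.symm)⟩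

theorem dich_WB [Finite A] (B : BD F) (hB : B.e * F.l * B.e - B.l ∈ F.L) (h0 : B.e ≠ 0) : Dich (WB F B.toBlk) := by
  obtain ⟨e⟩ := exists_WB_equiv B hB
  exact (key (B.ss.resolve_left h0) B.fr).congr e

omit [StarRing A] in
/-- a block group normalised by `Q` is small -/
theorem sm_of_ch [Finite A] {r : ℕ} {K Q : Subgroup (RingAut A)} (h : Ch r K Q) {W : Subgroup Aˣ} (hW : Dich W)
    (hK : ⁅W.map (κ A), W.map (κ A)⁆ ≤ K) (hQ : Q ≤ normalizer (W.map (κ A) : Set (RingAut A))) : Sm W := by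
  have := finite_ringAut (A := A)
  refine hW.resolve_left ?_
  let f : commutator W →* RingAut A := (κ A).comp (W.subtype.comp (commutator W).subtype)
  have hr : f.range = ⁅W.map (κ A), W.map (κ A)⁆ := by
    rw [MonoidHom.range_comp, MonoidHom.range_comp, range_subtype, map_subtype_commutator, map_commutator]
  refine h.crit f (fun x hx => mem_center_iff.2 fun g => ?_) (hr ▸ hK) (hr ▸ norm_commutator hQ hQ)
  exact Subtype.ext (Subtype.ext (units_comm (cj_eq_one_iff.1 hx) _))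

theorem Sm.sol_map {G H : Type*} [Group G] [Group H] {W : Subgroup G} (h : Sm W) (f : G →* H) :
    Group.IsSolvable (W.map f) := Cl.sol_map f h.sol

theorem Sm.alt_map {G H : Type*} [Group G] [Group H] {W : Subgroup G} (h : Sm W) (f : G →* H) :
    Cm ⁅W.map f, W.map f⁆ ∨ P23 (W.map f) := by
  refine h.alt.imp (fun h1 => ?_) fun h1 s hs hd => h1 s hs (hd.trans (card_map_dvd _ _))
  rw [← map_commutator, ← map_subtype_commutator, map_map]
  rintro _ ⟨a, ha, rfl⟩ _ ⟨b, hb, rfl⟩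
  rw [← map_mul, ← map_mul, h1 a ha b hb]

end Cfsg.Agent.T44.Cl
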