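import Mathlib

/-!
# S3544: a group of order 25 on an 8-dimensional space over `𝔽₂` or `𝔽₃` (helper34)

* `fix_eq_zero` : a faithful group of order 25 has no nonzero fixed vector;
* `triv_of_norm` : with an invariant nondegenerate symmetric form, a normalized `s`-group acts trivially.
-/

set_option autoImplicit false
set_option linter.unusedSectionVars false
set_option linter.style.haveILetI false

namespace Cfsg.Agent.T44.Cl.W8

open Module

section Count

variable {G V : Type*} [Group G] [Finite V]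

/-- an invariant subset as a `G`-set -/
@[reducible] def act (ρ : G →* Function.End V) (P : Subgroup G) (X : Set V) (hX : ∀ g ∈ P, ∀ x ∈ X, ρ g x ∈ X) :
    MulAction P X where
  smul g x := ⟨ρ g.1 x.1, hX g.1 g.2 x.1 x.2⟩
  one_smul x := Subtype.ext (by
    change ρ 1 x.1 = x.1
    rw [map_one]; rfl)
  mul_smul g h x := Subtype.ext (by
    change ρ (g.1 * h.1) x.1 = ρ g.1 (ρ h.1 x.1)
    rw [map_mul]; rfl)

theorem card_modEq (ρ : G →* Function.End V) {p : ℕ} [Fact p.Prime] {P : Subgroup G} (hP : IsPGroup p P) (X : Set V)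
    (hX : ∀ g ∈ P, ∀ x ∈ X, ρ g x ∈ X) :
    Nat.card X ≡ Nat.card {x : V | x ∈ X ∧ ∀ g ∈ P, ρ g x = x} [MOD p] := by
  letI := act ρ P X hX
  have h := hP.card_modEq_card_fixedPoints X
  have e : Nat.card (MulAction.fixedPoints P X) = Nat.card {x : V | x ∈ X ∧ ∀ g ∈ P, ρ g x = x} := by
    refine Nat.card_congr ⟨fun x => ⟨x.1.1, x.1.2, fun g hg => congrArg Subtype.val (x.2 ⟨g, hg⟩)⟩,
      fun x => ⟨⟨x.1, x.2.1⟩, fun g => Subtype.ext (x.2.2 g.1 g.2)⟩, fun _ => rfl, fun _ => rfl⟩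
  rwa [e] at h

theorem card_dvd (ρ : G →* Function.End V) {P : Subgroup G} (X : Set V)
    (hX : ∀ g ∈ P, ∀ x ∈ X, ρ g x ∈ X) (hf : ∀ g ∈ P, ∀ x ∈ X, ρ g x = x → g = 1) : Nat.card P ∣ Nat.card X := by
  letI := act ρ P X hX
  have h : ∀ b : X, MulAction.stabilizer P b = ⊥ := by
    intro b
    rw [eq_bot_iff]
    intro g hg
    rw [Subgroup.mem_bot]
    exact Subtype.ext (hf g.1 g.2 b.1 b.2 (congrArg Subtype.val hg))
  rw [Nat.card_congr (MulAction.selfEquivOrbitsQuotientProd h), Nat.card_prod]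
  exact Dvd.intro_left _ rfl

end Count

variable {s : ℕ} [hs : Fact s.Prime] {G V : Type*} [Group G] [AddCommGroup V] [Module (ZMod s) V] [Finite V]

/-- the underlying action on the set -/
def und (ρ : G →* End (ZMod s) V) : G →* Function.End V where
  toFun g := fun x => ρ g x
  map_one' := by funext x; rw [map_one]; rfl
  map_mul' g h := by funext x; rw [map_mul]; rfl

/-- the common fixed vectors -/
def Fx (ρ : G →* End (ZMod s) V) (P : Subgroup G) : Submodule (ZMod s) V where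
  carrier := {x | ∀ g ∈ P, ρ g x = x}
  add_mem' hx hy g hg := by rw [map_add, hx g hg, hy g hg]
  zero_mem' g _ := map_zero _
  smul_mem' c x hx g hg := by rw [map_smul, hx g hg]

theorem card_sub (U : Submodule (ZMod s) V) : Nat.card U = s ^ finrank (ZMod s) U := by
  rw [Module.natCard_eq_pow_finrank (K := ZMod s), Nat.card_zmod]

theorem pow_mod (h23 : s = 2 ∨ s = 3) {a b : ℕ} (ha : a ≤ 8) (hb : b ≤ 8) (h : s ^ a ≡ s ^ b [MOD 5]) :
    a % 4 = b % 4 := by
  rcases h23 with rfl | rfl <;> interval_cases a <;> interval_cases b <;> simp_all [Nat.ModEq]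

theorem rk_le (h8 : finrank (ZMod s) V = 8) (U : Submodule (ZMod s) V) : finrank (ZMod s) U ≤ 8 :=
  h8 ▸ Submodule.finrank_le U

theorem rk_mod (h23 : s = 2 ∨ s = 3) (h8 : finrank (ZMod s) V = 8) (ρ : G →* End (ZMod s) V) {P : Subgroup G}
    (hP : Nat.card P = 25) (U : Submodule (ZMod s) V) (hU : ∀ g ∈ P, ∀ x ∈ U, ρ g x ∈ U) :
    finrank (ZMod s) U % 4 = finrank (ZMod s) ↥(U ⊓ Fx ρ P) % 4 := by
  haveI : Fact (Nat.Prime 5) := ⟨by norm_num⟩
  have hp : IsPGroup 5 P := IsPGroup.of_card (n := 2) (by rw [hP]; norm_num)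
  have h := card_modEq (und ρ) hp (U : Set V) hU
  have e : Nat.card {x : V | x ∈ (U : Set V) ∧ ∀ g ∈ P, und ρ g x = x} = Nat.card ↥(U ⊓ Fx ρ P) := rfl
  rw [e, card_sub (U ⊓ Fx ρ P)] at h
  have e2 : Nat.card (U : Set V) = s ^ finrank (ZMod s) U := card_sub U
  rw [e2] at h
  exact pow_mod h23 (rk_le h8 _) (rk_le h8 _) h

theorem comm25 {P : Subgroup G} (hP : Nat.card P = 25) {g h : G} (hg : g ∈ P) (hh : h ∈ P) : g * h = h * g := by
  haveI : Fact (Nat.Prime 5) := ⟨by norm_num⟩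
  have : IsMulCommutative P := ⟨⟨(IsPGroup.commGroupOfCardEqPrimeSq (p := 5) (by rw [hP]; norm_num)).mul_comm⟩⟩
  exact congrArg Subtype.val (this.1.1 (⟨g, hg⟩ : P) ⟨h, hh⟩)

theorem fx_inv (ρ : G →* End (ZMod s) V) {P : Subgroup G} (hP : Nat.card P = 25) {x : G} (hx : x ∈ P) :
    ∀ g ∈ P, ∀ v ∈ Fx ρ (Subgroup.zpowers x), ρ g v ∈ Fx ρ (Subgroup.zpowers x) := by
  intro g hg v hv y hy
  have hyP : y ∈ P := (Subgroup.zpowers_le.2 hx) hy
  rw [← Module.End.mul_apply, ← map_mul, comm25 hP hyP hg, map_mul, Module.End.mul_apply, hv y hy]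

theorem mem_fx_zpowers (ρ : G →* End (ZMod s) V) {x : G} {v : V} (h : ρ x v = v) : v ∈ Fx ρ (Subgroup.zpowers x) := by
  intro y hy
  have key : Subgroup.zpowers x ≤ (MulAction.stabilizer (Function.End V)ˣ v).comap (und ρ).toHomUnits := by
    rw [Subgroup.zpowers_le, Subgroup.mem_comap, MulAction.mem_stabilizer_iff]
    exact h
  exact key hy

/-- **A faithful group of order 25 has no nonzero fixed vector.** -/
theorem fix_eq_bot (h23 : s = 2 ∨ s = 3) (h8 : finrank (ZMod s) V = 8) (ρ : G →* End (ZMod s) V) {P : Subgroup G}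
    (hP : Nat.card P = 25) (hf : ∀ g ∈ P, (∀ v, ρ g v = v) → g = 1) : Fx ρ P = ⊥ := by
  by_contra hne
  have h0 : finrank (ZMod s) (Fx ρ P) ≠ 0 := fun h => hne (Submodule.finrank_eq_zero.1 h)
  have htop : ∀ x ∈ P, x ≠ 1 → finrank (ZMod s) (Fx ρ (Subgroup.zpowers x)) ≠ 8 := by
    intro x hx h1 h
    have : Fx ρ (Subgroup.zpowers x) = ⊤ := Submodule.eq_top_of_finrank_eq (by rw [h, h8])
    exact h1 (hf x hx fun v => (this ▸ Submodule.mem_top : v ∈ Fx ρ (Subgroup.zpowers x)) x (Subgroup.mem_zpowers x))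
  have h1 := rk_mod h23 h8 ρ hP ⊤ fun _ _ _ _ => Submodule.mem_top
  rw [top_inf_eq, finrank_top, h8] at h1
  have hle : ∀ x ∈ P, Fx ρ P ≤ Fx ρ (Subgroup.zpowers x) :=
    fun x hx v hv y hy => hv y ((Subgroup.zpowers_le.2 hx) hy)
  obtain ⟨x0, hx0, hx1⟩ : ∃ x ∈ P, x ≠ 1 := by
    by_contra hc
    push Not at hc
    have : P = ⊥ := (Subgroup.eq_bot_iff_forall P).2 hc
    rw [this, Subgroup.card_bot] at hP
    omega
  have h4 : finrank (ZMod s) (Fx ρ P) = 4 := by
    have a := htop x0 hx0 hx1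
    have b := Submodule.finrank_mono (hle x0 hx0)
    have c := rk_le h8 (Fx ρ (Subgroup.zpowers x0))
    omega
  have heq : ∀ x ∈ P, x ≠ 1 → Fx ρ (Subgroup.zpowers x) = Fx ρ P := by
    intro x hx h1
    have a := htop x hx h1
    have b := Submodule.finrank_mono (hle x hx)
    have c := rk_le h8 (Fx ρ (Subgroup.zpowers x))
    have d := rk_mod h23 h8 ρ hP _ (fx_inv ρ hP hx)
    rw [inf_eq_right.2 (hle x hx)] at d
    exact (Submodule.eq_of_le_of_finrank_eq (hle x hx) (by omega)).symm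
  have hd := card_dvd (und ρ) (P := P) ((Fx ρ P : Set V)ᶜ) (by
    intro g hg v hv hc
    apply hv
    have h2 : ρ g⁻¹ (ρ g v) = ρ g v := hc g⁻¹ (inv_mem hg)
    rw [← Module.End.mul_apply, ← map_mul, inv_mul_cancel, map_one, Module.End.one_apply] at h2
    change v ∈ Fx ρ P
    rw [h2]
    exact hc) (by
    intro g hg v hv hgv
    by_contra h1
    apply hv
    change v ∈ Fx ρ P
    rw [← heq g hg h1]
    exact mem_fx_zpowers ρ hgv)
  have e1 : Nat.card V = s ^ 8 := by
    rw [Module.natCard_eq_pow_finrank (K := ZMod s), Nat.card_zmod, h8]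
  have e2 : Nat.card (Fx ρ P : Set V) = s ^ 4 := by rw [← h4]; exact card_sub _
  have e3 := Set.ncard_add_ncard_compl (Fx ρ P : Set V)
  rw [← Nat.card_coe_set_eq, ← Nat.card_coe_set_eq, e1, e2] at e3
  rw [hP] at hd
  rcases h23 with rfl | rfl <;> omega

theorem rk_ge (h23 : s = 2 ∨ s = 3) (h8 : finrank (ZMod s) V = 8) (ρ : G →* End (ZMod s) V) {P : Subgroup G}
    (hP : Nat.card P = 25) (hf : ∀ g ∈ P, (∀ v, ρ g v = v) → g = 1) (U : Submodule (ZMod s) V)
    (hU : ∀ g ∈ P, ∀ x ∈ U, ρ g x ∈ U) (h0 : U ≠ ⊥) : 4 ≤ finrank (ZMod s) U := by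
  have a := rk_mod h23 h8 ρ hP U hU
  rw [fix_eq_bot h23 h8 ρ hP hf, inf_bot_eq, finrank_bot] at a
  have b : finrank (ZMod s) U ≠ 0 := fun h => h0 (Submodule.finrank_eq_zero.1 h)
  omega

/-- **A normalized `s`-group acts trivially.** -/
theorem triv_of_norm (h23 : s = 2 ∨ s = 3) (h8 : finrank (ZMod s) V = 8) (ρ : G →* End (ZMod s) V) {P S : Subgroup G}
    (hP : Nat.card P = 25) (hf : ∀ g ∈ P, (∀ v, ρ g v = v) → g = 1) (B : LinearMap.BilinForm (ZMod s) V)
    (hB : B.Nondegenerate) (hs' : ∀ x y, B x y = B y x) (hinv : ∀ g x y, B (ρ g x) (ρ g y) = B x y)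
    (hS : IsPGroup s S) (hN : P ≤ Subgroup.normalizer (S : Set G)) : ∀ g ∈ S, ∀ v, ρ g v = v := by
  by_contra hc
  push Not at hc
  obtain ⟨g0, hg0, v0, hv0⟩ := hc
  have hinv' : ∀ g x y, B x (ρ g y) = B (ρ g⁻¹ x) y := by
    intro g x y
    rw [← hinv g (ρ g⁻¹ x) y, ← Module.End.mul_apply, ← map_mul, mul_inv_cancel, map_one, Module.End.one_apply]
  set U := Fx ρ S with hUdef
  -- commutators lie in the orthogonal of the fixed space
  have hcomm : ∀ (R : Submodule (ZMod s) V) (g : G), (∀ u ∈ R, ρ g⁻¹ u = u) → ∀ v, ρ g v - v ∈ B.orthogonal R := by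
    intro R g hg v u hu
    change B u (ρ g v - v) = 0
    rw [map_sub, hinv', hg u hu, sub_self]
  have horth : ∀ (R : Submodule (ZMod s) V) (g : G), (∀ u ∈ R, ρ g⁻¹ u ∈ R) → ∀ v ∈ B.orthogonal R,
      ρ g v ∈ B.orthogonal R := by
    intro R g hg v hv u hu
    change B u (ρ g v) = 0
    rw [hinv']
    exact hv _ (hg u hu)
  have hUP : ∀ g ∈ P, ∀ u ∈ U, ρ g u ∈ U := by
    intro g hg u hu y hy
    have h1 : g⁻¹ * y * g⁻¹⁻¹ ∈ S := (Subgroup.mem_normalizer_iff.1 (hN (inv_mem hg)) y).1 hy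
    have h2 : y * g = g * (g⁻¹ * y * g⁻¹⁻¹) := by group
    rw [← Module.End.mul_apply, ← map_mul, h2, map_mul, Module.End.mul_apply, hu _ h1]
  -- the radical is not zero
  set R := U ⊓ B.orthogonal U with hR
  have hR0 : R ≠ ⊥ := by
    intro hb
    have h := card_modEq (und ρ) hS (B.orthogonal U : Set V) fun g hg v hv =>
      horth U g (fun u hu => by rw [hu _ (inv_mem hg)]; exact hu) v hv
    have e : Nat.card {x : V | x ∈ (B.orthogonal U : Set V) ∧ ∀ g ∈ S, und ρ g x = x} =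
        Nat.card ↥(B.orthogonal U ⊓ U) := rfl
    rw [e, inf_comm, ← hR, hb, card_sub, finrank_bot, pow_zero] at h
    have e2 : Nat.card (B.orthogonal U : Set V) = s ^ finrank (ZMod s) (B.orthogonal U) := card_sub _
    have hne : finrank (ZMod s) (B.orthogonal U) ≠ 0 := by
      intro h0
      have := hcomm U g0 (fun u hu => hu _ (inv_mem hg0)) v0
      rw [Submodule.finrank_eq_zero.1 h0, Submodule.mem_bot, sub_eq_zero] at this
      exact hv0 this
    rw [e2] at h
    have h3 : s ∣ 1 := (Nat.modEq_zero_iff_dvd.1 (h.symm.trans (Nat.modEq_zero_iff_dvd.2 (dvd_pow_self s hne))))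
    exact hs.out.one_lt.ne' (Nat.dvd_one.1 h3)
  have hRP : ∀ g ∈ P, ∀ u ∈ R, ρ g u ∈ R := fun g hg u hu =>
    ⟨hUP g hg u hu.1, horth U g (hUP _ (inv_mem hg)) u hu.2⟩
  have hiso : R ≤ B.orthogonal R := fun u hu w hw => hu.2 w hw.1
  have h4 := rk_ge h23 h8 ρ hP hf R hRP hR0
  have ho := LinearMap.BilinForm.finrank_orthogonal hB R
  have hm := Submodule.finrank_mono hiso
  have hR4 : finrank (ZMod s) R = 4 := by omega
  have hRe : R = B.orthogonal R := Submodule.eq_of_le_of_finrank_eq hiso (by omega)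
  -- an element of `P` with a fixed vector in the radical
  obtain ⟨x, hx, hx1, w, hw, hw0, hxw⟩ : ∃ x ∈ P, x ≠ 1 ∧ ∃ w ∈ R, w ≠ 0 ∧ ρ x w = w := by
    by_contra hc
    push Not at hc
    have hd := card_dvd (und ρ) (P := P) ((R : Set V) \ {0}) (by
      intro g hg v hv
      refine ⟨hRP g hg v hv.1, fun h0 => hv.2 ?_⟩
      have h1 : ρ g v = 0 := h0
      have h2 : ρ g⁻¹ (ρ g v) = v := by
        rw [← Module.End.mul_apply, ← map_mul, inv_mul_cancel, map_one, Module.End.one_apply]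
      rw [h1, map_zero] at h2
      exact h2.symm) (by
      intro g hg v hv hgv
      by_contra h1
      exact hc g hg h1 v hv.1 hv.2 hgv)
    have e2 : (R : Set V).ncard = s ^ 4 := by rw [← hR4, ← Nat.card_coe_set_eq]; exact card_sub _
    rw [Nat.card_coe_set_eq, Set.ncard_sdiff_singleton_of_mem (show (0 : V) ∈ (R : Set V) from R.zero_mem), e2, hP] at hd
    rcases h23 with rfl | rfl <;> omega
  have hRx : R ≤ Fx ρ (Subgroup.zpowers x) := by
    have a := rk_ge h23 h8 ρ hP hf (R ⊓ Fx ρ (Subgroup.zpowers x))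
      (fun g hg u hu => ⟨hRP g hg u hu.1, fx_inv ρ hP hx g hg u hu.2⟩) (by
        intro hb
        have : w ∈ R ⊓ Fx ρ (Subgroup.zpowers x) := ⟨hw, mem_fx_zpowers ρ hxw⟩
        rw [hb, Submodule.mem_bot] at this
        exact hw0 this)
    have b : R ⊓ Fx ρ (Subgroup.zpowers x) = R :=
      Submodule.eq_of_le_of_finrank_eq inf_le_left (le_antisymm (Submodule.finrank_mono inf_le_left) (by omega))
    exact b ▸ inf_le_right
  have hq : ∀ v, ρ x (ρ x v - v) = ρ x v - v := by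
    intro v
    have a := hcomm R x (fun u hu => hRx hu _ (inv_mem (Subgroup.mem_zpowers x))) v
    rw [← hRe] at a
    exact hRx a x (Subgroup.mem_zpowers x)
  have hpow : ∀ (n : ℕ) v, ρ (x ^ n) v = v + n • (ρ x v - v) := by
    intro n v
    induction n with
    | zero => simp
    | succ n ih =>
      rw [pow_succ', map_mul, Module.End.mul_apply, ih, map_add, map_nsmul, hq, succ_nsmul]
      abel
  have hxs : x ^ s = 1 := hf _ (pow_mem hx s) fun v => by
    rw [hpow, ← Nat.cast_smul_eq_nsmul (ZMod s), ZMod.natCast_self, zero_smul, add_zero]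
  have h25 : x ^ 25 = 1 := by
    have := pow_card_eq_one' (G := P) (x := ⟨x, hx⟩)
    rw [hP] at this
    exact congrArg Subtype.val this
  apply hx1
  have hc : Nat.Coprime s 25 := by rcases h23 with rfl | rfl <;> norm_num
  have := (pow_gcd_eq_one (a := x) (m := s) (n := 25)).2 ⟨hxs, h25⟩
  rwa [hc, pow_one] at this

end Cfsg.Agent.T44.Cl.W8
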